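import Mathlib.Algebra.MvPolynomial.CommRing
import Mathlib.Algebra.MvPolynomial.Eval
import Mathlib.RingTheory.Finiteness.Nakayama
import Mathlib.RingTheory.Ideal.Maximal
import Mathlib.Data.Finsupp.Lex
import Mathlib.RingTheory.Finiteness.Basic
import Mathlib.RingTheory.Ideal.Operations
import Mathlib.SetTheory.Cardinal.Order
import Mathlib.Tactic.LinearCombination

/-!
# Polynomials taking a value outside every maximal ideal are non-zero-divisors
-/

namespace Groth.Agent.H21Clif

open MvPolynomial

variable {R : Type*} [CommRing R] {σ : Type*}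

/-- McCoy: a polynomial whose coefficients generate the unit ideal is a non-zero-divisor. -/
theorem eq_zero_of_mul_eq_zero_of_eval (f : MvPolynomial σ R)
    (hf : ∀ m : Ideal R, m.IsMaximal → ∃ x : σ → R, eval x f ∉ m) {h : MvPolynomial σ R}
    (hfh : h * f = 0) : h = 0 := by
  classical
  letI : LinearOrder σ := linearOrderOfSTO WellOrderingRel
  let J : Ideal R := Ideal.span (Set.range fun t : h.support => coeff (t : σ →₀ ℕ) h)
  have hJ : ∀ t, coeff t h ∈ J := fun t => by
    by_cases ht : t ∈ h.support
    · exact Ideal.subset_span ⟨⟨t, ht⟩, rfl⟩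
    · rw [notMem_support_iff.mp ht]; exact J.zero_mem
  suffices key : ∀ m : Ideal R, m.IsMaximal → J ≤ m • J by
    ext t
    rw [coeff_zero]
    by_contra ht
    obtain ⟨m, hm, hle⟩ := Ideal.exists_le_maximal
      ((LinearMap.ker (LinearMap.toSpanSingleton R R (coeff t h))) : Ideal R) fun htop => ht (by
        have h1 : (1 : R) ∈ ((LinearMap.ker (LinearMap.toSpanSingleton R R (coeff t h))) : Ideal R) := by
          rw [htop]; trivial
        simpa using h1)
    obtain ⟨r, hr, hr0⟩ := Submodule.exists_sub_one_mem_and_smul_eq_zero_of_fg_of_le_smul m J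
      (Submodule.fg_span (Set.finite_range _)) (key m hm)
    refine hm.ne_top ((Ideal.eq_top_iff_one _).mpr ?_)
    have hrm : r ∈ m := hle (by simpa using hr0 _ (hJ t))
    simpa using sub_mem hrm hr
  intro m hm
  obtain ⟨x, hx⟩ := hf m hm
  let S := f.support.filter fun s => coeff s f ∉ m
  have hS : (S.image toLex).Nonempty := by
    rw [Finset.image_nonempty, Finset.filter_nonempty_iff]
    by_contra! hno
    exact hx (by
      rw [eval_eq]
      exact Submodule.sum_mem _ fun d hd => Ideal.mul_mem_right _ _ (hno d hd))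
  obtain ⟨s, hs, hsmax⟩ : ∃ s, coeff s f ∉ m ∧ ∀ d, toLex s < toLex d → coeff d f ∈ m := by
    refine ⟨ofLex ((S.image toLex).max' hS), ?_, fun d hd => ?_⟩
    · obtain ⟨d, hd, hdeq⟩ := Finset.mem_image.mp ((S.image toLex).max'_mem hS)
      rw [← hdeq, ofLex_toLex]
      exact (Finset.mem_filter.mp hd).2
    · by_contra hd'
      refine absurd (Finset.le_max' _ _ (Finset.mem_image_of_mem toLex
        (show d ∈ S from Finset.mem_filter.mpr
          ⟨mem_support_iff.mpr fun h0 => hd' (by rw [h0]; exact m.zero_mem), hd'⟩))) ?_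
      rw [toLex_ofLex] at hd
      exact not_le.mpr hd
  by_contra hnot
  let T := h.support.filter fun t => coeff t h ∉ m • J
  have hT : (T.image toLex).Nonempty := by
    rw [Finset.image_nonempty, Finset.filter_nonempty_iff]
    by_contra! hno
    refine hnot (Ideal.span_le.mpr ?_)
    rintro _ ⟨⟨t, ht⟩, rfl⟩
    exact hno t ht
  obtain ⟨t, ht, htmax⟩ : ∃ t, coeff t h ∉ m • J ∧ ∀ d, toLex t < toLex d → coeff d h ∈ m • J := by
    refine ⟨ofLex ((T.image toLex).max' hT), ?_, fun d hd => ?_⟩
    · obtain ⟨d, hd, hdeq⟩ := Finset.mem_image.mp ((T.image toLex).max'_mem hT)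
      rw [← hdeq, ofLex_toLex]
      exact (Finset.mem_filter.mp hd).2
    · by_contra hd'
      refine absurd (Finset.le_max' _ _ (Finset.mem_image_of_mem toLex
        (show d ∈ T from Finset.mem_filter.mpr
          ⟨mem_support_iff.mpr fun h0 => hd' (by rw [h0]; exact Submodule.zero_mem _), hd'⟩))) ?_
      rw [toLex_ofLex] at hd
      exact not_le.mpr hd
  have hmul : coeff t h * coeff s f ∈ m • J := by
    have h0 := congrArg (coeff (t + s)) hfh
    rw [coeff_mul, coeff_zero, Finset.sum_eq_add_sum_sdiff_singleton_of_mem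
      (show (t, s) ∈ Finset.antidiagonal (t + s) from Finset.mem_antidiagonal.mpr rfl)] at h0
    rw [eq_neg_of_add_eq_zero_left h0]
    refine neg_mem (Submodule.sum_mem _ fun p hp => ?_)
    obtain ⟨hp, hne⟩ := Finset.mem_sdiff.mp hp
    rw [Finset.mem_singleton] at hne
    have hsum : p.1 + p.2 = t + s := Finset.mem_antidiagonal.mp hp
    rcases lt_trichotomy (toLex s) (toLex p.2) with hlt | heq | hgt
    · rw [mul_comm]
      exact Submodule.smul_mem_smul (hsmax _ hlt) (hJ _)
    · have h2 : p.2 = s := (toLex.injective heq).symm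
      rw [h2] at hsum
      exact absurd (Prod.ext (add_right_cancel hsum) h2) hne
    · refine (m • J).mul_mem_right _ (htmax _ ?_)
      by_contra hle
      exact (add_lt_add_of_le_of_lt (not_lt.mp hle) hgt).ne (congrArg toLex hsum)
  obtain ⟨a, i, hi, hai⟩ : ∃ a, ∃ i ∈ m, a * coeff s f + i = 1 := hm.exists_inv hs
  refine ht ?_
  have : coeff t h = a * (coeff t h * coeff s f) + i * coeff t h := by linear_combination (-(coeff t h)) * hai
  rw [this]
  exact add_mem ((m • J).mul_mem_left _ hmul) (Submodule.smul_mem_smul hi (hJ _))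

end Groth.Agent.H21Clif
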