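import Groth.Agent.H21Clif.Skolem
import Mathlib.RingTheory.Localization.BaseChange
import Mathlib.LinearAlgebra.Determinant
import Mathlib.LinearAlgebra.Charpoly.BaseChange
import Mathlib.RingTheory.Localization.AtPrime.Basic
import Mathlib.LinearAlgebra.Dual.Basis
import Mathlib.RingTheory.TensorProduct.Free
import Mathlib.LinearAlgebra.Dimension.Constructions

/-!
# Clifford algebras commute with base change
-/

universe u v u'

namespace Groth.Agent.H21Clif

open CliffordAlgebra TensorProduct

variable {R : Type u} [CommRing R] {M : Type v} [AddCommGroup M] [Module R M] [Module.Free R M]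
variable (A : Type u') [CommRing A] [Algebra R A] (Q : QuadraticForm R M)

set_option linter.style.haveILetI false
set_option linter.unusedSectionVars false

local notation "Q'" => QuadGrp.baseChangeForm A Q

lemma baseChangeForm_tmul (a : A) (v : M) : Q' (a ⊗ₜ[R] v) = a * a * algebraMap R A (Q v) := by
  simp only [QuadGrp.baseChangeForm, LinearMap.compQuadraticMap_apply, QuadGrp.baseChange_tmul,
    LinearEquiv.coe_coe, AlgebraTensorModule.rid_tmul, Algebra.smul_def]
  ring

lemma polar_baseChangeForm_tmul (a a' : A) (v w : M) :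
    QuadraticMap.polar Q' (a ⊗ₜ[R] v) (a' ⊗ₜ[R] w) =
      a * a' * algebraMap R A (QuadraticMap.polar Q v w) := by
  rw [show QuadraticMap.polar Q v w =
      QuadGrp.bilinLift Q v w + QuadGrp.bilinLift Q w v by
    conv_lhs => rw [← QuadGrp.bilinLift_spec Q]
    exact LinearMap.BilinMap.polar_toQuadraticMap _ _]
  simp only [QuadraticMap.polar, QuadGrp.baseChangeForm, QuadGrp.baseChange,
    LinearMap.compQuadraticMap_apply, LinearMap.BilinMap.toQuadraticMap_apply, map_add,
    LinearMap.add_apply, LinearMap.BilinMap.baseChange_tmul, LinearEquiv.coe_coe,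
    AlgebraTensorModule.rid_tmul, Algebra.smul_def]
  ring

/-- `1 ⊗ ι` -/
noncomputable def ιA : A ⊗[R] M →ₗ[A] A ⊗[R] CliffordAlgebra Q :=
  AlgebraTensorModule.map (LinearMap.id : A →ₗ[A] A) (ι Q)

lemma ιA_tmul (a : A) (v : M) : ιA A Q (a ⊗ₜ v) = a ⊗ₜ ι Q v := rfl

lemma algebraMap_tmul (a : A) (r : R) :
    a ⊗ₜ[R] algebraMap R (CliffordAlgebra Q) r =
      algebraMap A (A ⊗[R] CliffordAlgebra Q) (a * algebraMap R A r) := by
  rw [Algebra.algebraMap_eq_smul_one r, ← smul_tmul, Algebra.TensorProduct.algebraMap_apply,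
    Algebra.smul_def, mul_comm]
  rfl

lemma ιA_anticomm (x y : A ⊗[R] M) :
    ιA A Q x * ιA A Q y + ιA A Q y * ιA A Q x =
      algebraMap A (A ⊗[R] CliffordAlgebra Q) (QuadraticMap.polar Q' x y) := by
  induction x using TensorProduct.induction_on with
  | zero => simp
  | add x x' hx hx' =>
    rw [map_add (ιA A Q), add_mul, mul_add, QuadraticMap.polar_add_left, map_add (algebraMap A _),
      ← hx, ← hx']
    abel
  | tmul a v =>
    induction y using TensorProduct.induction_on with
    | zero => simp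
    | add y y' hy hy' =>
      rw [map_add (ιA A Q), add_mul, mul_add, QuadraticMap.polar_add_right, map_add (algebraMap A _),
        ← hy, ← hy']
      abel
    | tmul a' w =>
      rw [ιA_tmul, ιA_tmul, Algebra.TensorProduct.tmul_mul_tmul, Algebra.TensorProduct.tmul_mul_tmul,
        mul_comm a' a, ← tmul_add, ι_mul_ι_add_swap, algebraMap_tmul, polar_baseChangeForm_tmul]

lemma ιA_sq (x : A ⊗[R] M) :
    ιA A Q x * ιA A Q x = algebraMap A (A ⊗[R] CliffordAlgebra Q) (Q' x) := by
  induction x using TensorProduct.induction_on with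
  | zero => simp
  | tmul a v =>
    rw [ιA_tmul, Algebra.TensorProduct.tmul_mul_tmul, ι_sq_scalar, algebraMap_tmul, baseChangeForm_tmul]
  | add x y hx hy =>
    rw [map_add (ιA A Q), QuadraticMap.map_add Q', map_add (algebraMap A _), map_add (algebraMap A _),
      ← hx, ← hy, ← ιA_anticomm]
    noncomm_ring

/-- `C(Q_A) → A ⊗ C(Q)` -/
noncomputable def toBC : CliffordAlgebra Q' →ₐ[A] A ⊗[R] CliffordAlgebra Q :=
  CliffordAlgebra.lift Q' ⟨ιA A Q, ιA_sq A Q⟩

/-- `C(Q) → C(Q_A)` -/
noncomputable def Ψ : CliffordAlgebra Q →ₐ[R] CliffordAlgebra Q' :=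
  CliffordAlgebra.lift Q ⟨(ι Q').restrictScalars R ∘ₗ TensorProduct.mk R A M 1, fun v => by
    refine (ι_sq_scalar Q' (1 ⊗ₜ v)).trans ?_
    rw [baseChangeForm_tmul, one_mul, one_mul, ← IsScalarTower.algebraMap_apply]⟩

@[simp] lemma Ψ_ι (v : M) : Ψ A Q (ι Q v) = ι Q' ((1 : A) ⊗ₜ v) := lift_ι_apply _ _ v

/-- `A ⊗ C(Q) → C(Q_A)` -/
noncomputable def ofBC : A ⊗[R] CliffordAlgebra Q →ₐ[A] CliffordAlgebra Q' :=
  Algebra.TensorProduct.lift (Algebra.ofId _ _) (Ψ A Q) fun _a _x => Algebra.commutes _ _

lemma toBC_ι (x : A ⊗[R] M) : toBC A Q (ι Q' x) = ιA A Q x := lift_ι_apply _ _ x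

/-- base change of Clifford algebras -/
noncomputable def bcEquiv : A ⊗[R] CliffordAlgebra Q ≃ₐ[A] CliffordAlgebra Q' :=
  AlgEquiv.ofAlgHom (ofBC A Q) (toBC A Q)
    (CliffordAlgebra.hom_ext (LinearMap.ext fun x => by
      induction x using TensorProduct.induction_on with
      | zero => simp
      | add x y hx hy =>
        simp only [LinearMap.comp_apply, AlgHom.toLinearMap_apply, AlgHom.comp_apply,
          AlgHom.id_apply, map_add] at hx hy ⊢
        rw [hx, hy]
      | tmul a v =>
        simp only [LinearMap.comp_apply, AlgHom.toLinearMap_apply, AlgHom.comp_apply,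
          AlgHom.id_apply, toBC_ι, ιA_tmul]
        change algebraMap A (CliffordAlgebra Q') a * Ψ A Q (ι Q v) = _
        rw [Ψ_ι, ← Algebra.smul_def, ← map_smul, smul_tmul', smul_eq_mul, mul_one]))
    (Algebra.TensorProduct.ext (Subsingleton.elim _ _) (CliffordAlgebra.hom_ext (LinearMap.ext fun v => by
      change toBC A Q (algebraMap A (CliffordAlgebra Q') 1 * Ψ A Q (ι Q v)) = _
      rw [map_one, one_mul, Ψ_ι, toBC_ι, ιA_tmul]
      rfl)))

lemma bcEquiv_one_tmul (x : CliffordAlgebra Q) : bcEquiv A Q (1 ⊗ₜ x) = Ψ A Q x := by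
  change ofBC A Q (1 ⊗ₜ x) = _
  change algebraMap A (CliffordAlgebra Q') 1 * Ψ A Q x = _
  rw [map_one, one_mul]

lemma Ψ_mem {i : ZMod 2} {x : CliffordAlgebra Q} (hx : x ∈ evenOdd Q i) : Ψ A Q x ∈ evenOdd Q' i := by
  induction x, hx using CliffordAlgebra.evenOdd_induction Q i with
  | range_ι_pow v hv =>
    fin_cases i
    · replace hv : v ∈ LinearMap.range (ι Q) ^ 0 := hv
      rw [pow_zero] at hv
      obtain ⟨r, rfl⟩ := Submodule.mem_one.mp hv
      rw [AlgHom.commutes, IsScalarTower.algebraMap_apply R A]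
      exact one_le_evenOdd_zero Q' (Submodule.algebraMap_mem _)
    · replace hv : v ∈ LinearMap.range (ι Q) ^ 1 := hv
      rw [pow_one] at hv
      obtain ⟨w, rfl⟩ := hv
      rw [Ψ_ι]
      exact ι_mem_evenOdd_one _ _
  | add x y _ _ hx hy => rw [map_add]; exact add_mem hx hy
  | ι_mul_ι_mul m₁ m₂ x _ hx =>
    rw [map_mul, map_mul, Ψ_ι, Ψ_ι, ← zero_add i]
    exact SetLike.mul_mem_graded (ι_mul_ι_mem_evenOdd_zero Q' _ _) hx

lemma Ψ_involute (x : CliffordAlgebra Q) : Ψ A Q (involute x) = involute (Ψ A Q x) := by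
  induction x using CliffordAlgebra.induction with
  | algebraMap r =>
    rw [AlgHom.commutes, AlgHom.commutes, IsScalarTower.algebraMap_apply R A, AlgHom.commutes]
  | ι v => simp
  | mul x y hx hy => simp only [map_mul, hx, hy]
  | add x y hx hy => simp only [map_add, hx, hy]

lemma baseChange_mem_O {g : M ≃ₗ[R] M} (hg : g ∈ QuadGrp.O Q) :
    g.baseChange R A M M ∈ QuadGrp.O Q' := fun x => by
  induction x using TensorProduct.induction_on with
  | zero => simp
  | tmul a v => rw [LinearEquiv.baseChange_tmul, baseChangeForm_tmul, baseChangeForm_tmul, hg v]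
  | add x y hx hy =>
    rw [map_add (g.baseChange R A M M), QuadraticMap.map_add Q', QuadraticMap.map_add Q', hx, hy]
    congr 1
    clear hx hy
    induction x using TensorProduct.induction_on with
    | zero => simp
    | add x x' hx hx' => rw [map_add, QuadraticMap.polar_add_left, QuadraticMap.polar_add_left, hx, hx']
    | tmul a v =>
      induction y using TensorProduct.induction_on with
      | zero => simp
      | add y y' hy hy' => rw [map_add, QuadraticMap.polar_add_right, QuadraticMap.polar_add_right, hy, hy']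
      | tmul a' w =>
        rw [LinearEquiv.baseChange_tmul, LinearEquiv.baseChange_tmul, polar_baseChangeForm_tmul,
          polar_baseChangeForm_tmul]
        congr 2
        simp only [QuadraticMap.polar, ← map_add, (QuadGrp.mem_O Q g).mp hg]

lemma Ψ_map {g : M ≃ₗ[R] M} (hg : g ∈ QuadGrp.O Q) (x : CliffordAlgebra Q) :
    Ψ A Q (CliffordAlgebra.map (QuadGrp.isometryOfMem Q g hg) x) =
      CliffordAlgebra.map (QuadGrp.isometryOfMem Q' (g.baseChange R A M M) (baseChange_mem_O A Q hg))
        (Ψ A Q x) := by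
  induction x using CliffordAlgebra.induction with
  | algebraMap r =>
    rw [AlgHom.commutes, AlgHom.commutes, IsScalarTower.algebraMap_apply R A, AlgHom.commutes]
  | ι v =>
    rw [map_apply_ι, Ψ_ι, Ψ_ι, map_apply_ι, QuadGrp.isometryOfMem_apply, QuadGrp.isometryOfMem_apply,
      LinearEquiv.baseChange_tmul]
  | mul x y hx hy => simp only [map_mul, hx, hy]
  | add x y hx hy => simp only [map_add, hx, hy]

lemma det_baseChange (g : M ≃ₗ[R] M) [Module.Finite R M] :
    LinearMap.det (g.baseChange R A M M).toLinearMap = algebraMap R A (LinearMap.det g.toLinearMap) := by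
  rw [← LinearMap.det_baseChange (A := A)]
  congr 1

lemma isRegular_baseChange {n : ℕ} (b : Module.Basis (Fin n) R M) (hQ : QuadGrp.IsRegular Q) :
    QuadGrp.IsRegular Q' := by
  let e := LinearEquiv.ofBijective (QuadraticMap.polarBilin Q) hQ
  have hu : IsUnit (LinearMap.toMatrix b b.dualBasis e.toLinearMap).det :=
    LinearEquiv.isUnit_det e b b.dualBasis
  let b' := Algebra.TensorProduct.basis A b
  have hmat : LinearMap.toMatrix b' b'.dualBasis (QuadraticMap.polarBilin Q') =
      (LinearMap.toMatrix b b.dualBasis e.toLinearMap).map (algebraMap R A) := by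
    ext i j
    rw [LinearMap.toMatrix_apply, Module.Basis.dualBasis_repr, Matrix.map_apply, LinearMap.toMatrix_apply,
      Module.Basis.dualBasis_repr]
    simp only [b', Algebra.TensorProduct.basis_apply, QuadraticMap.polarBilin_apply_apply,
      polar_baseChangeForm_tmul, one_mul]
    rfl
  have hu' : IsUnit (LinearMap.toMatrix b' b'.dualBasis (QuadraticMap.polarBilin Q')).det := by
    rw [hmat, ← RingHom.mapMatrix_apply, ← RingHom.map_det]
    exact hu.map _
  exact (LinearEquiv.ofIsUnitDet hu').bijective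

section Localization

variable (p : Ideal R) [p.IsPrime]

local notation "Rp" => Localization.AtPrime p

/-- `C(Q) → C(Q_p)` -/
noncomputable abbrev Ψp : CliffordAlgebra Q →ₐ[R] CliffordAlgebra (QuadGrp.baseChangeForm Rp Q) :=
  Ψ Rp Q

lemma exists_smul_of_Ψp {x y : CliffordAlgebra Q} (h : Ψp Q p x = Ψp Q p y) :
    ∃ s ∉ p, s • x = s • y := by
  rw [← bcEquiv_one_tmul, ← bcEquiv_one_tmul] at h
  obtain ⟨s, hs⟩ := IsLocalizedModule.exists_of_eq (S := p.primeCompl)
    (f := TensorProduct.mk R Rp (CliffordAlgebra Q) 1) ((bcEquiv Rp Q).injective h)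
  exact ⟨s, s.2, hs⟩

lemma exists_Ψp_eq (z : CliffordAlgebra (QuadGrp.baseChangeForm Rp Q)) :
    ∃ x : CliffordAlgebra Q, ∃ s ∉ p, algebraMap R Rp s • z = Ψp Q p x := by
  obtain ⟨⟨x, s⟩, hs⟩ := IsLocalizedModule.surj p.primeCompl
    (TensorProduct.mk R Rp (CliffordAlgebra Q) 1) ((bcEquiv Rp Q).symm z)
  refine ⟨x, s, s.2, ?_⟩
  rw [← bcEquiv_one_tmul]
  change _ = bcEquiv Rp Q (TensorProduct.mk R Rp (CliffordAlgebra Q) 1 x)
  rw [← hs, Submonoid.smul_def, ← algebraMap_smul Rp (s : R), map_smul, AlgEquiv.apply_symm_apply]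

end Localization

/-- an element killed by something outside every prime is zero -/
lemma eq_zero_of_forall_prime {N : Type*} [AddCommGroup N] [Module R N] {x : N}
    (h : ∀ (p : Ideal R) [p.IsPrime], ∃ s ∉ p, s • x = 0) : x = 0 := by
  by_contra hx
  obtain ⟨p, hp, hle⟩ := Ideal.exists_le_maximal ((LinearMap.ker (LinearMap.toSpanSingleton R N x)) : Ideal R)
    fun htop => hx (by
      have h1 : (1 : R) ∈ LinearMap.ker (LinearMap.toSpanSingleton R N x) := by rw [htop]; trivial
      simpa using h1)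
  obtain ⟨s, hs, hsx⟩ := h p
  exact hs (hle (by simpa using hsx))

lemma eq_of_forall_localization {a c : R}
    (h : ∀ (p : Ideal R) [p.IsPrime],
      algebraMap R (Localization.AtPrime p) a = algebraMap R (Localization.AtPrime p) c) : a = c := by
  refine sub_eq_zero.mp (eq_zero_of_forall_prime (R := R) fun p _ => ?_)
  obtain ⟨s, hs⟩ := (IsLocalization.eq_iff_exists p.primeCompl (Localization.AtPrime p)).mp (h p)
  exact ⟨s, s.2, by rw [smul_eq_mul, mul_sub, hs, sub_self]⟩

end Groth.Agent.H21Clif
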