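import Groth.Agent.H21Clif.Local
import Groth.Agent.H21Clif.BaseChange
import Mathlib.RingTheory.Spectrum.Prime.Topology

/-!
# Regular forms of even rank over a ring: the Dickson invariant, locally
-/

universe u v

namespace Groth.Agent.H21Clif

open CliffordAlgebra TensorProduct

variable {R : Type u} [CommRing R] {M : Type v} [AddCommGroup M] [Module R M] [Module.Free R M]
variable {n : ℕ} (b : Module.Basis (Fin n) R M) {Q : QuadraticForm R M}

set_option linter.style.haveILetI false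
set_option linter.unusedSectionVars false

local notation "Qp" p => QuadGrp.baseChangeForm (Localization.AtPrime p) Q
local notation "σ[" g ", " hg "]" => CliffordAlgebra.map (QuadGrp.isometryOfMem Q g hg)

/-- a multiple of a generator of the centre of the even part, with its denominators -/
structure IsScaled (Q : QuadraticForm R M) (x : CliffordAlgebra Q) (s d : R) : Prop where
  mem : x ∈ evenOdd Q 0
  rel : ∀ v, x * ι Q v + ι Q v * x = s • ι Q v
  sq : (algebraMap R _ s - 2 * x) * (algebraMap R _ s - 2 * x) = algebraMap R _ d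

lemma IsScaled.smul {x : CliffordAlgebra Q} {s d : R} (h : IsScaled Q x s d) (t : R) :
    IsScaled Q (t • x) (t * s) (t * t * d) where
  mem := Submodule.smul_mem _ _ h.mem
  rel v := by rw [smul_mul_assoc, mul_smul_comm, ← smul_add, h.rel, smul_smul]
  sq := by
    rw [show algebraMap R (CliffordAlgebra Q) (t * s) - 2 * (t • x) =
        t • (algebraMap R _ s - 2 * x) by
      rw [smul_sub, mul_smul_comm, map_mul, ← Algebra.smul_def]]
    rw [smul_mul_smul_comm, h.sq, Algebra.smul_def, ← map_mul]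

lemma IsScaled.central {x : CliffordAlgebra Q} {s d : R} (h : IsScaled Q x s d) (v w : M) :
    x * (ι Q v * ι Q w) = ι Q v * ι Q w * x := by
  have h1 : ∀ u, x * ι Q u = s • ι Q u - ι Q u * x := fun u => eq_sub_of_add_eq (h.rel u)
  rw [← mul_assoc, h1, sub_mul, mul_assoc (ι Q v) x, h1, smul_mul_assoc, mul_sub, mul_smul_comm,
    sub_sub_cancel, mul_assoc]

section
variable (p : Ideal R) [p.IsPrime]

lemma isUnit_algebraMap {s : R} (hs : s ∉ p) : IsUnit (algebraMap R (Localization.AtPrime p) s) :=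
  IsLocalization.map_units (M := p.primeCompl) _ ⟨s, hs⟩

lemma IsScaled.exists_isDick {x : CliffordAlgebra Q} {s d : R} (h : IsScaled Q x s d) (hs : s ∉ p)
    (hd : d ∉ p) :
    ∃ (z : CliffordAlgebra (Qp p)) (D : (Localization.AtPrime p)ˣ), IsDick (Qp p) z D ∧
      Ψp Q p x = algebraMap R (Localization.AtPrime p) s • z := by
  set σ := (isUnit_algebraMap p hs).unit
  have hσ : (σ : Localization.AtPrime p) = algebraMap R _ s := rfl
  refine ⟨(↑σ⁻¹ : Localization.AtPrime p) • Ψp Q p x, (isUnit_algebraMap p hd).unit * σ⁻¹ * σ⁻¹,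
    ⟨Submodule.smul_mem _ _ (Ψ_mem _ Q h.mem), fun v => ?_, ?_⟩,
    by rw [smul_smul, ← hσ, Units.mul_inv, one_smul]⟩
  · induction v using TensorProduct.induction_on with
    | zero => simp
    | add v w hv hw => rw [map_add, mul_add, add_mul, add_add_add_comm, hv, hw]
    | tmul a v =>
      have h2 := congrArg (Ψp Q p) (h.rel v)
      rw [map_add, map_mul, map_mul, map_smul, Ψ_ι] at h2
      rw [show (a ⊗ₜ[R] v : Localization.AtPrime p ⊗[R] M) = a • ((1 : Localization.AtPrime p) ⊗ₜ v) by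
        rw [smul_tmul', smul_eq_mul, mul_one]]
      rw [map_smul, mul_smul_comm, smul_mul_assoc, smul_mul_assoc, mul_smul_comm, ← smul_add,
        ← smul_add, h2, ← algebraMap_smul (Localization.AtPrime p) s, ← hσ, smul_smul (↑σ⁻¹ : Localization.AtPrime p),
        Units.inv_mul, one_smul]
  · have h2 := congrArg (Ψp Q p) h.sq
    simp only [map_mul, map_sub, map_ofNat, AlgHom.commutes] at h2
    rw [IsScalarTower.algebraMap_apply R (Localization.AtPrime p) (CliffordAlgebra (Qp p)) s,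
      IsScalarTower.algebraMap_apply R (Localization.AtPrime p) (CliffordAlgebra (Qp p)) d] at h2
    rw [show (1 : CliffordAlgebra (Qp p)) - 2 * ((↑σ⁻¹ : Localization.AtPrime p) • Ψp Q p x) =
        (↑σ⁻¹ : Localization.AtPrime p) • (algebraMap _ _ (σ : Localization.AtPrime p) - 2 * Ψp Q p x) by
      rw [smul_sub, mul_smul_comm, Algebra.smul_def _ (algebraMap _ _ _), ← map_mul, Units.inv_mul,
        map_one]]
    rw [smul_mul_smul_comm, hσ, h2, Algebra.smul_def, ← map_mul, Units.val_mul, Units.val_mul,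
      IsUnit.unit_spec]
    congr 1
    ring

include b in
/-- scaled generators exist near each prime, fixed or reflected by a given isometry -/
lemma exists_scaled (hn : Even n) (hn0 : 0 < n) (hQ : QuadGrp.IsRegular Q) (g : M ≃ₗ[R] M)
    (hg : g ∈ QuadGrp.O Q) :
    ∃ x s d, IsScaled Q x s d ∧ s ∉ p ∧ d ∉ p ∧
      ((σ[g, hg] x = x ∧ algebraMap R (Localization.AtPrime p) (LinearMap.det g.toLinearMap) = 1) ∨
        (σ[g, hg] x = algebraMap R _ s - x ∧
          algebraMap R (Localization.AtPrime p) (LinearMap.det g.toLinearMap) = -1)) := by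
  haveI := Module.Finite.of_basis b
  let A := Localization.AtPrime p
  let b' := Algebra.TensorProduct.basis A b
  obtain ⟨z, D, hz, hσ⟩ := exists_dichotomy b' hn (isRegular_baseChange A Q b hQ)
    (g.baseChange R A M M) (baseChange_mem_O A Q hg)
  obtain ⟨x, s, hs, hx⟩ := exists_Ψp_eq Q p z
  obtain ⟨a, ha, c, hc, rfl⟩ := exists_parts x
  obtain ⟨-, hc0⟩ := parts_eq_zero (x₀ := Ψp Q p a - algebraMap R A s • z) (x₁ := Ψp Q p c)
    (sub_mem (Ψ_mem _ Q ha) (Submodule.smul_mem _ _ hz.mem)) (Ψ_mem _ Q hc)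
    (by rw [hx, map_add]; abel)
  replace hx : Ψp Q p a = algebraMap R A s • z := by rw [hx, map_add, hc0, add_zero]
  -- denominators for the relations
  have hrel : ∀ i, ∃ t ∉ p, t • (a * ι Q (b i) + ι Q (b i) * a) = t • (s • ι Q (b i)) := fun i => by
    refine exists_smul_of_Ψp Q p ?_
    rw [map_add, map_mul, map_mul, map_smul, Ψ_ι, hx, smul_mul_assoc, mul_smul_comm, ← smul_add,
      hz.rel, algebraMap_smul]
  choose t ht htrel using hrel
  obtain ⟨⟨d₀, s₁⟩, hd₀⟩ := IsLocalization.surj p.primeCompl (D : A)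
  have hd₀p : d₀ ∉ p := fun hmem => by
    have h1 : IsUnit (algebraMap R A d₀) := hd₀ ▸ D.isUnit.mul (isUnit_algebraMap p s₁.2)
    exact ((IsLocalization.AtPrime.isUnit_to_map_iff A p d₀).mp h1) hmem
  obtain ⟨t', ht', hsq⟩ : ∃ t ∉ p,
      t • ((s₁ : R) • ((algebraMap R _ s - 2 * a) * (algebraMap R _ s - 2 * a))) =
        t • algebraMap R (CliffordAlgebra Q) (s * s * d₀) := by
    refine exists_smul_of_Ψp Q p ?_
    rw [map_smul, map_mul, map_sub, map_mul (Ψp Q p) 2, map_ofNat, AlgHom.commutes, AlgHom.commutes,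
      IsScalarTower.algebraMap_apply R A, IsScalarTower.algebraMap_apply R A (CliffordAlgebra _) (s * s * d₀),
      hx, ← algebraMap_smul A (s₁ : R),
      show algebraMap A (CliffordAlgebra (Qp p)) (algebraMap R A s) - 2 * (algebraMap R A s • z) =
        algebraMap R A s • (1 - 2 * z) by rw [smul_sub, mul_smul_comm, Algebra.smul_def _ (1 : CliffordAlgebra (Qp p)), mul_one],
      smul_mul_smul_comm, hz.sq, smul_smul, Algebra.smul_def, ← map_mul]
    congr 1
    rw [map_mul, map_mul, ← hd₀]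
    ring
  obtain ⟨T, hTdef⟩ : ∃ T, T = (∏ i, t i) * t' * (s₁ : R) := ⟨_, rfl⟩
  have hT : T ∉ p := fun h => by
    rw [hTdef] at h
    rcases Ideal.IsPrime.mem_or_mem ‹_› h with h | h
    · rcases Ideal.IsPrime.mem_or_mem ‹_› h with h | h
      · obtain ⟨i, -, hi⟩ := Ideal.IsPrime.prod_mem_iff.mp h
        exact ht i hi
      · exact ht' h
    · exact s₁.2 h
  have hTdvd : ∀ i, t i ∣ T := fun i => hTdef ▸
    dvd_mul_of_dvd_left (dvd_mul_of_dvd_left (Finset.dvd_prod_of_mem _ (Finset.mem_univ i)) _) _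
  have hsc : IsScaled Q (T • a) (T * s) (((∏ i, t i) * t') * ((∏ i, t i) * t') * (s₁ * (s * s * d₀))) := by
    refine ⟨Submodule.smul_mem _ _ ha, fun v => ?_, ?_⟩
    · refine LinearMap.congr_fun (f := ((LinearMap.mulLeft R (T • a) + LinearMap.mulRight R (T • a)) ∘ₗ ι Q))
        (g := (T * s) • ι Q) (b.ext fun i => ?_) v
      obtain ⟨k, hk⟩ := hTdvd i
      simp only [LinearMap.comp_apply, LinearMap.add_apply, LinearMap.mulLeft_apply,
        LinearMap.mulRight_apply, LinearMap.smul_apply, smul_mul_assoc, mul_smul_comm, ← smul_add]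
      rw [hk, mul_comm (t i) k, mul_smul k (t i), htrel i, ← mul_smul, ← mul_smul, mul_assoc]
    · rw [show algebraMap R (CliffordAlgebra Q) (T * s) - 2 * (T • a) =
          T • (algebraMap R _ s - 2 * a) by
        rw [smul_sub, mul_smul_comm, map_mul, ← Algebra.smul_def], smul_mul_smul_comm,
        show T * T = ((∏ i, t i) * t' * (∏ i, t i) * (s₁ : R)) * t' * (s₁ : R) by rw [hTdef]; ring,
        mul_smul, mul_smul, hsq, ← mul_smul, Algebra.smul_def, ← map_mul]
      congr 1
      ring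
  have hdp : (((∏ i, t i) * t') * ((∏ i, t i) * t') * ((s₁ : R) * (s * s * d₀))) ∉ p := by
    have h1 : (∏ i, t i) * t' ∉ p := fun h => hT (hTdef ▸ p.mul_mem_right _ h)
    exact fun h => (Ideal.IsPrime.mem_or_mem ‹_› h).elim
      (fun h => (Ideal.IsPrime.mem_or_mem ‹_› h).elim h1 h1) fun h =>
        (Ideal.IsPrime.mem_or_mem ‹_› h).elim s₁.2 fun h =>
          (Ideal.IsPrime.mem_or_mem ‹_› h).elim
            (fun h => (Ideal.IsPrime.mem_or_mem ‹_› h).elim hs hs) hd₀p
  have hsp : T * s ∉ p := fun h => (Ideal.IsPrime.mem_or_mem ‹_› h).elim hT hs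
  rw [det_baseChange] at hσ
  have hmap : Ψp Q p (σ[g, hg] (T • a)) = algebraMap R A (T * s) •
      autOf (Qp p) (g.baseChange R A M M) (baseChange_mem_O A Q hg) z := by
    rw [Ψ_map, ← autOf_apply, map_smul, hx, ← algebraMap_smul A T, smul_smul, ← map_mul, map_smul]
  have hTa : Ψp Q p (T • a) = algebraMap R A (T * s) • z := by
    rw [map_smul, hx, ← algebraMap_smul A T, smul_smul, ← map_mul]
  -- clear the last denominator
  rcases hσ with ⟨hσ, hdet⟩ | ⟨hσ, hdet⟩
  · obtain ⟨r, hr, he⟩ := exists_smul_of_Ψp Q p (x := σ[g, hg] (T • a)) (y := T • a)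
      (by rw [hmap, hσ, hTa])
    refine ⟨_, _, _, hsc.smul r, fun h => (Ideal.IsPrime.mem_or_mem ‹_› h).elim hr hsp,
      fun h => (Ideal.IsPrime.mem_or_mem ‹_› h).elim
        (fun h => (Ideal.IsPrime.mem_or_mem ‹_› h).elim hr hr) hdp, Or.inl ⟨?_, hdet⟩⟩
    rw [map_smul, he]
  · obtain ⟨r, hr, he⟩ := exists_smul_of_Ψp Q p (x := σ[g, hg] (T • a))
      (y := algebraMap R _ (T * s) - T • a) (by
        rw [hmap, hσ, map_sub, hTa, AlgHom.commutes, smul_sub, algebraMap_smul A (T * s) (1 : CliffordAlgebra (Qp p)),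
          ← Algebra.algebraMap_eq_smul_one])
    refine ⟨_, _, _, hsc.smul r, fun h => (Ideal.IsPrime.mem_or_mem ‹_› h).elim hr hsp,
      fun h => (Ideal.IsPrime.mem_or_mem ‹_› h).elim
        (fun h => (Ideal.IsPrime.mem_or_mem ‹_› h).elim hr hr) hdp, Or.inr ⟨?_, hdet⟩⟩
    rw [map_smul, he, smul_sub, map_mul (algebraMap R (CliffordAlgebra Q)) r, ← Algebra.smul_def]

include b in
/-- the scaled generator decides the Dickson invariant -/
lemma IsScaled.not_both {x x' : CliffordAlgebra Q} {s d s' d' : R} (hn : Even n) (hn0 : 0 < n)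
    (hQ : QuadGrp.IsRegular Q) (h : IsScaled Q x s d) (h' : IsScaled Q x' s' d')
    (hs : s ∉ p) (hd : d ∉ p) (hs' : s' ∉ p) (hd' : d' ∉ p) (g : M ≃ₗ[R] M) (hg : g ∈ QuadGrp.O Q)
    (hfix : σ[g, hg] x = x) (hrefl : σ[g, hg] x' = algebraMap R _ s' - x') : False := by
  let A := Localization.AtPrime p
  let b' := Algebra.TensorProduct.basis A b
  obtain ⟨z, D, hz, hxz⟩ := h.exists_isDick p hs hd
  obtain ⟨z', D', hz', hxz'⟩ := h'.exists_isDick p hs' hd'
  have hgA := baseChange_mem_O A Q hg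
  have hQA := isRegular_baseChange A Q b hQ
  have key : ∀ y, autOf (Qp p) _ hgA (Ψp Q p y) = Ψp Q p (σ[g, hg] y) := fun y => (Ψ_map A Q hg y).symm
  have e1 : autOf (Qp p) _ hgA z = z := by
    have := key x
    rw [hfix, hxz, map_smul] at this
    exact (isUnit_algebraMap p hs).smul_left_cancel.mp this
  have e2 : autOf (Qp p) _ hgA z' = 1 - z' := by
    have := key x'
    rw [hrefl, map_sub, AlgHom.commutes, IsScalarTower.algebraMap_apply R A, hxz', map_smul,
      Algebra.algebraMap_eq_smul_one (algebraMap R A s'), ← smul_sub] at this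
    exact (isUnit_algebraMap p hs').smul_left_cancel.mp this
  have := (hz'.mem_SOeven_iff b' hQA hn0 hgA).mp ((hz.mem_SOeven_iff b' hQA hn0 hgA).mpr e1)
  exact hz'.ne_one_sub b' (this.symm.trans e2)

end

section
variable (hn : Even n) (hn0 : 0 < n) (hQ : QuadGrp.IsRegular Q) (g : M ≃ₗ[R] M) (hg : g ∈ QuadGrp.O Q)

/-- some scaled generator at `p` is fixed by `g` -/
def FixedAt (g : M ≃ₗ[R] M) (hg : g ∈ QuadGrp.O Q) (p : Ideal R) : Prop :=
  ∃ x s d, IsScaled Q x s d ∧ s ∉ p ∧ d ∉ p ∧ σ[g, hg] x = x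

/-- some scaled generator at `p` is reflected by `g` -/
def ReflAt (g : M ≃ₗ[R] M) (hg : g ∈ QuadGrp.O Q) (p : Ideal R) : Prop :=
  ∃ x s d, IsScaled Q x s d ∧ s ∉ p ∧ d ∉ p ∧ σ[g, hg] x = algebraMap R _ s - x

lemma not_fixed_refl (p : Ideal R) [p.IsPrime] (h : FixedAt g hg p) (h' : ReflAt g hg p)
    (b : Module.Basis (Fin n) R M) (hn : Even n) (hn0 : 0 < n) (hQ : QuadGrp.IsRegular Q) : False := by
  obtain ⟨x, s, d, hx, hs, hd, e⟩ := h
  obtain ⟨x', s', d', hx', hs', hd', e'⟩ := h'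
  exact hx.not_both b p hn hn0 hQ hx' hs hd hs' hd' g hg e e'

include b hn hn0 hQ in
lemma dichotomy_at (p : Ideal R) [p.IsPrime] :
    (FixedAt g hg p ∧ algebraMap R (Localization.AtPrime p) (LinearMap.det g.toLinearMap) = 1) ∨
    (ReflAt g hg p ∧ algebraMap R (Localization.AtPrime p) (LinearMap.det g.toLinearMap) = -1) := by
  obtain ⟨x, s, d, hx, hs, hd, ⟨e, he⟩ | ⟨e, he⟩⟩ := exists_scaled b p hn hn0 hQ g hg
  · exact Or.inl ⟨⟨x, s, d, hx, hs, hd, e⟩, he⟩
  · exact Or.inr ⟨⟨x, s, d, hx, hs, hd, e⟩, he⟩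

include b hn hn0 hQ in
lemma fixedAt_of_SOeven (h : g ∈ QuadGrp.SOeven Q) (p : Ideal R) [p.IsPrime] : FixedAt g hg p := by
  obtain ⟨x, s, d, hx, hs, hd, -⟩ := exists_scaled b p hn hn0 hQ g hg
  exact ⟨x, s, d, hx, hs, hd,
    (mem_SOeven_iff hg).mp h ⟨x, hx.mem⟩ ((mem_center_even_iff _).mpr hx.central)⟩

include b hn hn0 hQ in
lemma det_eq_one_of_SOeven (h : g ∈ QuadGrp.SOeven Q) : LinearMap.det g.toLinearMap = 1 := by
  obtain ⟨hg, -⟩ := id h
  refine eq_of_forall_localization fun p _ => ?_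
  rw [map_one]
  rcases dichotomy_at b hn hn0 hQ g hg p with ⟨-, he⟩ | ⟨hr, -⟩
  · exact he
  · exact (not_fixed_refl g hg p (fixedAt_of_SOeven b hn hn0 hQ g hg h p) hr b hn hn0 hQ).elim

include b hn hn0 hQ hg in
lemma SOeven_of_fixedAt (h : ∀ (p : Ideal R) [p.IsPrime], FixedAt g hg p) : g ∈ QuadGrp.SOeven Q := by
  refine (mem_SOeven_iff hg).mpr fun y hy => sub_eq_zero.mp (eq_zero_of_forall_prime (R := R) fun p _ => ?_)
  obtain ⟨x, s, d, hx, hs, hd, e⟩ := h p
  let A := Localization.AtPrime p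
  let b' := Algebra.TensorProduct.basis A b
  obtain ⟨z, D, hz, hxz⟩ := hx.exists_isDick p hs hd
  have hgA := baseChange_mem_O A Q hg
  have hQA := isRegular_baseChange A Q b hQ
  have hzfix : autOf (Qp p) _ hgA z = z := by
    have := (Ψ_map A Q hg x).symm
    rw [e, hxz, map_smul] at this
    exact (isUnit_algebraMap p hs).smul_left_cancel.mp this
  have hcent : ∀ v w, Ψp Q p y * (ι (Qp p) v * ι (Qp p) w) = ι (Qp p) v * ι (Qp p) w * Ψp Q p y := by
    have hy' := (mem_center_even_iff y).mp hy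
    intro v w
    induction v using TensorProduct.induction_on with
    | zero => simp
    | add v v' hv hv' => rw [map_add, add_mul, mul_add, hv, hv', ← add_mul]
    | tmul a v =>
      induction w using TensorProduct.induction_on with
      | zero => simp
      | add w w' hw hw' => rw [map_add, mul_add, mul_add, hw, hw', ← add_mul]
      | tmul c w =>
        have h2 := congrArg (Ψp Q p) (hy' v w)
        rw [map_mul, map_mul, map_mul, map_mul, Ψ_ι, Ψ_ι] at h2
        rw [show (a ⊗ₜ[R] v : A ⊗[R] M) = a • ((1 : A) ⊗ₜ v) by rw [smul_tmul', smul_eq_mul, mul_one],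
          show (c ⊗ₜ[R] w : A ⊗[R] M) = c • ((1 : A) ⊗ₜ w) by rw [smul_tmul', smul_eq_mul, mul_one],
          map_smul, map_smul, smul_mul_smul_comm, mul_smul_comm, h2, smul_mul_assoc]
  obtain ⟨a, c, hac⟩ := hz.exists_eq_of_central b' hQA hn0 (Ψ_mem _ Q y.2) hcent
  obtain ⟨r, hr, he⟩ := exists_smul_of_Ψp Q p (x := σ[g, hg] (y : CliffordAlgebra Q))
    (y := (y : CliffordAlgebra Q)) (by
      rw [Ψ_map, ← autOf_apply, hac, map_add, AlgEquiv.commutes, map_smul, hzfix])
  exact ⟨r, hr, by rw [smul_sub, he, sub_self]⟩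

include b hn hn0 hQ hg in
lemma SOeven_of_det_eq_one [Invertible (2 : R)] (h : LinearMap.det g.toLinearMap = 1) :
    g ∈ QuadGrp.SOeven Q := by
  refine SOeven_of_fixedAt b hn hn0 hQ g hg fun p _ => ?_
  rcases dichotomy_at b hn hn0 hQ g hg p with ⟨hf, -⟩ | ⟨-, he⟩
  · exact hf
  · rw [h, map_one] at he
    have h2 : algebraMap R (Localization.AtPrime p) 2 = 0 := by
      rw [map_ofNat]
      linear_combination he
    have hu := (isUnit_of_invertible (2 : R)).map (algebraMap R (Localization.AtPrime p))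
    rw [h2] at hu
    exact (not_isUnit_zero hu).elim

include b hn hn0 hQ hg in
lemma det_eq_one_of_charTwo [CharP R 2] : LinearMap.det g.toLinearMap = 1 := by
  refine eq_of_forall_localization fun p _ => ?_
  rw [map_one]
  rcases dichotomy_at b hn hn0 hQ g hg p with ⟨-, he⟩ | ⟨-, he⟩
  · exact he
  · rw [he, ← map_one (algebraMap R (Localization.AtPrime p)), ← map_neg, CharTwo.neg_eq]

include b hn hn0 hQ hg in
lemma det_eq_neg_one_of_connected (hc : ConnectedSpace (PrimeSpectrum R))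
    (hD : g ∉ QuadGrp.SOeven Q) : LinearMap.det g.toLinearMap = -1 := by
  let U : Set (PrimeSpectrum R) := {p | FixedAt g hg p.asIdeal}
  let V : Set (PrimeSpectrum R) := {p | ReflAt g hg p.asIdeal}
  have hopen : IsOpen U ∧ IsOpen V := by
    constructor <;>
    · refine isOpen_iff_forall_mem_open.mpr fun p ⟨x, s, d, hx, hs, hd, e⟩ => ?_
      exact ⟨(PrimeSpectrum.basicOpen s : Set (PrimeSpectrum R)) ∩ PrimeSpectrum.basicOpen d,
        fun q hq => ⟨x, s, d, hx, hq.1, hq.2, e⟩,
        PrimeSpectrum.isOpen_basicOpen.inter PrimeSpectrum.isOpen_basicOpen, hs, hd⟩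
  have hcompl : U = Vᶜ := by
    ext p
    refine ⟨fun h h' => not_fixed_refl g hg p.asIdeal h h' b hn hn0 hQ, fun h => ?_⟩
    rcases dichotomy_at b hn hn0 hQ g hg p.asIdeal with ⟨hf, -⟩ | ⟨hr, -⟩
    · exact hf
    · exact (h hr).elim
  have hclopen : IsClopen V := ⟨⟨by rw [← hcompl]; exact hopen.1⟩, hopen.2⟩
  rcases isClopen_iff.mp hclopen with hV | hV
  · refine (hD (SOeven_of_fixedAt b hn hn0 hQ g hg fun p hp => ?_)).elim
    have : (⟨p, hp⟩ : PrimeSpectrum R) ∈ U := by rw [hcompl, hV]; simp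
    exact this
  · refine eq_of_forall_localization fun p hp => ?_
    rw [map_neg, map_one]
    rcases dichotomy_at b hn hn0 hQ g hg p with ⟨hf, -⟩ | ⟨-, he⟩
    · exact (not_fixed_refl g hg p hf (show (⟨p, hp⟩ : PrimeSpectrum R) ∈ V by rw [hV]; trivial)
        b hn hn0 hQ).elim
    · exact he

end

include b in
/-- a unit which is homogeneous at every prime is locally homogeneous -/
lemma isLocHomog_of_forall {u : (CliffordAlgebra Q)ˣ} {u₀ u₁ : CliffordAlgebra Q}
    (h₀ : u₀ ∈ evenOdd Q 0) (h₁ : u₁ ∈ evenOdd Q 1) (hsum : (u : CliffordAlgebra Q) = u₀ + u₁)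
    (key₀ : ∀ (p : Ideal R) [p.IsPrime], Ψp Q p u₀ = 0 ∨ Ψp Q p u₁ = 0) :
    QuadGrp.IsLocHomog Q (u : CliffordAlgebra Q) := by
  let I₀ : Ideal R := LinearMap.ker (LinearMap.toSpanSingleton R (CliffordAlgebra Q) u₀)
  let I₁ : Ideal R := LinearMap.ker (LinearMap.toSpanSingleton R (CliffordAlgebra Q) u₁)
  have hsup : I₀ ⊔ I₁ = ⊤ := by
    by_contra hne
    obtain ⟨p, hp, hle⟩ := Ideal.exists_le_maximal _ hne
    have key := key₀ p
    rcases key with h | h
    all_goals
      obtain ⟨t, ht, hte⟩ := exists_smul_of_Ψp Q p (h.trans (map_zero (Ψp Q p)).symm)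
      rw [smul_zero] at hte
    · exact ht (hle (Submodule.mem_sup_left (by simpa [I₀] using hte)))
    · exact ht (hle (Submodule.mem_sup_right (by simpa [I₁] using hte)))
  obtain ⟨a, ha, c, hc, hac⟩ := Submodule.mem_sup.mp ((Ideal.eq_top_iff_one _).mp hsup)
  replace ha : a • u₀ = 0 := ha
  replace hc : c • u₁ = 0 := hc
  have hprod : a * c = 0 := by
    have h0 : (a * c) • (u : CliffordAlgebra Q) = 0 := by
      rw [hsum, smul_add, mul_comm, mul_smul, ha, smul_zero, mul_comm, mul_smul, hc, smul_zero, add_zero]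
    have := congrArg (· * (↑u⁻¹ : CliffordAlgebra Q)) h0
    simp only [smul_mul_assoc, Units.mul_inv, zero_mul, ← Algebra.algebraMap_eq_smul_one] at this
    exact algebraMap_injective b Q (by rw [this, map_zero])
  refine ⟨c, ?_, ?_, ?_⟩
  · change c * c = c
    linear_combination c * hac - hprod
  · rw [hsum, smul_add, hc, add_zero]
    exact Submodule.smul_mem _ _ h₀
  · rw [show 1 - c = a by linear_combination -hac, hsum, smul_add, ha, zero_add]
    exact Submodule.smul_mem _ _ h₁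

include b in
/-- the naive Clifford group consists of locally homogeneous units -/
lemma GPin'_le_LH (hn : Even n) (hn0 : 0 < n) (hQ : QuadGrp.IsRegular Q) :
    QuadGrp.GPin' Q ≤ QuadGrp.LH Q := fun u hu => by
  obtain ⟨g, hg, hgu⟩ := exists_isometry_of_mem_GPin' b hu
  obtain ⟨u₀, h₀, u₁, h₁, hsum⟩ := exists_parts (u : CliffordAlgebra Q)
  refine isLocHomog_of_forall b h₀ h₁ hsum fun p _ => ?_
  let A := Localization.AtPrime p
  let b' := Algebra.TensorProduct.basis A b
  obtain ⟨z, D, hz, hd⟩ := exists_dichotomy b' hn (isRegular_baseChange A Q b hQ)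
    (g.baseChange R A M M) (baseChange_mem_O A Q hg)
  let u' : (CliffordAlgebra (Qp p))ˣ := Units.map (Ψp Q p).toMonoidHom u
  have hu' : ∀ v, (u' : CliffordAlgebra (Qp p)) * ι (Qp p) v * ↑u'⁻¹ =
      ι (Qp p) (g.baseChange R A M M v) := fun v => by
    induction v using TensorProduct.induction_on with
    | zero => simp
    | add v w hv hw => rw [map_add, mul_add, add_mul, hv, hw, map_add, map_add]
    | tmul a v =>
      have h2 := congrArg (Ψp Q p) (hgu v)
      rw [map_mul, map_mul, Ψ_ι, Ψ_ι] at h2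
      rw [LinearEquiv.baseChange_tmul,
        show (a ⊗ₜ[R] v : A ⊗[R] M) = a • ((1 : A) ⊗ₜ v) by rw [smul_tmul', smul_eq_mul, mul_one],
        show (a ⊗ₜ[R] g v : A ⊗[R] M) = a • ((1 : A) ⊗ₜ g v) by rw [smul_tmul', smul_eq_mul, mul_one],
        map_smul, map_smul, mul_smul_comm, smul_mul_assoc, ← h2]
      rfl
  have hint := intertwines (baseChange_mem_O A Q hg) hu' z
  have hs : (u' : CliffordAlgebra (Qp p)) = Ψp Q p u₀ + Ψp Q p u₁ := by
    rw [← map_add, ← hsum]; rfl
  have key : Ψp Q p u₀ = 0 ∨ Ψp Q p u₁ = 0 := by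
    rcases hd with ⟨e, -⟩ | ⟨e, -⟩
    · right
      have := (hz.smul_parts (ε := 0) (by rw [zero_smul, add_zero]; rwa [e] at hint)
        (Ψ_mem _ Q h₀) (Ψ_mem _ Q h₁) hs).2
      rwa [sub_zero, one_smul] at this
    · left
      have := (hz.smul_parts (ε := 1) (by
          rw [show z + (1 : A) • (1 - 2 * z) = 1 - z by rw [one_smul]; noncomm_ring]
          rwa [e] at hint)
        (Ψ_mem _ Q h₀) (Ψ_mem _ Q h₁) hs).1
      rwa [one_smul] at this
  exact key

end Groth.Agent.H21Clif
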