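import Groth.Agent.H21Clif.HalfDisc
import Groth.Agent.H21Clif.Global
import Groth.Agent.H21Clif.Content
import Mathlib.LinearAlgebra.Transvection.Basic
import Mathlib.LinearAlgebra.Reflection
import Mathlib.RingTheory.Ideal.Quotient.Operations
import Mathlib.RingTheory.Localization.Away.Basic
import Mathlib.RingTheory.MvPolynomial.Basic

/-!
# An isometry commuting with products of two generic reflections is a scalar
-/

universe u v

namespace Groth.Agent.H21Clif

open CliffordAlgebra TensorProduct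

set_option linter.style.haveILetI false
set_option linter.unusedSectionVars false

section Refl

variable {A : Type u} [CommRing A] {N : Type v} [AddCommGroup N] [Module A N]
variable (Q' : QuadraticForm A N) {x : N} (hx : IsUnit (Q' x))

/-- the functional of the reflection -/
noncomputable def reflForm : Module.Dual A N := (↑hx.unit⁻¹ : A) • QuadraticMap.polarBilin Q' x

lemma reflForm_apply (v : N) : reflForm Q' hx v = (↑hx.unit⁻¹ : A) * QuadraticMap.polar Q' x v := rfl

lemma reflForm_self : reflForm Q' hx x = 2 := by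
  rw [reflForm_apply, QuadraticMap.polar_self, nsmul_eq_mul, Nat.cast_ofNat, mul_left_comm, hx.val_inv_mul,
    mul_one]

/-- the orthogonal reflection in an anisotropic vector -/
noncomputable def refl : N ≃ₗ[A] N := Module.reflection (reflForm_self Q' hx)

lemma refl_apply (v : N) : refl Q' hx v = v - reflForm Q' hx v • x := Module.reflection_apply v (reflForm_self Q' hx)

lemma refl_mem_O : refl Q' hx ∈ QuadGrp.O Q' := fun v => by
  rw [refl_apply, sub_eq_add_neg, ← neg_smul, QuadraticMap.map_add Q', QuadraticMap.map_smul,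
    QuadraticMap.polar_smul_right, reflForm_apply, smul_eq_mul, smul_eq_mul, QuadraticMap.polar_comm Q' v x]
  linear_combination ((↑hx.unit⁻¹ : A) * QuadraticMap.polar Q' x v * QuadraticMap.polar Q' x v) * hx.val_inv_mul

lemma det_refl [Module.Free A N] [Module.Finite A N] :
    LinearMap.det (refl Q' hx).toLinearMap = -1 := by
  have h : (refl Q' hx).toLinearMap = LinearMap.transvection (reflForm Q' hx) (-x) :=
    LinearMap.ext fun v => by
      change refl Q' hx v = _
      rw [refl_apply, LinearMap.transvection.apply, smul_neg, sub_eq_add_neg]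
  rw [h, LinearMap.transvection.det, map_neg, reflForm_self]
  ring

variable {y : N} (hy : IsUnit (Q' y))

lemma refl_mul_mem_O : refl Q' hx * refl Q' hy ∈ QuadGrp.O Q' :=
  (QuadGrp.O Q').mul_mem (refl_mem_O Q' hx) (refl_mem_O Q' hy)

lemma refl_mul_mem_SO' [Module.Free A N] [Module.Finite A N] :
    refl Q' hx * refl Q' hy ∈ QuadGrp.SO' Q' := by
  refine ⟨refl_mul_mem_O Q' hx hy, MonoidHom.mem_ker.mpr (Units.ext ?_)⟩
  rw [map_mul, Units.val_mul, LinearEquiv.coe_det, LinearEquiv.coe_det, det_refl, det_refl, Units.val_one,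
    neg_mul_neg, one_mul]

/-- the unit of an anisotropic vector -/
noncomputable def ιUnit : (CliffordAlgebra Q')ˣ :=
  ⟨ι Q' x, (↑hx.unit⁻¹ : A) • ι Q' x,
    by rw [mul_smul_comm, ι_sq_scalar, Algebra.smul_def, ← map_mul, hx.val_inv_mul, map_one],
    by rw [smul_mul_assoc, ι_sq_scalar, Algebra.smul_def, ← map_mul, hx.val_inv_mul, map_one]⟩

lemma ιUnit_conj (v : N) :
    (ιUnit Q' hx : CliffordAlgebra Q') * ι Q' v * ↑(ιUnit Q' hx)⁻¹ = -ι Q' (refl Q' hx v) := by
  change ι Q' x * ι Q' v * ((↑hx.unit⁻¹ : A) • ι Q' x) = _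
  rw [eq_sub_of_add_eq (ι_mul_ι_add_swap (Q := Q') x v), mul_smul_comm, sub_mul, mul_assoc,
    ι_sq_scalar, smul_sub, ← Algebra.smul_def, smul_smul, ← Algebra.commutes, ← Algebra.smul_def,
    smul_smul, hx.val_inv_mul, one_smul, refl_apply, reflForm_apply, map_sub, map_smul, neg_sub]

lemma refl_mul_mem_SOeven : refl Q' hx * refl Q' hy ∈ QuadGrp.SOeven Q' := by
  have hg := refl_mul_mem_O Q' hx hy
  have hu : ∀ v, ((ιUnit Q' hx * ιUnit Q' hy : (CliffordAlgebra Q')ˣ) : CliffordAlgebra Q') * ι Q' v *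
      ↑(ιUnit Q' hx * ιUnit Q' hy)⁻¹ = ι Q' ((refl Q' hx * refl Q' hy) v) := fun v => by
    rw [mul_inv_rev, Units.val_mul, Units.val_mul]
    calc _ = (ιUnit Q' hx : CliffordAlgebra Q') * ((ιUnit Q' hy : CliffordAlgebra Q') * ι Q' v *
          ↑(ιUnit Q' hy)⁻¹) * ↑(ιUnit Q' hx)⁻¹ := by simp only [mul_assoc]
      _ = _ := by
        rw [ιUnit_conj, mul_neg, neg_mul, ιUnit_conj, neg_neg]
        rfl
  refine (mem_SOeven_iff hg).mpr fun z hz => ?_
  have h1 := intertwines hg hu (z : CliffordAlgebra Q')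
  have h2 : ((ιUnit Q' hx * ιUnit Q' hy : (CliffordAlgebra Q')ˣ) : CliffordAlgebra Q') * z =
      z * ((ιUnit Q' hx * ιUnit Q' hy : (CliffordAlgebra Q')ˣ) : CliffordAlgebra Q') :=
    ((mem_center_even_iff z).mp hz x y).symm
  rw [h2] at h1
  exact (ιUnit Q' hx * ιUnit Q' hy).isUnit.mul_right_cancel h1

lemma refl_mul_mem_SO [Module.Free A N] [Module.Finite A N] :
    refl Q' hx * refl Q' hy ∈ QuadGrp.SO Q' := by
  unfold QuadGrp.SO
  split_ifs
  · exact refl_mul_mem_SOeven Q' hx hy
  · exact refl_mul_mem_SO' Q' hx hy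

end Refl

section BC

variable {R : Type u} [CommRing R] {M : Type v} [AddCommGroup M] [Module R M] [Module.Free R M]
variable (Q : QuadraticForm R M) (A : Type*) [CommRing A] [Algebra R A]

lemma mem_orth_iff {h : (A ⊗[R] M) ≃ₗ[A] (A ⊗[R] M)} :
    h ∈ QuadGrp.orth Q A ↔ h ∈ QuadGrp.O (QuadGrp.baseChangeForm A Q) := by
  refine ⟨fun H v => ?_, fun H v => (AlgebraTensorModule.rid R A A).injective (H v)⟩
  exact congrArg (AlgebraTensorModule.rid R A A) (H v)

lemma mem_sorth'_iff {h : (A ⊗[R] M) ≃ₗ[A] (A ⊗[R] M)} :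
    h ∈ QuadGrp.sorth' Q A ↔ h ∈ QuadGrp.SO' (QuadGrp.baseChangeForm A Q) :=
  and_congr (mem_orth_iff Q A) Iff.rfl

variable {A} {B : Type*} [CommRing B] [Algebra R B] (φ : A →ₐ[R] B)

lemma baseChangeForm_rTensor (v : A ⊗[R] M) :
    QuadGrp.baseChangeForm B Q (LinearMap.rTensor M φ.toLinearMap v) =
      φ (QuadGrp.baseChangeForm A Q v) := by
  induction v using TensorProduct.induction_on with
  | zero => simp
  | tmul a v => simp [baseChangeForm_tmul]
  | add x y hx hy =>
    rw [map_add, QuadraticMap.map_add (QuadGrp.baseChangeForm B Q), QuadraticMap.map_add (QuadGrp.baseChangeForm A Q),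
      map_add, map_add, hx, hy]
    congr 1
    clear hx hy
    induction x using TensorProduct.induction_on with
    | zero => simp
    | add x x' hx hx' => rw [map_add, QuadraticMap.polar_add_left, QuadraticMap.polar_add_left, map_add, hx, hx']
    | tmul a v =>
      induction y using TensorProduct.induction_on with
      | zero => simp
      | add y y' hy hy' => rw [map_add, QuadraticMap.polar_add_right, QuadraticMap.polar_add_right, map_add, hy, hy']
      | tmul a' w => simp [polar_baseChangeForm_tmul]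

lemma polar_rTensor (v w : A ⊗[R] M) :
    QuadraticMap.polar (QuadGrp.baseChangeForm B Q) (LinearMap.rTensor M φ.toLinearMap v)
        (LinearMap.rTensor M φ.toLinearMap w) =
      φ (QuadraticMap.polar (QuadGrp.baseChangeForm A Q) v w) := by
  simp only [QuadraticMap.polar, ← map_add, baseChangeForm_rTensor, map_sub]

lemma baseChange_rTensor (g : M ≃ₗ[R] M) (v : A ⊗[R] M) :
    g.baseChange R B M M (LinearMap.rTensor M φ.toLinearMap v) =
      LinearMap.rTensor M φ.toLinearMap (g.baseChange R A M M v) := by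
  induction v using TensorProduct.induction_on with
  | zero => simp
  | tmul a v => simp
  | add x y hx hy => simp only [map_add, hx, hy]

lemma basis_repr_rTensor {ι' : Type*} (b : Module.Basis ι' R M) (i : ι') (v : A ⊗[R] M) :
    (Algebra.TensorProduct.basis B b).repr (LinearMap.rTensor M φ.toLinearMap v) i =
      φ ((Algebra.TensorProduct.basis A b).repr v i) := by
  induction v using TensorProduct.induction_on with
  | zero => simp
  | tmul a v => simp [Algebra.TensorProduct.basis_repr_tmul]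
  | add x y hx hy => simp only [map_add, Finsupp.add_apply, hx, hy]

end BC

section Main

variable {R : Type u} [CommRing R] {n : ℕ} (Q : QuadraticForm R (Fin n → R))

local notation "M₀" => Fin n → R
local notation "bR" => Pi.basisFun R (Fin n)

/-- the `3 × 3` minor of `(z, X, Y)` in rows `i, j, l` -/
noncomputable def minor3 (A : Type*) [CommRing A] [Algebra R A] (X Y : A ⊗[R] M₀) (i j l : Fin n) :
    A ⊗[R] M₀ →ₗ[A] A :=
  let c := fun k => (Algebra.TensorProduct.basis A bR).coord k
  (c j X * c l Y - c l X * c j Y) • c i - (c i X * c l Y - c l X * c i Y) • c j +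
    (c i X * c j Y - c j X * c i Y) • c l

lemma minor3_self₁ (A : Type*) [CommRing A] [Algebra R A] (X Y : A ⊗[R] M₀) (i j l : Fin n) :
    minor3 A X Y i j l X = 0 := by
  simp only [minor3, LinearMap.add_apply, LinearMap.sub_apply, LinearMap.smul_apply, smul_eq_mul]
  ring

lemma minor3_self₂ (A : Type*) [CommRing A] [Algebra R A] (X Y : A ⊗[R] M₀) (i j l : Fin n) :
    minor3 A X Y i j l Y = 0 := by
  simp only [minor3, LinearMap.add_apply, LinearMap.sub_apply, LinearMap.smul_apply, smul_eq_mul]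
  ring

lemma minor3_rTensor {A B : Type*} [CommRing A] [Algebra R A] [CommRing B] [Algebra R B] (φ : A →ₐ[R] B)
    (X Y z : A ⊗[R] M₀) (i j l : Fin n) :
    minor3 B (LinearMap.rTensor M₀ φ.toLinearMap X) (LinearMap.rTensor M₀ φ.toLinearMap Y) i j l
        (LinearMap.rTensor M₀ φ.toLinearMap z) = φ (minor3 A X Y i j l z) := by
  simp only [minor3, LinearMap.add_apply, LinearMap.sub_apply, LinearMap.smul_apply, smul_eq_mul,
    Module.Basis.coord_apply, basis_repr_rTensor, map_add, map_sub, map_mul]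

lemma eq_zero_of_refl_commute {A : Type u} [CommRing A] [Algebra R A] (g : M₀ ≃ₗ[R] M₀)
    {X Y : A ⊗[R] M₀} (hX : IsUnit (QuadGrp.baseChangeForm A Q X)) (hY : IsUnit (QuadGrp.baseChangeForm A Q Y))
    (hc : g.baseChange R A M₀ M₀ * (refl (QuadGrp.baseChangeForm A Q) hX * refl (QuadGrp.baseChangeForm A Q) hY) =
      (refl (QuadGrp.baseChangeForm A Q) hX * refl (QuadGrp.baseChangeForm A Q) hY) * g.baseChange R A M₀ M₀)
    (U W : A ⊗[R] M₀) (i j l : Fin n) :
    (QuadraticMap.polar (QuadGrp.baseChangeForm A Q) X U * QuadraticMap.polar (QuadGrp.baseChangeForm A Q) Y W -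
        QuadraticMap.polar (QuadGrp.baseChangeForm A Q) X W * QuadraticMap.polar (QuadGrp.baseChangeForm A Q) Y U) *
      minor3 A X Y i j l (g.baseChange R A M₀ M₀ X) = 0 := by
  set Q' := QuadGrp.baseChangeForm A Q
  set gA := g.baseChange R A M₀ M₀
  set fX := reflForm Q' hX
  set fY := reflForm Q' hY
  set T := minor3 A X Y i j l
  have hw : ∀ v, (refl Q' hX * refl Q' hY) v = v + (fY v * fX Y - fX v) • X + (-fY v) • Y := fun v => by
    change refl Q' hX (refl Q' hY v) = _
    rw [refl_apply, refl_apply, map_sub, map_smul, smul_eq_mul]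
    module
  have key : ∀ v, (fY v * fX Y - fX v) * T (gA X) + (-fY v) * T (gA Y) = 0 := fun v => by
    have h := LinearMap.congr_fun (congrArg LinearEquiv.toLinearMap hc) v
    change gA ((refl Q' hX * refl Q' hY) v) = (refl Q' hX * refl Q' hY) (gA v) at h
    rw [hw, hw] at h
    have h2 := congrArg T h
    simp only [map_add, map_smul, smul_eq_mul, T, minor3_self₁, minor3_self₂, mul_zero, add_zero] at h2 ⊢
    linear_combination h2
  have h1 : (fX U * fY W - fX W * fY U) * T (gA X) = 0 := by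
    linear_combination (-(fY W)) * key U + (fY U) * key W
  have h3 := congrArg (fun t => Q' X * Q' Y * t) h1
  simp only [mul_zero, fX, fY, reflForm_apply] at h3
  rw [← h3]
  linear_combination (-(QuadraticMap.polar Q' X U * QuadraticMap.polar Q' Y W -
      QuadraticMap.polar Q' X W * QuadraticMap.polar Q' Y U) * minor3 A X Y i j l (gA X)) *
    (hX.val_inv_mul * (1 : A)) +
    (-(QuadraticMap.polar Q' X U * QuadraticMap.polar Q' Y W -
      QuadraticMap.polar Q' X W * QuadraticMap.polar Q' Y U) * minor3 A X Y i j l (gA X) *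
      (↑hX.unit⁻¹ * Q' X)) * hY.val_inv_mul

open MvPolynomial in
theorem exists_scalar_of_commute (hn : 3 ≤ n) (g : M₀ ≃ₗ[R] M₀)
    (hQ1 : ∀ m : Ideal R, m.IsMaximal → ∃ x, Q x ∉ m)
    (hQ2 : ∀ m : Ideal R, m.IsMaximal → ∃ x y u w, QuadraticMap.polar Q x u * QuadraticMap.polar Q y w -
      QuadraticMap.polar Q x w * QuadraticMap.polar Q y u ∉ m)
    (hyp : ∀ (A : Type u) [CommRing A] [Algebra R A] (X Y : A ⊗[R] M₀)
      (hX : IsUnit (QuadGrp.baseChangeForm A Q X)) (hY : IsUnit (QuadGrp.baseChangeForm A Q Y)),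
      g.baseChange R A M₀ M₀ * (refl (QuadGrp.baseChangeForm A Q) hX * refl (QuadGrp.baseChangeForm A Q) hY) =
        (refl (QuadGrp.baseChangeForm A Q) hX * refl (QuadGrp.baseChangeForm A Q) hY) * g.baseChange R A M₀ M₀) :
    ∃ c : R, ∀ v, g v = c • v := by
  let P := MvPolynomial (Fin 4 × Fin n) R
  let vec : Fin 4 → P ⊗[R] M₀ := fun k => ∑ i, (X (k, i) : P) ⊗ₜ[R] Pi.single i 1
  let q : Fin 4 → P := fun k => QuadGrp.baseChangeForm P Q (vec k)
  let F : P := q 0 * q 1
  let pol : Fin 4 → Fin 4 → P := fun k k' => QuadraticMap.polar (QuadGrp.baseChangeForm P Q) (vec k) (vec k')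
  let Δ : P := pol 0 2 * pol 1 3 - pol 0 3 * pol 1 2
  have hev : ∀ (x : Fin 4 → M₀) (k : Fin 4), LinearMap.rTensor M₀
      (MvPolynomial.aeval (R := R) fun p : Fin 4 × Fin n => x p.1 p.2).toLinearMap (vec k) =
        (1 : R) ⊗ₜ[R] x k := fun x k => by
    simp only [vec, map_sum, LinearMap.rTensor_tmul, AlgHom.toLinearMap_apply, aeval_X]
    conv_rhs => rw [show x k = ∑ i, x k i • (Pi.single i 1 : M₀) by
      ext j; simp [Pi.single_apply]]
    rw [tmul_sum]
    exact Finset.sum_congr rfl fun i _ => by rw [← smul_tmul, smul_eq_mul, mul_one]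
  have hq : ∀ (x : Fin 4 → M₀) (k : Fin 4),
      MvPolynomial.eval (fun p : Fin 4 × Fin n => x p.1 p.2) (q k) = Q (x k) := fun x k => by
    have h := baseChangeForm_rTensor Q (MvPolynomial.aeval (R := R) fun p : Fin 4 × Fin n => x p.1 p.2) (vec k)
    rw [hev, baseChangeForm_tmul, one_mul, one_mul] at h
    exact h.symm
  have hpol : ∀ (x : Fin 4 → M₀) (k k' : Fin 4),
      MvPolynomial.eval (fun p : Fin 4 × Fin n => x p.1 p.2) (pol k k') = QuadraticMap.polar Q (x k) (x k') :=
    fun x k k' => by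
    have h := polar_rTensor Q (MvPolynomial.aeval (R := R) fun p : Fin 4 × Fin n => x p.1 p.2) (vec k) (vec k')
    rw [hev, hev, polar_baseChangeForm_tmul, one_mul, one_mul] at h
    exact h.symm
  have hF : ∀ m : Ideal R, m.IsMaximal → ∃ x, MvPolynomial.eval x F ∉ m := fun m hm => by
    obtain ⟨x, hx⟩ := hQ1 m hm
    refine ⟨fun p => (fun _ : Fin 4 => x) p.1 p.2, ?_⟩
    rw [map_mul, hq (fun _ => x), hq (fun _ => x)]
    exact fun h => (hm.isPrime.mem_or_mem h).elim hx hx
  have hΔ : ∀ m : Ideal R, m.IsMaximal → ∃ x, MvPolynomial.eval x Δ ∉ m := fun m hm => by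
    obtain ⟨x, y, u, w, h⟩ := hQ2 m hm
    refine ⟨fun p => ![x, y, u, w] p.1 p.2, ?_⟩
    rw [map_sub, map_mul, map_mul, hpol ![x, y, u, w], hpol ![x, y, u, w], hpol ![x, y, u, w],
      hpol ![x, y, u, w]]
    exact h
  let A := Localization.Away F
  let ψ : P →ₐ[R] A := IsScalarTower.toAlgHom R P A
  have hFu : IsUnit (ψ F) := IsLocalization.Away.algebraMap_isUnit F
  rw [map_mul] at hFu
  have hD : ∀ i j l, minor3 P (vec 0) (vec 1) i j l (g.baseChange R P M₀ M₀ (vec 0)) = 0 := fun i j l => by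
    let vA : Fin 4 → A ⊗[R] M₀ := fun k => LinearMap.rTensor M₀ ψ.toLinearMap (vec k)
    have hX : IsUnit (QuadGrp.baseChangeForm A Q (vA 0)) := by
      rw [baseChangeForm_rTensor]; exact isUnit_of_mul_isUnit_left hFu
    have hY : IsUnit (QuadGrp.baseChangeForm A Q (vA 1)) := by
      rw [baseChangeForm_rTensor]; exact isUnit_of_mul_isUnit_right hFu
    have h := eq_zero_of_refl_commute Q g hX hY (hyp A _ _ hX hY) (vA 2) (vA 3) i j l
    simp only [vA, polar_rTensor, baseChange_rTensor, minor3_rTensor, ← map_mul, ← map_sub] at h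
    obtain ⟨⟨_, k, rfl⟩, hk⟩ := IsLocalization.exists_of_eq (M := Submonoid.powers F) (S := A)
      (h.trans (map_zero ψ).symm)
    rw [mul_zero] at hk
    refine eq_zero_of_mul_eq_zero_of_eval Δ hΔ ?_
    refine eq_zero_of_mul_eq_zero_of_eval (F ^ k) (fun m hm => ?_) ?_
    · obtain ⟨x, hx⟩ := hF m hm
      exact ⟨x, by rw [map_pow]; exact fun h => hx (hm.isPrime.mem_of_pow_mem k h)⟩
    · refine Eq.trans ?_ hk
      simp only [Δ, pol]
      ring
  -- evaluate at integral points
  have hpt : ∀ (x y : M₀) (i j l : Fin n),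
      (x j * y l - x l * y j) * g x i - (x i * y l - x l * y i) * g x j + (x i * y j - x j * y i) * g x l = 0 :=
    fun x y i j l => by
    have h := congrArg (MvPolynomial.aeval (R := R) fun p : Fin 4 × Fin n => (![x, y, 0, 0] : Fin 4 → M₀) p.1 p.2)
      (hD i j l)
    rw [map_zero, ← minor3_rTensor, ← baseChange_rTensor, hev ![x, y, 0, 0], hev ![x, y, 0, 0],
      LinearEquiv.baseChange_tmul] at h
    simpa [minor3, Algebra.TensorProduct.basis_repr_tmul] using h
  have third : ∀ i j : Fin n, ∃ l, l ≠ i ∧ l ≠ j := fun i j => by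
    by_contra! h
    have hsub : (Finset.univ : Finset (Fin n)) ⊆ {i, j} := fun l _ => by
      rcases eq_or_ne l i with h1 | h1
      · simp [h1]
      · simp [h l h1]
    have := (Finset.card_le_card hsub).trans Finset.card_le_two
    simp at this
    omega
  let G : Fin n → Fin n → R := fun i j => g (Pi.single j 1) i
  have hoff : ∀ i j, i ≠ j → G i j = 0 := fun i j hij => by
    obtain ⟨l, hli, hlj⟩ := third i j
    have h := hpt (Pi.single j 1) (Pi.single l 1) i j l
    simpa [G, hij, hij.symm, hli, hli.symm, hlj, hlj.symm] using h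
  have hdiag : ∀ i j, G i i = G j j := fun i j => by
    rcases eq_or_ne i j with rfl | hij
    · rfl
    obtain ⟨l, hli, hlj⟩ := third i j
    have h := hpt (Pi.single i 1 + Pi.single j 1) (Pi.single l 1) i j l
    simp [hij, hij.symm, hli, hli.symm, hlj, hlj.symm, map_add] at h
    have h1 := hoff i j hij
    have h2 := hoff j i hij.symm
    simp only [G] at h1 h2 ⊢
    linear_combination h - h1 + h2
  refine ⟨G ⟨0, by omega⟩ ⟨0, by omega⟩, fun v => funext fun i => ?_⟩
  conv_lhs => rw [show v = ∑ j, v j • (Pi.single j 1 : M₀) by ext k; simp [Pi.single_apply]]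
  rw [map_sum, Finset.sum_apply, Finset.sum_eq_single i (fun j _ hj => by
    rw [map_smul, Pi.smul_apply, show g (Pi.single j 1) i = 0 from hoff i j hj.symm, smul_zero]) (by simp),
    map_smul, Pi.smul_apply, Pi.smul_apply, smul_eq_mul, smul_eq_mul, hdiag ⟨0, by omega⟩ i, mul_comm]

lemma exists_witness (hn : 3 ≤ n) (hQ : QuadGrp.IsNondeg bR (LinearEquiv.refl R R) Q) (m : Ideal R)
    (hm : m.IsMaximal) :
    (∃ x, Q x ∉ m) ∧ ∃ x y u w, QuadraticMap.polar Q x u * QuadraticMap.polar Q y w -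
      QuadraticMap.polar Q x w * QuadraticMap.polar Q y u ∉ m := by
  let k := R ⧸ m
  letI : Field k := Ideal.Quotient.field m
  let Q' := QuadGrp.baseChangeForm k Q
  let b' := Algebra.TensorProduct.basis k bR
  have hlift : Function.Surjective fun x : M₀ => (1 : k) ⊗ₜ[R] x :=
    TensorProduct.mk_surjective R M₀ k Ideal.Quotient.mk_surjective
  suffices h : (∃ x, Q' x ≠ 0) ∧ ∃ x y u w, QuadraticMap.polar Q' x u * QuadraticMap.polar Q' y w -
      QuadraticMap.polar Q' x w * QuadraticMap.polar Q' y u ≠ 0 by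
    obtain ⟨⟨x, hx⟩, x₁, y₁, u₁, w₁, h⟩ := h
    obtain ⟨x, rfl⟩ := hlift x
    obtain ⟨x₁, rfl⟩ := hlift x₁
    obtain ⟨y₁, rfl⟩ := hlift y₁
    obtain ⟨u₁, rfl⟩ := hlift u₁
    obtain ⟨w₁, rfl⟩ := hlift w₁
    simp only [Q', baseChangeForm_tmul, polar_baseChangeForm_tmul, one_mul, ← map_mul, ← map_sub] at hx h
    exact ⟨⟨x, fun hmem => hx (Ideal.Quotient.eq_zero_iff_mem.mpr hmem)⟩, x₁, y₁, u₁, w₁,
      fun hmem => h (Ideal.Quotient.eq_zero_iff_mem.mpr hmem)⟩
  rcases Nat.even_or_odd n with he | ho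
  · have hreg := isRegular_baseChange k Q bR (hQ.1 he)
    obtain ⟨v, hv⟩ := exists_isUnit_Q b' (by omega) hreg
    obtain ⟨u, hu⟩ := exists_polar_eq hreg (b'.coord ⟨0, by omega⟩)
    obtain ⟨w, hw⟩ := exists_polar_eq hreg (b'.coord ⟨1, by omega⟩)
    refine ⟨⟨v, hv.ne_zero⟩, b' ⟨0, by omega⟩, b' ⟨1, by omega⟩, u, w, ?_⟩
    have e : ∀ u' i, QuadraticMap.polarBilin Q' u' = b'.coord i →
        ∀ j, QuadraticMap.polar Q' (b' j) u' = if j = i then 1 else 0 := fun u' i hu' j => by
      rw [QuadraticMap.polar_comm, ← QuadraticMap.polarBilin_apply_apply, hu', Module.Basis.coord_apply,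
        Module.Basis.repr_self, Finsupp.single_apply]
    rw [e u _ hu, e u _ hu, e w _ hw, e w _ hw]
    simp
  · obtain ⟨m', rfl⟩ := ho
    obtain ⟨d, horth, hv, hP⟩ := exists_orth_basis b' Q' (even_two_mul m')
      (isSemiregular_baseChange' (hQ.2 (odd_two_mul_add_one m')) k)
    set P := polarMat Q' fun i : Fin (2 * m') => d i.castSucc
    let dual : Fin (2 * m') → k ⊗[R] (Fin (2 * m' + 1) → R) := fun i =>
      ∑ l, (P⁻¹ l i) • d l.castSucc
    have hdual : ∀ i j, QuadraticMap.polar Q' (d i.castSucc) (dual j) = if i = j then 1 else 0 := fun i j => by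
      rw [← QuadraticMap.polarBilin_apply_apply, map_sum]
      simp only [map_smul, smul_eq_mul, QuadraticMap.polarBilin_apply_apply]
      have h := congrFun (congrFun (Matrix.mul_nonsing_inv P hP) i) j
      rw [Matrix.mul_apply, Matrix.one_apply] at h
      rw [← h]
      exact Finset.sum_congr rfl fun l _ => mul_comm _ _
    refine ⟨⟨_, hv.ne_zero⟩, d (⟨0, by omega⟩ : Fin (2 * m')).castSucc, d (⟨1, by omega⟩ : Fin (2 * m')).castSucc,
      dual ⟨0, by omega⟩, dual ⟨1, by omega⟩, ?_⟩
    rw [hdual, hdual, hdual, hdual]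
    simp
where
  isSemiregular_baseChange' {n : ℕ} {Q : QuadraticForm R (Fin n → R)}
      (h : QuadGrp.IsSemiregular (Pi.basisFun R (Fin n)) (LinearEquiv.refl R R) Q)
      (A : Type u) [CommRing A] [Algebra R A] :
      QuadGrp.IsSemiregular (Algebra.TensorProduct.basis A (Pi.basisFun R (Fin n))) (LinearEquiv.refl A A)
        (QuadGrp.baseChangeForm A Q) := by
    rw [QuadGrp.IsSemiregular, halfDisc_baseChange]
    exact IsUnit.map _ h

lemma mul_self_eq_one_of_scalar (hQ1 : ∀ m : Ideal R, m.IsMaximal → ∃ x, Q x ∉ m) {g : M₀ ≃ₗ[R] M₀}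
    (hg : g ∈ QuadGrp.O Q) {c : R} (hc : ∀ v, g v = c • v) : c * c = 1 := by
  refine sub_eq_zero.mp (eq_zero_of_forall_prime (R := R) fun p hp => ?_)
  obtain ⟨m, hm, hle⟩ := Ideal.exists_le_maximal p hp.ne_top
  obtain ⟨x, hx⟩ := hQ1 m hm
  have h := hg x
  rw [hc, QuadraticMap.map_smul, smul_eq_mul] at h
  exact ⟨Q x, fun hmem => hx (hle hmem), by rw [smul_eq_mul]; linear_combination h⟩

lemma commute_of_scalar (A : Type*) [CommRing A] [Algebra R A] {g : M₀ ≃ₗ[R] M₀} {c : R}
    (hc : ∀ v, g v = c • v) (h : (A ⊗[R] M₀) ≃ₗ[A] (A ⊗[R] M₀)) :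
    g.baseChange R A M₀ M₀ * h = h * g.baseChange R A M₀ M₀ := by
  have hg : ∀ v, g.baseChange R A M₀ M₀ v = algebraMap R A c • v := fun v => by
    induction v using TensorProduct.induction_on with
    | zero => simp
    | tmul a v => rw [LinearEquiv.baseChange_tmul, hc, tmul_smul, algebraMap_smul]
    | add x y hx hy => rw [map_add, hx, hy, smul_add]
  refine LinearEquiv.ext fun v => ?_
  change g.baseChange R A M₀ M₀ (h v) = h (g.baseChange R A M₀ M₀ v)
  rw [hg, hg, map_smul]

end Main

end Groth.Agent.H21Clif
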