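import Groth.Agent.H21Clif.MatLift
import Groth.Agent.H21Clif.Centralizer
import Groth.Agent.H21Rep.Basic
import Mathlib.Algebra.Polynomial.AlgebraMap

/-!
# Orthogonal group schemes as solution schemes of finitely many equations
-/

universe u

namespace Groth.Agent.H21Clif

open CategoryTheory AlgebraicGeometry TensorProduct Matrix
open scoped MonObj

set_option linter.style.haveILetI false
set_option linter.unusedSectionVars false

section Coeffs

variable {S : Type*} [CommRing S] {n : ℕ}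

lemma polar_of_ofMat {X Y : Matrix (Fin n) (Fin n) S} (h : ofMat X = ofMat Y) : X + Xᵀ = Y + Yᵀ := by
  ext i j
  have hij := congrFun h (Sym2.mk i j)
  rw [ofMat_mk, ofMat_mk] at hij
  simp only [Matrix.add_apply, Matrix.transpose_apply]
  by_cases hd : i = j
  · subst hd
    rw [if_pos rfl, if_pos rfl] at hij
    rw [hij]
  · rw [if_neg hd, if_neg hd] at hij
    exact hij

lemma ext_coeffs {N : Type*} [AddCommGroup N] [Module S N] (b : Module.Basis (Fin n) S N)
    {Q₁ Q₂ : QuadraticForm S N}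
    (h : QuadGrp.coeffs b (LinearEquiv.refl S S) Q₁ = QuadGrp.coeffs b (LinearEquiv.refl S S) Q₂) : Q₁ = Q₂ := by
  rw [← QuadraticMap.toQuadraticMap_toBilin Q₁ b, ← QuadraticMap.toQuadraticMap_toBilin Q₂ b]
  congr 1
  refine LinearMap.BilinForm.ext_basis b fun i j => ?_
  have hij := congrFun h (Sym2.mk i j)
  rw [QuadGrp.coeffs_mk, QuadGrp.coeffs_mk] at hij
  rw [QuadraticMap.toBilin_apply, QuadraticMap.toBilin_apply]
  by_cases hd : i = j
  · subst hd
    simpa using hij
  · simp only [if_neg hd] at hij ⊢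
    split_ifs
    · simpa using hij
    · rfl

/-- a matrix preserving a non-degenerate coefficient table has determinant a square root of one -/
lemma det_sq_of_congr (C G : Matrix (Fin n) (Fin n) S)
    (hC : IsUnit (C + Cᵀ).det ∨ (Odd n ∧ IsUnit (hd (ofMat C))))
    (h : ofMat (Gᵀ * C * G) = ofMat C) : G.det ^ 2 = 1 := by
  rcases hC with hC | ⟨hn, hC⟩
  · have h1 := congrArg Matrix.det (polar_of_ofMat h)
    rw [show Gᵀ * C * G + (Gᵀ * C * G)ᵀ = Gᵀ * (C + Cᵀ) * G by
      rw [Matrix.transpose_mul, Matrix.transpose_mul, Matrix.transpose_transpose, Matrix.mul_add,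
        Matrix.add_mul, Matrix.mul_assoc Gᵀ Cᵀ], Matrix.det_mul, Matrix.det_mul, Matrix.det_transpose] at h1
    exact hC.mul_left_cancel (by linear_combination h1)
  · have h1 := hd_congr hn C G
    rw [h] at h1
    exact hC.mul_right_cancel (by linear_combination -h1)

end Coeffs

variable {R : Type u} [CommRing R] {n : ℕ} (C : Matrix (Fin n) (Fin n) R)

/-- equations of the orthogonal group -/
noncomputable def orthEqs : H21Rep.Eqs R (Fin n × Fin n) (Sym2 (Fin n)) where
  F A _ _ x k :=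
    ofMat ((Matrix.of fun i j => x (i, j))ᵀ * C.map (algebraMap R A) * Matrix.of fun i j => x (i, j)) k -
      ofMat (C.map (algebraMap R A)) k
  map A B _ _ _ _ φ x k := by
    have hof : ∀ X : Matrix (Fin n) (Fin n) A, φ (ofMat X k) = ofMat (X.map φ) k := fun X =>
      congrFun (ofMat_map φ.toRingHom X) k
    have hC : (C.map (algebraMap R A)).map φ = C.map (algebraMap R B) := by
      ext i j
      simp
    have hx : (Matrix.of fun i j => x (i, j)).map φ = Matrix.of fun i j => (φ ∘ x) (i, j) := rfl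
    rw [map_sub, hof, hof, Matrix.map_mul, Matrix.map_mul, hC, Matrix.transpose_map, hx]

/-- equations of the naive special orthogonal group -/
noncomputable def sorthEqs : H21Rep.Eqs R (Fin n × Fin n) (Sym2 (Fin n) ⊕ Unit) where
  F A _ _ x k := Sum.elim ((orthEqs C).F A x) (fun _ => (Matrix.of fun i j => x (i, j)).det - 1) k
  map A B _ _ _ _ φ x k := by
    cases k with
    | inl k => exact (orthEqs C).map A B φ x k
    | inr k =>
      simp only [Sum.elim_inr, map_sub, map_one, AlgHom.map_det]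
      rfl

lemma sorthEqs_inl (A : Type u) [CommRing A] [Algebra R A] (x : Fin n × Fin n → A) (k : Sym2 (Fin n)) :
    (sorthEqs C).F A x (Sum.inl k) = (orthEqs C).F A x k := rfl

lemma sorthEqs_inr (A : Type u) [CommRing A] [Algebra R A] (x : Fin n × Fin n → A) (k : Unit) :
    (sorthEqs C).F A x (Sum.inr k) = (Matrix.of fun i j => x (i, j)).det - 1 := rfl

lemma orthEqs_eq_zero_iff (A : Type u) [CommRing A] [Algebra R A] (x : Fin n × Fin n → A) :
    (∀ k, (orthEqs C).F A x k = 0) ↔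
      ofMat ((Matrix.of fun i j => x (i, j))ᵀ * C.map (algebraMap R A) * Matrix.of fun i j => x (i, j)) =
        ofMat (C.map (algebraMap R A)) := by
  rw [funext_iff]
  exact forall_congr' fun k => sub_eq_zero

section NonDeg

variable (A : Type u) [CommRing A] [Algebra R A]

lemma nondeg_map (hC : IsUnit (C + Cᵀ).det ∨ (Odd n ∧ IsUnit (hd (ofMat C)))) :
    IsUnit (C.map (algebraMap R A) + (C.map (algebraMap R A))ᵀ).det ∨
      (Odd n ∧ IsUnit (hd (ofMat (C.map (algebraMap R A))))) := by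
  refine hC.imp (fun h => ?_) fun h => ⟨h.1, ?_⟩
  · rw [← Matrix.transpose_map, ← Matrix.map_add _ (map_add _), ← RingHom.mapMatrix_apply, ← RingHom.map_det]
    exact h.map _
  · rw [← ofMat_map, ← map_hd]
    exact h.2.map _

end NonDeg

lemma false_of_lifts (hn : Odd n) (hC : IsUnit (hd (ofMat C))) (h : (orthEqs C).Lifts)
    (A : Type u) [CommRing A] [Algebra R A] (t : A) (ht3 : t ^ 3 = 0) (ht2 : t ^ 2 ≠ 0) (h2A : (2 : A) = 0) :
    False := by
  let I : Ideal A := Ideal.span {t ^ 2}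
  have hI : I ^ 2 = ⊥ := by
    rw [Ideal.span_singleton_pow, Ideal.span_singleton_eq_bot]
    linear_combination t * ht3
  let G₀ : Matrix (Fin n) (Fin n) A := (1 + t) • 1
  obtain ⟨y, hy, hyx⟩ := h A I hI (fun p => Ideal.Quotient.mk I (G₀ p.1 p.2)) fun k => by
    have hmap := (orthEqs C).map A (A ⧸ I) (Ideal.Quotient.mkₐ R I) (fun p => G₀ p.1 p.2) k
    refine hmap.symm.trans (Ideal.Quotient.eq_zero_iff_mem.mpr ?_)
    change ofMat ((Matrix.of fun i j => G₀ i j)ᵀ * C.map (algebraMap R A) * Matrix.of fun i j => G₀ i j) k -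
      ofMat (C.map (algebraMap R A)) k ∈ I
    have : ((Matrix.of fun i j => G₀ i j)ᵀ * C.map (algebraMap R A) * Matrix.of fun i j => G₀ i j) =
        ((1 + t) * (1 + t)) • C.map (algebraMap R A) := by
      change G₀ᵀ * _ * G₀ = _
      simp [G₀, smul_smul]
    rw [this, ofMat_smul, Pi.smul_apply, smul_eq_mul,
      show (1 + t) * (1 + t) = 1 + t ^ 2 by linear_combination t * h2A, add_mul, one_mul, add_sub_cancel_left]
    exact Ideal.mul_mem_right _ _ (Ideal.mem_span_singleton_self _)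
  let G : Matrix (Fin n) (Fin n) A := Matrix.of fun i j => y (i, j)
  have hsq : G.det ^ 2 = 1 := det_sq_of_congr _ G
    (nondeg_map C A (Or.inr ⟨hn, hC⟩)) ((orthEqs_eq_zero_iff C A y).mp hy)
  have hz : G.det - (1 + t) ^ n ∈ I := by
    rw [← Ideal.Quotient.eq, RingHom.map_det]
    have : G.map (Ideal.Quotient.mk I) = G₀.map (Ideal.Quotient.mk I) := by
      ext i j
      exact hyx (i, j)
    rw [RingHom.mapMatrix_apply, this, ← RingHom.mapMatrix_apply, ← RingHom.map_det]
    simp [G₀, Matrix.det_smul]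
  have hz2 : (G.det - (1 + t) ^ n) ^ 2 = 0 := by
    rw [← Ideal.mem_bot, ← hI, pow_two, pow_two]
    exact Ideal.mul_mem_mul hz hz
  obtain ⟨k, rfl⟩ := hn
  have hk : ((1 + t ^ 2) : A) ^ (2 * k + 1) = 1 + t ^ 2 := by
    have h4 : ((1 + t ^ 2) : A) ^ 2 = 1 := by linear_combination (t ^ 2) * h2A + t * ht3
    rw [pow_succ, pow_mul, h4, one_pow, one_mul]
  have hpow : ((1 + t) : A) ^ (2 * k + 1) * (1 + t) ^ (2 * k + 1) = 1 + t ^ 2 := by
    rw [← mul_pow, show (1 + t) * (1 + t) = 1 + t ^ 2 by linear_combination t * h2A, hk]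
  refine ht2 ?_
  linear_combination hsq - hpow - hz2 - (G.det * (1 + t) ^ (2 * k + 1) - (1 + t) ^ (2 * k + 1) * (1 + t) ^ (2 * k + 1)) * h2A

/-- necessity: in odd rank smoothness forces `2` to be a unit -/
lemma isUnit_two_of_lifts (hn : Odd n) (hC : IsUnit (hd (ofMat C))) (h : (orthEqs C).Lifts) :
    IsUnit (2 : R) := by
  by_contra h2
  haveI : Nontrivial (R ⧸ Ideal.span {(2 : R)}) :=
    Ideal.Quotient.nontrivial_iff.mpr fun ht => h2 (Ideal.span_singleton_eq_top.mp ht)
  refine false_of_lifts C hn hC h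
    (Polynomial (R ⧸ Ideal.span {(2 : R)}) ⧸ Ideal.span {(Polynomial.X : Polynomial (R ⧸ Ideal.span {(2 : R)})) ^ 3})
    (Ideal.Quotient.mk _ Polynomial.X) ?_ ?_ ?_
  · rw [← map_pow]
    exact Ideal.Quotient.eq_zero_iff_mem.mpr (Ideal.mem_span_singleton_self _)
  · intro h0
    rw [← map_pow] at h0
    have h1 := Ideal.mem_span_singleton.mp (Ideal.Quotient.eq_zero_iff_mem.mp h0)
    have h3 := Polynomial.X_pow_dvd_iff.mp h1 2 (by norm_num)
    simp at h3
  · have h0 : (2 : R ⧸ Ideal.span {(2 : R)}) = 0 := by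
      rw [← map_ofNat (Ideal.Quotient.mk (Ideal.span {(2 : R)})) 2]
      exact Ideal.Quotient.eq_zero_iff_mem.mpr (Ideal.mem_span_singleton_self _)
    have := congrArg (fun r => Ideal.Quotient.mk (Ideal.span {(Polynomial.X : Polynomial (R ⧸ Ideal.span {(2 : R)})) ^ 3}) (Polynomial.C r)) h0
    simpa only [map_ofNat, map_zero] using this

/-- the orthogonal group lifts when the polar matrix is invertible -/
lemma orth_lifts (hC : IsUnit (C + Cᵀ).det) : (orthEqs C).Lifts := by
  intro A _ _ I hI x hx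
  choose g hg using fun p => Ideal.Quotient.mk_surjective (I := I) (x p)
  have hG : ∀ k, (orthEqs C).F A g k ∈ I := fun k => by
    rw [← Ideal.Quotient.eq_zero_iff_mem]
    refine ((orthEqs C).map A (A ⧸ I) (Ideal.Quotient.mkₐ R I) g k).trans ?_
    exact (congrArg (fun y => (orthEqs C).F (A ⧸ I) y k) (funext hg)).trans (hx k)
  obtain ⟨G', hG', hG'C⟩ := exists_fix_regular (by rw [← hI, pow_two]) (C.map (algebraMap R A))
    ((nondeg_map C A (Or.inl hC)).elim id fun h => by
      rw [← Matrix.transpose_map, ← Matrix.map_add _ (map_add _), ← RingHom.mapMatrix_apply, ← RingHom.map_det]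
      exact hC.map _)
    (Matrix.of fun i j => g (i, j)) hG
  refine ⟨fun p => G' p.1 p.2, (orthEqs_eq_zero_iff C A _).mpr hG'C, fun p => ?_⟩
  rw [← hg p, Ideal.Quotient.eq]
  exact hG' p.1 p.2

/-- the naive special orthogonal group lifts in odd rank and when `2` is a unit -/
lemma sorth_lifts (hC : (Odd n ∧ IsUnit (hd (ofMat C))) ∨ (IsUnit (C + Cᵀ).det ∧ IsUnit (2 : R))) :
    (sorthEqs C).Lifts := by
  intro A _ _ I hI x hx
  choose g hg using fun p => Ideal.Quotient.mk_surjective (I := I) (x p)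
  have hG : ∀ k, (sorthEqs C).F A g k ∈ I := fun k => by
    rw [← Ideal.Quotient.eq_zero_iff_mem]
    refine ((sorthEqs C).map A (A ⧸ I) (Ideal.Quotient.mkₐ R I) g k).trans ?_
    exact (congrArg (fun y => (sorthEqs C).F (A ⧸ I) y k) (funext hg)).trans (hx k)
  suffices key : ∃ G' : Matrix (Fin n) (Fin n) A, (∀ i j, G' i j - g (i, j) ∈ I) ∧
      ofMat (G'ᵀ * C.map (algebraMap R A) * G') = ofMat (C.map (algebraMap R A)) ∧ G'.det = 1 by
    obtain ⟨G', hG', hG'C, hdet⟩ := key
    refine ⟨fun p => G' p.1 p.2, fun k => ?_, fun p => ?_⟩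
    · cases k with
      | inl k => rw [sorthEqs_inl]; exact (orthEqs_eq_zero_iff C A (fun p => G' p.1 p.2)).mpr hG'C k
      | inr k => rw [sorthEqs_inr, show (Matrix.of fun i j => G' i j) = G' from rfl, hdet, sub_self]
    · rw [← hg p, Ideal.Quotient.eq]
      exact hG' p.1 p.2
  rcases hC with ⟨hn, hu⟩ | ⟨hu, h2⟩
  · obtain ⟨k, rfl⟩ := hn
    have h1 : ∀ p, ofMat ((Matrix.of fun i j => g (i, j))ᵀ * C.map (algebraMap R A) * Matrix.of fun i j => g (i, j)) p -
        ofMat (C.map (algebraMap R A)) p ∈ I := fun p => by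
      have h := hG (Sum.inl p)
      rw [sorthEqs_inl] at h
      exact h
    have h2 : (Matrix.of fun i j => g (i, j)).det - 1 ∈ I := by
      have h := hG (Sum.inr ())
      rwa [sorthEqs_inr] at h
    refine exists_fix_odd (r := 2 * k) (even_two_mul k) (by rw [← hI, pow_two]) (C.map (algebraMap R A)) ?_ (Matrix.of fun i j => g (i, j)) h1 h2
    rw [← ofMat_map, ← map_hd]
    exact hu.map _
  · have hu' : IsUnit (C.map (algebraMap R A) + (C.map (algebraMap R A))ᵀ).det := by
      rw [← Matrix.transpose_map, ← Matrix.map_add _ (map_add _), ← RingHom.mapMatrix_apply, ← RingHom.map_det]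
      exact hu.map _
    obtain ⟨G', hG', hG'C⟩ := exists_fix_regular (by rw [← hI, pow_two]) _ hu'
      (Matrix.of fun i j => g (i, j)) fun p => by
        have h := hG (Sum.inl p)
        rw [sorthEqs_inl] at h
        exact h
    refine ⟨G', hG', hG'C, ?_⟩
    have hsq := det_sq_of_congr _ G' (Or.inl hu') hG'C
    have hcong : G'.det - 1 ∈ I := by
      have h1 : G'.det - (Matrix.of fun i j => g (i, j)).det ∈ I := by
        rw [← Ideal.Quotient.eq, RingHom.map_det, RingHom.map_det]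
        congr 1
        ext i j
        exact Ideal.Quotient.eq.mpr (hG' i j)
      have h3 := hG (Sum.inr ())
      rw [sorthEqs_inr] at h3
      simpa using add_mem h1 h3
    have hzero : (G'.det - 1) * (G'.det - 1) = 0 := by
      rw [← Ideal.mem_bot, ← hI, pow_two]
      exact Ideal.mul_mem_mul hcong hcong
    have h2' : IsUnit (2 : A) := by
      have := h2.map (algebraMap R A)
      rwa [map_ofNat] at this
    exact sub_eq_zero.mp (h2'.mul_left_cancel (by linear_combination hsq - hzero))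

section Points

variable (Q : QuadraticForm R (Fin n → R)) (hC : C = LinearMap.BilinForm.toMatrix (Pi.basisFun R (Fin n)) (Q.toBilin (Pi.basisFun R (Fin n))))
variable (A : Type u) [CommRing A] [Algebra R A]

local notation "bA" => Algebra.TensorProduct.basis A (Pi.basisFun R (Fin n))

lemma coeffs_gram : QuadGrp.coeffs (Pi.basisFun R (Fin n)) (LinearEquiv.refl R R) Q =
    ofMat (LinearMap.BilinForm.toMatrix (Pi.basisFun R (Fin n)) (Q.toBilin (Pi.basisFun R (Fin n)))) :=
  coeffs_eq_ofMat _ Q (QuadraticMap.toQuadraticMap_toBilin Q _)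

lemma coeffs_baseChange : QuadGrp.coeffs bA (LinearEquiv.refl A A) (QuadGrp.baseChangeForm A Q) =
    ofMat ((LinearMap.BilinForm.toMatrix (Pi.basisFun R (Fin n)) (Q.toBilin (Pi.basisFun R (Fin n)))).map
      (algebraMap R A)) := by
  rw [← ofMat_map, ← coeffs_gram]
  refine funext fun p => Sym2.ind (fun i j => ?_) p
  rw [Function.comp_apply, QuadGrp.coeffs_mk, QuadGrp.coeffs_mk]
  simp only [Algebra.TensorProduct.basis_apply, LinearEquiv.refl_apply, baseChangeForm_tmul,
    polar_baseChangeForm_tmul, one_mul]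
  split_ifs <;> rfl

include hC in
lemma comp_eq_iff (f : (A ⊗[R] (Fin n → R)) →ₗ[A] (A ⊗[R] (Fin n → R))) :
    (QuadGrp.baseChangeForm A Q).comp f = QuadGrp.baseChangeForm A Q ↔
      ∀ k, (orthEqs C).F A (fun p => LinearMap.toMatrix bA bA f p.1 p.2) k = 0 := by
  subst hC
  rw [orthEqs_eq_zero_iff]
  set C := LinearMap.BilinForm.toMatrix (Pi.basisFun R (Fin n)) (Q.toBilin (Pi.basisFun R (Fin n)))
  let β' := Matrix.toBilin bA (C.map (algebraMap R A))
  have hβ : β'.toQuadraticMap = QuadGrp.baseChangeForm A Q := by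
    refine ext_coeffs bA ?_
    rw [coeffs_baseChange, coeffs_eq_ofMat bA _ rfl, LinearMap.BilinForm.toMatrix_toBilin]
  have hcomp : (β'.comp f f).toQuadraticMap = (QuadGrp.baseChangeForm A Q).comp f := by
    ext v; simp [← hβ, LinearMap.BilinForm.comp]
  have key : QuadGrp.coeffs bA (LinearEquiv.refl A A) ((QuadGrp.baseChangeForm A Q).comp f) =
      ofMat ((LinearMap.toMatrix bA bA f)ᵀ * C.map (algebraMap R A) * LinearMap.toMatrix bA bA f) := by
    rw [coeffs_eq_ofMat bA _ hcomp, LinearMap.BilinForm.toMatrix_comp bA bA, LinearMap.BilinForm.toMatrix_toBilin]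
  refine ⟨fun h => ?_, fun h => ext_coeffs bA ?_⟩
  · rw [← coeffs_baseChange]
    change ofMat ((LinearMap.toMatrix bA bA f)ᵀ * C.map (algebraMap R A) * LinearMap.toMatrix bA bA f) = _
    rw [← key, h]
  · rw [key, coeffs_baseChange]
    exact h

/-- matrix coordinates of an automorphism -/
noncomputable def matCoord (h : (A ⊗[R] (Fin n → R)) ≃ₗ[A] (A ⊗[R] (Fin n → R))) : Fin n × Fin n → A :=
  fun p => LinearMap.toMatrix bA bA h.toLinearMap p.1 p.2

lemma matCoord_injective : Function.Injective (matCoord (R := R) (n := n) A) := fun h h' heq =>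
  LinearEquiv.toLinearMap_injective ((LinearMap.toMatrix bA bA).injective
    (Matrix.ext fun i j => congrFun heq (i, j)))

include hC in
lemma mem_orth_iff_coord (h : (A ⊗[R] (Fin n → R)) ≃ₗ[A] (A ⊗[R] (Fin n → R))) :
    h ∈ QuadGrp.orth Q A ↔ ∀ k, (orthEqs C).F A (matCoord A h) k = 0 := by
  rw [mem_orth_iff]
  exact Iff.trans ⟨fun H => QuadraticMap.ext fun v => H v, fun H v => congrArg (fun q => q v) H⟩
    (comp_eq_iff C Q hC A h.toLinearMap)

include hC in
lemma mem_sorth'_iff_coord (h : (A ⊗[R] (Fin n → R)) ≃ₗ[A] (A ⊗[R] (Fin n → R))) :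
    h ∈ QuadGrp.sorth' Q A ↔ ∀ k, (sorthEqs C).F A (matCoord A h) k = 0 := by
  rw [Sum.forall, QuadGrp.sorth', QuadGrp.SO', Subgroup.mem_inf]
  refine and_congr (mem_orth_iff_coord C Q hC A h) ?_
  have hdet : (Matrix.of fun i j => matCoord A h (i, j)).det = ((LinearEquiv.det h : Aˣ) : A) := by
    rw [LinearEquiv.coe_det, ← LinearMap.det_toMatrix bA]
    rfl
  rw [MonoidHom.mem_ker, ← Units.val_inj, Units.val_one]
  simp only [sorthEqs, Sum.elim_inr, hdet, sub_eq_zero, forall_const]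

include hC in
lemma exists_coord (hnd : IsUnit (C + Cᵀ).det ∨ (Odd n ∧ IsUnit (hd (ofMat C)))) (x : Fin n × Fin n → A)
    (hx : ∀ k, (orthEqs C).F A x k = 0) :
    ∃ h : (A ⊗[R] (Fin n → R)) ≃ₗ[A] (A ⊗[R] (Fin n → R)), matCoord A h = x := by
  let G : Matrix (Fin n) (Fin n) A := Matrix.of fun i j => x (i, j)
  have hu : IsUnit G.det := IsUnit.of_pow_eq_one
    (det_sq_of_congr _ G (nondeg_map C A hnd) ((orthEqs_eq_zero_iff C A x).mp hx)) two_ne_zero
  refine ⟨Matrix.toLinearEquiv bA G hu, funext fun p => ?_⟩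
  change LinearMap.toMatrix bA bA (Matrix.toLin bA bA G) p.1 p.2 = x p
  rw [LinearMap.toMatrix_toLin]
  rfl

/-- the points of `O(q)` are the solutions -/
noncomputable def orthEquiv (hnd : IsUnit (C + Cᵀ).det ∨ (Odd n ∧ IsUnit (hd (ofMat C)))) :
    ↥(QuadGrp.orth Q A) ≃ {x : Fin n × Fin n → A // ∀ k, (orthEqs C).F A x k = 0} :=
  Equiv.ofBijective (fun h => ⟨matCoord A h.1, (mem_orth_iff_coord C Q hC A h.1).mp h.2⟩)
    ⟨fun _ _ heq => Subtype.ext (matCoord_injective A (Subtype.ext_iff.mp heq)),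
      fun x => by
        obtain ⟨h, hh⟩ := exists_coord C Q hC A hnd x.1 x.2
        exact ⟨⟨h, (mem_orth_iff_coord C Q hC A h).mpr (by rw [hh]; exact x.2)⟩, Subtype.ext hh⟩⟩

/-- the points of `SO′(q)` are the solutions -/
noncomputable def sorthEquiv (hnd : IsUnit (C + Cᵀ).det ∨ (Odd n ∧ IsUnit (hd (ofMat C)))) :
    ↥(QuadGrp.sorth' Q A) ≃ {x : Fin n × Fin n → A // ∀ k, (sorthEqs C).F A x k = 0} :=
  Equiv.ofBijective (fun h => ⟨matCoord A h.1, (mem_sorth'_iff_coord C Q hC A h.1).mp h.2⟩)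
    ⟨fun _ _ heq => Subtype.ext (matCoord_injective A (Subtype.ext_iff.mp heq)),
      fun x => by
        obtain ⟨h, hh⟩ := exists_coord C Q hC A hnd x.1 (fun k => x.2 (Sum.inl k))
        exact ⟨⟨h, (mem_sorth'_iff_coord C Q hC A h).mpr (by rw [hh]; exact x.2)⟩, Subtype.ext hh⟩⟩

end Points

lemma matCoord_natural {A B : Type u} [CommRing A] [Algebra R A] [CommRing B] [Algebra R B] (φ : A →ₐ[R] B)
    (h : (A ⊗[R] (Fin n → R)) ≃ₗ[A] (A ⊗[R] (Fin n → R)))
    (h' : (B ⊗[R] (Fin n → R)) ≃ₗ[B] (B ⊗[R] (Fin n → R)))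
    (H : ∀ m, h' (1 ⊗ₜ[R] m) = LinearMap.rTensor (Fin n → R) φ.toLinearMap (h (1 ⊗ₜ[R] m))) :
    matCoord B h' = φ ∘ matCoord A h := by
  refine funext fun p => ?_
  simp only [matCoord, Function.comp_apply, LinearMap.toMatrix_apply, LinearEquiv.coe_coe,
    Algebra.TensorProduct.basis_apply, H]
  exact basis_repr_rTensor φ _ _ _

section Main

variable (Q : QuadraticForm R (Fin n → R))

lemma gram_nondeg (hQ : QuadGrp.IsNondeg (Pi.basisFun R (Fin n)) (LinearEquiv.refl R R) Q) :
    let C := LinearMap.BilinForm.toMatrix (Pi.basisFun R (Fin n)) (Q.toBilin (Pi.basisFun R (Fin n)))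
    (Even n → IsUnit (C + Cᵀ).det) ∧ (Odd n → IsUnit (hd (ofMat C))) := by
  refine ⟨fun hn => ?_, fun hn => ?_⟩
  · let b := Pi.basisFun R (Fin n)
    let e := LinearEquiv.ofBijective (QuadraticMap.polarBilin Q) (hQ.1 hn)
    have hu : IsUnit (LinearMap.toMatrix b b.dualBasis e.toLinearMap).det :=
      LinearEquiv.isUnit_det e b b.dualBasis
    convert hu using 2
    ext i j
    rw [Matrix.add_apply, Matrix.transpose_apply, LinearMap.BilinForm.toMatrix_apply,
      LinearMap.BilinForm.toMatrix_apply, LinearMap.toMatrix_apply, Module.Basis.dualBasis_repr]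
    change _ = QuadraticMap.polar Q (b j) (b i)
    conv_rhs => rw [← QuadraticMap.toQuadraticMap_toBilin Q b, LinearMap.BilinMap.polar_toQuadraticMap]
    exact add_comm _ _
  · have := hQ.2 hn
    rwa [QuadGrp.IsSemiregular, halfDisc_eq_hd, coeffs_gram] at this

theorem smooth_orth_iff (hQ : QuadGrp.IsNondeg (Pi.basisFun R (Fin n)) (LinearEquiv.refl R R) Q)
    (G : Over (Spec (CommRingCat.of R))) [GrpObj G] (D : QuadGrp.OrthRep Q G) :
    AlgebraicGeometry.Smooth G.hom ↔ (Even n ∨ IsUnit (2 : R)) := by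
  set C := LinearMap.BilinForm.toMatrix (Pi.basisFun R (Fin n)) (Q.toBilin (Pi.basisFun R (Fin n))) with hC
  obtain ⟨hev, hod⟩ := gram_nondeg Q hQ
  have hnd : IsUnit (C + Cᵀ).det ∨ (Odd n ∧ IsUnit (hd (ofMat C))) :=
    (Nat.even_or_odd n).imp hev fun h => ⟨h, hod h⟩
  rw [H21Rep.smooth_iff (orthEqs C) G (fun A _ _ => (D.pts A).toEquiv.trans (orthEquiv C Q hC A hnd))
    fun A B _ _ _ _ φ y => matCoord_natural φ _ _ (D.natural A B φ y)]
  refine ⟨fun h => (Nat.even_or_odd n).imp id fun hn => isUnit_two_of_lifts C hn (hod hn) h, fun h => ?_⟩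
  refine orth_lifts C (h.elim hev fun h2 => (Nat.even_or_odd n).elim hev fun hn => ?_)
  rw [← two_mul_hd hn]
  exact h2.mul (hod hn)

theorem smooth_sorth (hQ : QuadGrp.IsNondeg (Pi.basisFun R (Fin n)) (LinearEquiv.refl R R) Q)
    (G : Over (Spec (CommRingCat.of R))) [GrpObj G] (D : QuadGrp.SOrth'Rep Q G) (h : Odd n ∨ IsUnit (2 : R)) :
    AlgebraicGeometry.Smooth G.hom := by
  set C := LinearMap.BilinForm.toMatrix (Pi.basisFun R (Fin n)) (Q.toBilin (Pi.basisFun R (Fin n))) with hC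
  obtain ⟨hev, hod⟩ := gram_nondeg Q hQ
  have hnd : IsUnit (C + Cᵀ).det ∨ (Odd n ∧ IsUnit (hd (ofMat C))) :=
    (Nat.even_or_odd n).imp hev fun h => ⟨h, hod h⟩
  rw [H21Rep.smooth_iff (sorthEqs C) G (fun A _ _ => (D.pts A).toEquiv.trans (sorthEquiv C Q hC A hnd))
    fun A B _ _ _ _ φ y => matCoord_natural φ _ _ (D.natural A B φ y)]
  refine sorth_lifts C ?_
  rcases Nat.even_or_odd n with hn | hn
  · exact Or.inr ⟨hev hn, h.resolve_left (Nat.not_odd_iff_even.mpr hn)⟩
  · exact Or.inl ⟨hn, hod hn⟩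

end Main

end Groth.Agent.H21Clif
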