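import Groth.Agent.H21Clif.CliffCoord
import Groth.Agent.H21Clif.OrthScheme

/-!
# Lifting the Clifford group along square-zero ideals
-/

universe u

namespace Groth.Agent.H21Clif

open CliffordAlgebra TensorProduct

set_option linter.style.haveILetI false
set_option linter.unusedSectionVars false

section Ker

variable {A : Type u} [CommRing A] {M : Type u} [AddCommGroup M] [Module A M] [Module.Free A M]
variable {n : ℕ} (b : Module.Basis (Fin n) A M) {Q : QuadraticForm A M} (B : Type u) [CommRing B] [Algebra A B]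

local notation "Q'" => QuadGrp.baseChangeForm B Q

lemma repr_Ψ (x : CliffordAlgebra Q) (S : Finset (Fin n)) :
    (cBA b Q B).repr (Ψ B Q x) S = algebraMap A B ((cBasis b Q).repr x S) := by
  conv_lhs => rw [← (cBasis b Q).sum_repr x]
  simp only [map_sum, map_smul, ← cBA_apply, ← algebraMap_smul B ((cBasis b Q).repr x _),
    Module.Basis.repr_self, Finsupp.coe_finsetSum, Finset.sum_apply, Finsupp.smul_apply, Finsupp.single_apply,
    smul_eq_mul]
  simp

lemma Ψ_eq_zero_iff (x : CliffordAlgebra Q) :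
    Ψ B Q x = 0 ↔ ∀ S, algebraMap A B ((cBasis b Q).repr x S) = 0 := by
  refine ⟨fun h S => by rw [← repr_Ψ, h]; simp, fun h => (cBA b Q B).repr.injective (Finsupp.ext fun S => ?_)⟩
  rw [repr_Ψ, h S, map_zero, Finsupp.zero_apply]

include b in
lemma Ψ_surjective (hB : Function.Surjective (algebraMap A B)) (y : CliffordAlgebra Q') :
    ∃ x, Ψ B Q x = y := by
  choose a ha using fun S => hB ((cBA b Q B).repr y S)
  refine ⟨∑ S, a S • cBasis b Q S, ?_⟩
  simp only [map_sum, map_smul, ← cBA_apply, ← algebraMap_smul B (a _), ha]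
  exact (cBA b Q B).sum_repr y

lemma algebraMap_eq_iff (r : A) :
    (cBasis b Q).repr (algebraMap A _ r) ∅ = r := by
  rw [Algebra.algebraMap_eq_smul_one, ← cBasis_empty b Q, map_smul, Module.Basis.repr_self]
  simp

include b in
lemma algebraMap_eq_zero_of_Ψ {r : A} (h : Ψ B Q (algebraMap A _ r) = 0) : algebraMap A B r = 0 := by
  have := (Ψ_eq_zero_iff b B _).mp h ∅
  rwa [algebraMap_eq_iff] at this

/-- the kernel of `C(Q) → C(Q_{A/I})` squares to zero -/
lemma mul_eq_zero_of_Ψ {I : Ideal A} (hI : I * I = ⊥) (b : Module.Basis (Fin n) A M) {x y : CliffordAlgebra Q}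
    (hx : Ψ (A ⧸ I) Q x = 0) (hy : Ψ (A ⧸ I) Q y = 0) : x * y = 0 := by
  rw [← (cBasis b Q).sum_repr x, ← (cBasis b Q).sum_repr y, Finset.sum_mul]
  refine Finset.sum_eq_zero fun S _ => ?_
  rw [Finset.mul_sum]
  refine Finset.sum_eq_zero fun T _ => ?_
  have h0 : (cBasis b Q).repr x S * (cBasis b Q).repr y T = 0 := by
    rw [← Ideal.mem_bot, ← hI]
    exact Ideal.mul_mem_mul (Ideal.Quotient.eq_zero_iff_mem.mp ((Ψ_eq_zero_iff b _ x).mp hx S))
      (Ideal.Quotient.eq_zero_iff_mem.mp ((Ψ_eq_zero_iff b _ y).mp hy T))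
  rw [smul_mul_smul_comm, h0, zero_smul]

/-- an approximate inverse gives a unit -/
lemma exists_unit_of_Ψ {I : Ideal A} (hI : I * I = ⊥) (b : Module.Basis (Fin n) A M) {x y : CliffordAlgebra Q}
    (h₁ : Ψ (A ⧸ I) Q (x * y) = 1) (h₂ : Ψ (A ⧸ I) Q (y * x) = 1) :
    ∃ u : (CliffordAlgebra Q)ˣ, (u : CliffordAlgebra Q) = x := by
  have key : ∀ z, Ψ (A ⧸ I) Q z = 1 → IsUnit z := fun z hz => by
    have h0 : (z - 1) * (z - 1) = 0 :=
      mul_eq_zero_of_Ψ hI b (by rw [map_sub, hz, map_one, sub_self]) (by rw [map_sub, hz, map_one, sub_self])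
    refine ⟨⟨z, 2 - z, ?_, ?_⟩, rfl⟩
    · rw [← sub_eq_zero]; rw [← neg_eq_zero]; rw [← h0]; noncomm_ring
    · rw [← sub_eq_zero]; rw [← neg_eq_zero]; rw [← h0]; noncomm_ring
  obtain ⟨p, hp⟩ := key _ h₁
  obtain ⟨q, hq⟩ := key _ h₂
  have hl : (↑q⁻¹ * y) * x = 1 := by rw [mul_assoc, ← hq, Units.inv_mul]
  have hr : x * (y * ↑p⁻¹) = 1 := by rw [← mul_assoc, ← hp, Units.mul_inv]
  exact ⟨⟨x, y * ↑p⁻¹, hr, by rw [← left_inv_eq_right_inv hl hr, hl]⟩, rfl⟩

end Ker

section Central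

variable {R : Type u} [CommRing R] {M : Type u} [AddCommGroup M] [Module R M] [Module.Free R M]
variable {Q : QuadraticForm R M}

/-- even central elements are scalars -/
lemma even_central_scalar {m : ℕ} (b : Module.Basis (Fin (2 * m + 1)) R M)
    (hQ : QuadGrp.IsSemiregular b (LinearEquiv.refl R R) Q) {x : CliffordAlgebra Q} (hx : x ∈ evenOdd Q 0)
    (hc : ∀ v, x * ι Q v = ι Q v * x) : ∃ r : R, x = algebraMap R _ r := by
  refine ⟨(cBasis b Q).repr x ∅, (cBasis b Q).repr.injective (Finsupp.ext fun S => eq_of_forall_localization fun p _ => ?_)⟩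
  obtain ⟨d⟩ := exists_oddData m _ (isSemiregular_baseChange b hQ (Localization.AtPrime p))
  obtain ⟨r, hr⟩ := d.even_central (Ψ_mem _ Q hx) (central_baseChange (Localization.AtPrime p) hc)
  rw [← repr_Ψ b, ← repr_Ψ b, hr, AlgHom.commutes, IsScalarTower.algebraMap_apply R (Localization.AtPrime p),
    ← repr_Ψ b, hr, Algebra.algebraMap_eq_smul_one, Algebra.algebraMap_eq_smul_one, ← cBA_empty b Q, map_smul,
    Module.Basis.repr_self]
  simp [Finsupp.single_apply]

end Central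

section Global

variable {A : Type u} [CommRing A] {M : Type u} [AddCommGroup M] [Module A M] [Module.Free A M]
variable {n : ℕ} (b : Module.Basis (Fin n) A M) (Q : QuadraticForm A M) {I : Ideal A}

/-- correcting an approximate intertwiner: the local to global step -/
lemma exists_correction (hI : I * I = ⊥) (g : M →ₗ[A] M) (u : CliffordAlgebra Q) (P : Finset (Fin n) → Prop)
    (hloc : ∀ (p : Ideal A) [p.IsPrime], ∃ w' : CliffordAlgebra (QuadGrp.baseChangeForm (Localization.AtPrime p) Q),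
      (∀ S, (cBA b Q _).repr w' S ∈ I.map (algebraMap A (Localization.AtPrime p))) ∧
      (∀ S, ¬ P S → (cBA b Q _).repr w' S = 0) ∧
      ∀ j, Ψp Q p (ι Q (g (b j)) * u) * (1 + w') = Ψp Q p u * (1 + w') * Ψp Q p (ι Q (b j))) :
    ∃ w : CliffordAlgebra Q, (∀ S, (cBasis b Q).repr w S ∈ I) ∧ (∀ S, ¬ P S → (cBasis b Q).repr w S = 0) ∧
      ∀ v, ι Q (g v) * u * (1 + w) = u * (1 + w) * ι Q v := by
  classical
  let 𝔖 : Ideal A :=
    { carrier := {s | ∃ w : CliffordAlgebra Q, (∀ S, (cBasis b Q).repr w S ∈ I) ∧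
        (∀ S, ¬ P S → (cBasis b Q).repr w S = 0) ∧
        ∀ j, ι Q (g (b j)) * u * (s • 1 + w) = u * (s • 1 + w) * ι Q (b j)}
      zero_mem' := ⟨0, fun S => by simp, fun S _ => by simp, fun j => by simp⟩
      add_mem' := by
        rintro s t ⟨w, h1, h2, h3⟩ ⟨w', h1', h2', h3'⟩
        refine ⟨w + w', fun S => by simpa using add_mem (h1 S) (h1' S), fun S hS => by simp [h2 S hS, h2' S hS],
          fun j => ?_⟩
        rw [add_smul, add_add_add_comm, mul_add, h3, h3', ← add_mul, ← mul_add]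
      smul_mem' := by
        rintro c s ⟨w, h1, h2, h3⟩
        refine ⟨c • w, fun S => by simpa using I.mul_mem_left c (h1 S), fun S hS => by simp [h2 S hS], fun j => ?_⟩
        rw [smul_eq_mul, ← smul_smul, ← smul_add, mul_smul_comm, h3, mul_smul_comm, smul_mul_assoc] }
  have h𝔖 : (1 : A) ∈ 𝔖 := by
    rw [← Ideal.eq_top_iff_one]
    by_contra hne
    obtain ⟨p, hp, hle⟩ := Ideal.exists_le_maximal 𝔖 hne
    obtain ⟨w', h1, h2, h3⟩ := hloc p
    choose a ha using fun S =>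
      (IsLocalization.mem_map_algebraMap_iff p.primeCompl (Localization.AtPrime p)).mp (h1 S)
    let s := ∏ S, ((a S).2 : A)
    have hsp : s ∉ p := fun hmem => by
      obtain ⟨S, -, h⟩ := (Ideal.IsPrime.prod_mem_iff (p := p)).mp hmem
      exact (a S).2.2 h
    let coefw : Finset (Fin n) → A := fun S =>
      if P S then ((a S).1 : A) * ∏ T ∈ Finset.univ.erase S, ((a T).2 : A) else 0
    let w := ∑ S, coefw S • cBasis b Q S
    have hw : ∀ S, (cBasis b Q).repr w S = coefw S := fun S => by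
      rw [Module.Basis.repr_sum_self]
    have hwI : ∀ S, coefw S ∈ I := fun S => by
      simp only [coefw]
      split_ifs
      exacts [I.mul_mem_right _ (a S).1.2, I.zero_mem]
    have hΨw : Ψp Q p w = s • w' := by
      rw [← algebraMap_smul (Localization.AtPrime p) s w']
      refine (cBA b Q _).repr.injective (Finsupp.ext fun S => ?_)
      rw [repr_Ψ, hw, map_smul, Finsupp.smul_apply, smul_eq_mul]
      simp only [coefw]
      split_ifs with hS
      · rw [map_mul, ← ha S, show s = ((a S).2 : A) * ∏ T ∈ Finset.univ.erase S, ((a T).2 : A) from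
          (Finset.mul_prod_erase Finset.univ (fun T => ((a T).2 : A)) (Finset.mem_univ S)).symm, map_mul]
        ring
      · rw [h2 S hS, map_zero, mul_zero]
    have hsum : Ψp Q p (s • 1 + w) = s • (1 + w') := by rw [map_add, map_smul, map_one, hΨw, smul_add]
    have e1 : ∀ j, ∃ t ∉ p, t • (ι Q (g (b j)) * u * (s • 1 + w)) = t • (u * (s • 1 + w) * ι Q (b j)) := fun j => by
      refine exists_smul_of_Ψp Q p ?_
      rw [map_mul, hsum, map_mul (Ψp Q p) (u * _), map_mul (Ψp Q p) u, hsum, mul_smul_comm, h3, mul_smul_comm,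
        smul_mul_assoc]
    choose t ht hte using e1
    let T := ∏ j, t j
    have hTp : T ∉ p := fun hmem => by
      obtain ⟨j, -, h⟩ := (Ideal.IsPrime.prod_mem_iff (p := p)).mp hmem
      exact ht j h
    refine (Ideal.IsPrime.mem_or_mem hp.isPrime (hle (show T * s ∈ 𝔖 from ⟨T • w, fun S => ?_, fun S hS => ?_,
      fun j => ?_⟩))).elim hTp hsp
    · rw [map_smul, Finsupp.smul_apply, hw, smul_eq_mul]; exact I.mul_mem_left _ (hwI S)
    · rw [map_smul, Finsupp.smul_apply, hw]; simp [coefw, hS]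
    · rw [← smul_smul, ← smul_add, mul_smul_comm, mul_smul_comm, smul_mul_assoc,
        show T = (∏ k ∈ Finset.univ.erase j, t k) * t j from
          (Finset.prod_erase_mul Finset.univ t (Finset.mem_univ j)).symm,
        ← smul_smul, ← smul_smul, hte j]
  obtain ⟨w, h1, h2, h3⟩ := h𝔖
  refine ⟨w, h1, h2, fun v => ?_⟩
  rw [one_smul] at h3
  rw [← b.sum_repr v]
  simp only [map_sum, map_smul, Finset.sum_mul, smul_mul_assoc, Finset.mul_sum, mul_smul_comm, h3]

include b in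
/-- an approximate intertwiner over a local ring differs from an intertwiner by a congruence to one -/
lemma exists_local (hI : I * I = ⊥) (g : M →ₗ[A] M) (u u'' : (CliffordAlgebra Q)ˣ) (z : CliffordAlgebra Q)
    (hzc : ∀ v, z * ι Q v = ι Q v * z) (hzu : IsUnit z)
    (hu : ∀ v, Ψ (A ⧸ I) Q (ι Q (g v) * u) = Ψ (A ⧸ I) Q (u * ι Q v))
    (hu'' : ∀ v, ι Q (g v) * u'' = u'' * ι Q v)
    (hscal : ∀ y : CliffordAlgebra Q, y = (↑u⁻¹ : CliffordAlgebra Q) * u'' * z →
      (∀ v, Ψ (A ⧸ I) Q (y * ι Q v) = Ψ (A ⧸ I) Q (ι Q v * y)) →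
      ∃ r, Ψ (A ⧸ I) Q y = algebraMap (A ⧸ I) _ r) :
    ∃ c : A, Ψ (A ⧸ I) Q (c • ((↑u⁻¹ : CliffordAlgebra Q) * u'' * z)) = 1 ∧
      ∀ v, ι Q (g v) * u * (c • ((↑u⁻¹ : CliffordAlgebra Q) * u'' * z)) =
        u * (c • ((↑u⁻¹ : CliffordAlgebra Q) * u'' * z)) * ι Q v := by
  set y := (↑u⁻¹ : CliffordAlgebra Q) * u'' * z with hy
  have hint : ∀ v, ι Q (g v) * (u'' * z) = u'' * z * ι Q v := fun v => by
    rw [← mul_assoc, hu'', mul_assoc, ← hzc, ← mul_assoc]
  have huy : (u : CliffordAlgebra Q) * y = u'' * z := by rw [hy, mul_assoc, Units.mul_inv_cancel_left]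
  obtain ⟨r, hr⟩ := hscal y rfl fun v => by
    have h1 : Ψ (A ⧸ I) Q (↑u⁻¹ * (ι Q (g v) * u) * y) = Ψ (A ⧸ I) Q (↑u⁻¹ * (u * ι Q v) * y) := by
      rw [map_mul, map_mul, hu, ← map_mul, ← map_mul]
    rw [Units.inv_mul_cancel_left] at h1
    rw [← h1]
    congr 1
    rw [mul_assoc (↑u⁻¹ : CliffordAlgebra Q), mul_assoc (ι Q (g v)), huy, hint, ← huy]
    simp only [← mul_assoc, Units.inv_mul, one_mul]
  obtain ⟨z', hz'⟩ := hzu
  have hyu : IsUnit (Ψ (A ⧸ I) Q y) := by
    refine IsUnit.map (Ψ (A ⧸ I) Q) ⟨u⁻¹ * u'' * z', ?_⟩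
    rw [hy, Units.val_mul, Units.val_mul, hz']
  obtain ⟨k, hk⟩ := hyu
  let bB := Algebra.TensorProduct.basis (A ⧸ I) b
  obtain ⟨c, hc⟩ := Ideal.Quotient.mk_surjective
    ((cBA b Q (A ⧸ I)).repr (↑k⁻¹ : CliffordAlgebra _) ∅)
  have h1 : r * Ideal.Quotient.mk I c = 1 := by
    have h2 : Ψ (A ⧸ I) Q y * ↑k⁻¹ = 1 := by rw [← hk, Units.mul_inv]
    rw [hr, ← Algebra.smul_def] at h2
    have h3 := congrArg (fun x => (cBA b Q (A ⧸ I)).repr x ∅) h2
    simp only [map_smul, Finsupp.smul_apply, smul_eq_mul, ← cBA_empty b Q (A ⧸ I), Module.Basis.repr_self,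
      Finsupp.single_eq_same] at h3
    rw [hc]; exact h3
  refine ⟨c, ?_, fun v => ?_⟩
  · rw [map_smul, hr, ← algebraMap_smul (A ⧸ I) c, Algebra.smul_def, ← map_mul, Ideal.Quotient.algebraMap_eq,
      mul_comm, h1, map_one]
  · rw [mul_smul_comm, mul_smul_comm, smul_mul_assoc, mul_assoc, huy, hint, mul_assoc]

end Global

end Groth.Agent.H21Clif
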