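import Groth.Agent.H21Clif.SplitForm
import Groth.Agent.H21Clif.CliffLift

/-!
# The even Clifford algebra in odd rank
-/

universe u

namespace Groth.Agent.H21Clif

open CliffordAlgebra TensorProduct

set_option linter.style.haveILetI false
set_option linter.unusedSectionVars false

section Rep

variable {B : Type u} [CommRing B] {V : Type u} [AddCommGroup V] [Module B V]

lemma involute_contractLeft (δ : Module.Dual B V) (x : CliffordAlgebra (0 : QuadraticForm B V)) :
    involute (contractLeft δ x) = -contractLeft δ (involute x) := by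
  induction x using CliffordAlgebra.left_induction with
  | algebraMap r => simp
  | add x y hx hy => rw [map_add, map_add, map_add, map_add, hx, hy, neg_add]
  | ι_mul x a hx =>
    rw [contractLeft_ι_mul, map_sub, map_smul, map_mul, map_mul, involute_ι, hx, neg_mul_neg, neg_mul, map_neg,
      contractLeft_ι_mul, neg_neg]

/-- the parity operator -/
noncomputable def gam : Module.End B (CliffordAlgebra (0 : QuadraticForm B V)) :=
  (involute (Q := (0 : QuadraticForm B V))).toLinearMap

lemma gam_gam : gam (B := B) (V := V) * gam = 1 :=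
  LinearMap.ext fun x => involute_involute x

/-- left multiplication by a vector -/
noncomputable def opL (v : V) : Module.End B (CliffordAlgebra (0 : QuadraticForm B V)) :=
  LinearMap.mulLeft B (ι (0 : QuadraticForm B V) v)

/-- contraction by a covector -/
noncomputable def opC (δ : Module.Dual B V) : Module.End B (CliffordAlgebra (0 : QuadraticForm B V)) :=
  contractLeft (Q := (0 : QuadraticForm B V)) δ

/-- the operator attached to a vector and a covector -/
noncomputable def spinOp (v : V) (δ : Module.Dual B V) (c : B) : Module.End B (CliffordAlgebra (0 : QuadraticForm B V)) :=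
  gam * (opL v - opC δ + c • 1)

lemma spinOp_sq (v : V) (δ : Module.Dual B V) (c : B) :
    spinOp v δ c * spinOp v δ c = algebraMap B _ (δ v + c * c) := by
  have hLL : opL v * opL v = 0 := LinearMap.ext fun x => by
    change ι (0 : QuadraticForm B V) v * (ι (0 : QuadraticForm B V) v * x) = 0
    rw [← mul_assoc, ι_sq_scalar]
    simp
  have hCC : opC δ * opC δ = 0 := LinearMap.ext fun x => contractLeft_contractLeft δ x
  have hLC : opC δ * opL v + opL v * opC δ = algebraMap B _ (δ v) := LinearMap.ext fun x => by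
    simp [opL, opC, contractLeft_ι_mul, Module.algebraMap_end_apply]
  have hgX : gam * (opL v - opC δ + c • 1) * gam = opC δ - opL v + c • 1 := LinearMap.ext fun x => by
    simp [gam, opL, opC, involute_contractLeft]
    try abel
  calc spinOp v δ c * spinOp v δ c = (gam * (opL v - opC δ + c • 1) * gam) * (opL v - opC δ + c • 1) := by
        simp only [spinOp, mul_assoc]
    _ = (opC δ * opL v + opL v * opC δ) - opL v * opL v - opC δ * opC δ + (c * c) • 1 := by
        rw [hgX]
        simp only [mul_add, add_mul, mul_sub, sub_mul, mul_smul_comm, smul_mul_assoc, mul_one, one_mul, smul_smul,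
          smul_sub, smul_add, smul_neg]
        abel
    _ = _ := by rw [hLL, hCC, hLC, sub_zero, sub_zero, map_add, Algebra.algebraMap_eq_smul_one (c * c)]

end Rep

section Even

variable {R : Type u} [CommRing R] {M : Type u} [AddCommGroup M] [Module R M]
variable {n : ℕ} (b : Module.Basis (Fin n) R M) (Q : QuadraticForm R M)

lemma mem_even_iff (x : CliffordAlgebra Q) : x ∈ CliffordAlgebra.even Q ↔ x ∈ evenOdd Q 0 := Iff.rfl

/-- the even Clifford algebra is free on the even monomials -/
noncomputable def evenBasis : Module.Basis {S : Finset (Fin n) // par S = 0} R ↥(CliffordAlgebra.even Q) :=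
  Module.Basis.ofEquivFun
    { toFun := fun x S => (cBasis b Q).repr (x : CliffordAlgebra Q) S.1
      map_add' := fun x y => by ext S; simp
      map_smul' := fun c x => by ext S; simp
      invFun := fun a => ⟨∑ S, a S • cBasis b Q S.1, by
        rw [mem_even_iff]
        exact Submodule.sum_mem _ fun S _ => Submodule.smul_mem _ _ (by
          have h := cBasis_mem b Q S.1
          rwa [S.2] at h)⟩
      left_inv := fun x => by
        refine Subtype.ext ?_
        have h : ∀ S, par S ≠ 0 → (cBasis b Q).repr (x : CliffordAlgebra Q) S = 0 :=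
          (mem_evenOdd_iff (cBasis b Q) par (cBasis_mem b Q) 0 _).mp x.2
        conv_rhs => rw [← (cBasis b Q).sum_repr (x : CliffordAlgebra Q)]
        change ∑ S : {S : Finset (Fin n) // par S = 0}, (cBasis b Q).repr (x : CliffordAlgebra Q) S.1 • cBasis b Q S.1 = _
        rw [← Finset.sum_subtype (Finset.univ.filter fun S : Finset (Fin n) => par S = 0) (by simp)
          (fun S => (cBasis b Q).repr (x : CliffordAlgebra Q) S • cBasis b Q S), Finset.sum_filter]
        refine Finset.sum_congr rfl fun S _ => ?_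
        split_ifs with hS
        · rfl
        · rw [h S hS, zero_smul]
      right_inv := fun a => by
        funext S
        change (cBasis b Q).repr (∑ T : {T : Finset (Fin n) // par T = 0}, a T • cBasis b Q T.1) S.1 = a S
        simp [Finsupp.single_apply, Subtype.val_inj] }

lemma card_even_index (k : ℕ) : Fintype.card {S : Finset (Fin (2 * k + 1)) // par S = 0} = 2 ^ (2 * k) := by
  have hcompl : ∀ S : Finset (Fin (2 * k + 1)), par Sᶜ = par S + 1 := fun S => by
    have h : (S.card : ZMod 2) + (Sᶜ.card : ZMod 2) = 1 := by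
      rw [← Nat.cast_add, S.card_add_card_compl, Fintype.card_fin, Nat.cast_add, Nat.cast_mul]
      simp [show (2 : ZMod 2) = 0 from rfl]
    unfold par
    revert h
    generalize (S.card : ZMod 2) = x
    generalize (Sᶜ.card : ZMod 2) = y
    revert x y
    decide
  let e : {S : Finset (Fin (2 * k + 1)) // par S = 0} ≃ {S : Finset (Fin (2 * k + 1)) // ¬ par S = 0} :=
    { toFun := fun S => ⟨S.1ᶜ, by rw [hcompl, S.2]; decide⟩
      invFun := fun S => ⟨S.1ᶜ, by
        have h := S.2
        rw [hcompl]
        revert h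
        generalize par S.1 = x
        revert x
        decide⟩
      left_inv := fun S => Subtype.ext (compl_compl _)
      right_inv := fun S => Subtype.ext (compl_compl _) }
  have h := Fintype.card_congr (Equiv.sumCompl fun S : Finset (Fin (2 * k + 1)) => par S = 0)
  rw [Fintype.card_sum, ← Fintype.card_congr e, Fintype.card_finset, Fintype.card_fin, pow_succ] at h
  omega

variable [Module.Free R M] {m : ℕ}

/-- over a split algebra the even Clifford algebra is a matrix algebra -/
theorem even_matrix (b : Module.Basis (Fin (2 * m + 1)) R M) (B : Type u) [CommRing B] [Algebra R B]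
    (d : Module.Basis (Fin (2 * m + 1)) B (B ⊗[R] M)) (hd : IsSplit d (QuadGrp.baseChangeForm B Q)) :
    Nonempty ((B ⊗[R] ↥(CliffordAlgebra.even Q)) ≃ₐ[B] Matrix (Fin (2 ^ m)) (Fin (2 ^ m)) B) := by
  obtain ⟨e⟩ := hd.isometryEquiv (isSplit_splitForm (A := B) (m := m))
  let Q' := QuadGrp.baseChangeForm B Q
  let bV := Pi.basisFun B (Fin m)
  -- the operators
  let φ : (B ⊗[R] M) →ₗ[B] Module.End B (ExteriorAlgebra B (Fin m → B)) :=
    { toFun := fun x => spinOp (fun i => e x (iE i)) (∑ i, e x (iF i) • bV.coord i) (e x 0)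
      map_add' := fun x y => by
        simp only [spinOp, opL, opC, map_add, Pi.add_apply, add_smul, Finset.sum_add_distrib]
        rw [show (fun i => e x (iE i) + e y (iE i)) = (fun i => e x (iE i)) + fun i => e y (iE i) from rfl, map_add]
        rw [← mul_add]
        congr 1
        refine LinearMap.ext fun z => ?_
        simp only [LinearMap.add_apply, LinearMap.sub_apply, LinearMap.mulLeft_apply, add_mul]
        abel
      map_smul' := fun c x => by
        simp only [spinOp, opL, opC, map_smul, Pi.smul_apply, smul_eq_mul, mul_smul, ← Finset.smul_sum, RingHom.id_apply]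
        rw [show (fun i => c * e x (iE i)) = c • fun i => e x (iE i) from rfl, map_smul, ← mul_smul_comm]
        congr 1
        refine LinearMap.ext fun z => ?_
        simp only [LinearMap.add_apply, LinearMap.sub_apply, LinearMap.mulLeft_apply, LinearMap.smul_apply,
          smul_mul_assoc, smul_sub, smul_add] }
  have hφ : ∀ x, φ x = spinOp (fun i => e x (iE i)) (∑ i, e x (iF i) • bV.coord i) (e x 0) := fun _ => rfl
  have hsq : ∀ x, φ x * φ x = algebraMap B _ (Q' x) := fun x => by
    rw [hφ, spinOp_sq, ← e.map_app x, splitForm_apply]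
    congr 1
    congr 1
    simp [bV, LinearMap.sum_apply, mul_comm]
  let ρ := CliffordAlgebra.lift Q' ⟨φ, hsq⟩
  have hρ : ∀ x, ρ (ι Q' x) = φ x := fun x => lift_ι_apply _ _ x
  let Θ : (B ⊗[R] ↥(CliffordAlgebra.even Q)) →ₐ[B] Module.End B (ExteriorAlgebra B (Fin m → B)) :=
    Algebra.TensorProduct.lift (Algebra.ofId _ _)
      (((ρ.restrictScalars R).comp (Ψ B Q)).comp (CliffordAlgebra.even Q).val)
      fun c x => Algebra.commutes c _
  have hprod : ∀ x y : B ⊗[R] M, φ x * φ y ∈ Θ.range := fun x y => by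
    let bB := Algebra.TensorProduct.basis B b
    rw [← bB.sum_repr x, ← bB.sum_repr y]
    simp only [map_sum, map_smul, Finset.sum_mul, Finset.mul_sum, smul_mul_assoc, mul_smul_comm]
    refine Subalgebra.sum_mem _ fun i _ => Subalgebra.smul_mem _ (Subalgebra.sum_mem _ fun j _ => Subalgebra.smul_mem _ ?_ _) _
    refine ⟨(1 : B) ⊗ₜ[R] ⟨ι Q (b j) * ι Q (b i), ι_mul_ι_mem_evenOdd_zero Q _ _⟩, ?_⟩
    change algebraMap B _ 1 * ρ (Ψ B Q (ι Q (b j) * ι Q (b i))) = _
    rw [map_one, one_mul, map_mul, map_mul, Ψ_ι, Ψ_ι, hρ, hρ]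
    simp [bB]
  have h0 : φ (e.symm (Pi.single 0 1)) = gam := by
    have h : ∀ i : Fin m, (Pi.single 0 1 : Fin (2 * m + 1) → B) (iE i) = 0 ∧
        (Pi.single 0 1 : Fin (2 * m + 1) → B) (iF i) = 0 := fun i =>
      ⟨Pi.single_eq_of_ne (fun h => by simp [iE, Fin.ext_iff] at h) _,
        Pi.single_eq_of_ne (fun h => by simp [iF, Fin.ext_iff] at h) _⟩
    have hh : e (e.symm (Pi.single 0 1)) = (Pi.single 0 1 : Fin (2 * m + 1) → B) := e.toLinearEquiv.apply_symm_apply _
    rw [hφ, hh, Pi.single_eq_same]
    simp only [(h _).1, (h _).2, zero_smul, Finset.sum_const_zero, spinOp, opL, opC, map_zero, sub_zero, one_smul]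
    rw [show (fun _ : Fin m => (0 : B)) = 0 from rfl, map_zero, LinearMap.mulLeft_zero_eq_zero, zero_add, mul_one]
  have hE : ∀ i, LinearMap.mulLeft B (ExteriorAlgebra.ι B (bV i)) ∈ Θ.range := fun i => by
    have h := hprod (e.symm (Pi.single 0 1)) (e.symm (Pi.single (iE i) 1))
    rw [h0, hφ, show e (e.symm (Pi.single (iE i) 1)) = (Pi.single (iE i) 1 : Fin (2 * m + 1) → B) from
      e.toLinearEquiv.apply_symm_apply _] at h
    have hz : ∀ j, (Pi.single (iE i) 1 : Fin (2 * m + 1) → B) (iF j) = 0 :=
      fun j => Pi.single_eq_of_ne (fun h => by simp [iE, iF, Fin.ext_iff] at h; omega) _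
    have h00 : (Pi.single (iE i) 1 : Fin (2 * m + 1) → B) 0 = 0 :=
      Pi.single_eq_of_ne (fun h => by simp [iE, Fin.ext_iff] at h) _
    have hv : (fun j => (Pi.single (iE i) 1 : Fin (2 * m + 1) → B) (iE j)) = bV i := funext fun j => by
      simp [bV, Pi.single_apply, iE, Fin.ext_iff]
    simp only [spinOp, opL, opC, hz, zero_smul, Finset.sum_const_zero, map_zero, sub_zero, h00, add_zero, hv,
      ← mul_assoc, gam_gam, one_mul] at h
    exact h
  have hF : ∀ i, ctr bV i ∈ Θ.range := fun i => by
    have h := hprod (e.symm (Pi.single 0 1)) (e.symm (Pi.single (iF i) 1))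
    rw [h0, hφ, show e (e.symm (Pi.single (iF i) 1)) = (Pi.single (iF i) 1 : Fin (2 * m + 1) → B) from
      e.toLinearEquiv.apply_symm_apply _] at h
    have hz : ∀ j, (Pi.single (iF i) 1 : Fin (2 * m + 1) → B) (iE j) = 0 :=
      fun j => Pi.single_eq_of_ne (fun h => by simp [iE, iF, Fin.ext_iff] at h; omega) _
    have h00 : (Pi.single (iF i) 1 : Fin (2 * m + 1) → B) 0 = 0 :=
      Pi.single_eq_of_ne (fun h => by simp [iF, Fin.ext_iff] at h) _
    have hδ : ∑ j, (Pi.single (iF i) 1 : Fin (2 * m + 1) → B) (iF j) • bV.coord j = bV.coord i := by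
      rw [Finset.sum_eq_single i (fun j _ hj => by
        rw [Pi.single_eq_of_ne (fun h => hj (Fin.ext (by simpa [iF, Fin.ext_iff] using h))), zero_smul]) (by simp),
        Pi.single_eq_same, one_smul]
    simp only [spinOp, opL, opC, hz, h00, zero_smul, add_zero, hδ, ← mul_assoc, gam_gam, one_mul] at h
    rw [show (fun _ : Fin m => (0 : B)) = 0 from rfl, map_zero, LinearMap.mulLeft_zero_eq_zero, zero_sub] at h
    exact neg_mem_iff.mp h
  have hsurj : Function.Surjective Θ := fun f => mem_of_mulLeft_of_ctr bV Θ.range hE hF f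
  let cE := bV.ExteriorAlgebra
  let bT := Algebra.TensorProduct.basis B (evenBasis b Q)
  have hcard : Fintype.card {S : Finset (Fin (2 * m + 1)) // par S = 0} =
      Fintype.card (Finset (Fin m) × Finset (Fin m)) := by
    rw [card_even_index, Fintype.card_prod, Fintype.card_finset, Fintype.card_fin, two_mul, pow_add]
  let ee := (Module.Basis.end cE).equiv bT (Fintype.equivOfCardEq hcard.symm)
  haveI : Module.Finite B (B ⊗[R] ↥(CliffordAlgebra.even Q)) := Module.Finite.of_basis bT
  have hinj : Function.Injective Θ := fun x y h =>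
    OrzechProperty.injective_of_surjective_endomorphism (ee.toLinearMap.comp Θ.toLinearMap)
      (ee.surjective.comp hsurj) (congrArg ee h)
  exact ⟨(AlgEquiv.ofBijective Θ ⟨hinj, hsurj⟩).trans
    (LinearMap.toMatrixAlgEquiv (cE.reindex (Fintype.equivFinOfCardEq (by simp))))⟩

end Even

section Centre

variable {R : Type u} [CommRing R] {M : Type u} [AddCommGroup M] [Module R M] [Module.Free R M] {m : ℕ}
variable (b : Module.Basis (Fin (2 * m + 1)) R M) (Q : QuadraticForm R M)

lemma mul_mem_odd_odd {x y : CliffordAlgebra Q} (hx : x ∈ evenOdd Q 1) (hy : y ∈ evenOdd Q 1) :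
    x * y ∈ evenOdd Q 0 := by
  simpa [show (1 : ZMod 2) + 1 = 0 from rfl] using SetLike.mul_mem_graded hx hy

include b in
/-- a scaled odd central element with unit square at a prime -/
lemma exists_odd_central_scaled (hQ : QuadGrp.IsSemiregular b (LinearEquiv.refl R R) Q) (p : Ideal R) [p.IsPrime] :
    ∃ (z : CliffordAlgebra Q) (c : R), c ∉ p ∧ z ∈ evenOdd Q 1 ∧ (∀ x, z * x = x * z) ∧ z * z = algebraMap R _ c := by
  classical
  let Rp := Localization.AtPrime p
  obtain ⟨d⟩ := exists_oddData m _ (isSemiregular_baseChange b hQ Rp)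
  obtain ⟨x, s, hs, hx⟩ := exists_Ψp_eq Q p d.ζ
  obtain ⟨x₀, h₀, x₁, h₁, rfl⟩ := exists_parts x
  have hx1 : Ψp Q p x₁ = algebraMap R Rp s • d.ζ := by
    have h := parts_eq_zero (Q := QuadGrp.baseChangeForm Rp Q) (x₀ := Ψp Q p x₀)
      (x₁ := Ψp Q p x₁ - algebraMap R Rp s • d.ζ) (Ψ_mem Rp Q h₀)
      (sub_mem (Ψ_mem Rp Q h₁) (Submodule.smul_mem _ _ d.ζ_mem)) (by rw [hx, map_add]; abel)
    exact sub_eq_zero.mp h.2
  have hcomm : ∀ i, ∃ t ∉ p, t • (x₁ * ι Q (b i)) = t • (ι Q (b i) * x₁) := fun i => by
    refine exists_smul_of_Ψp Q p ?_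
    rw [map_mul, map_mul, hx1, smul_mul_assoc, mul_smul_comm, d.ζ_comm]
  choose t ht hte using hcomm
  obtain ⟨⟨r, t'⟩, hr⟩ := IsLocalization.surj p.primeCompl (d.c : Rp)
  have hsq : Ψp Q p ((t' : R) • (x₁ * x₁)) = Ψp Q p (algebraMap R _ (s * s * r)) := by
    rw [map_smul, map_mul, hx1, smul_mul_smul_comm, d.ζ_sq, AlgHom.commutes,
      IsScalarTower.algebraMap_apply R Rp (CliffordAlgebra (QuadGrp.baseChangeForm Rp Q)),
      ← algebraMap_smul Rp ((t' : p.primeCompl) : R), smul_smul, Algebra.smul_def, ← map_mul]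
    congr 1
    simp only [map_mul]
    linear_combination (algebraMap R Rp s * algebraMap R Rp s) * hr
  obtain ⟨t'', ht'', hsq'⟩ := exists_smul_of_Ψp Q p hsq
  let T := (∏ i, t i) * (t' : R) * t''
  have hmul : ∀ {a c : R}, a ∉ p → c ∉ p → a * c ∉ p := fun ha hc h =>
    (Ideal.IsPrime.mem_or_mem ‹p.IsPrime› h).elim ha hc
  have htp : ∏ i, t i ∉ p := fun hmem => by
    obtain ⟨i, -, h⟩ := (Ideal.IsPrime.prod_mem_iff (p := p)).mp hmem
    exact ht i h
  have hrp : r ∉ p := by
    refine (IsLocalization.AtPrime.isUnit_to_map_iff Rp p r).mp ?_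
    rw [← hr]
    exact d.c.isUnit.mul (IsLocalization.map_units Rp t')
  refine ⟨T • x₁, (∏ i, t i) * (∏ i, t i) * ((t' : R) * t'') * t'' * (s * s * r), ?_, Submodule.smul_mem _ _ h₁,
    fun y => ?_, ?_⟩
  · exact hmul (hmul (hmul (hmul htp htp) (hmul t'.2 ht'')) ht'') (hmul (hmul hs hs) hrp)
  · have hι : ∀ v, T • x₁ * ι Q v = ι Q v * (T • x₁) := fun v => by
      rw [← b.sum_repr v]
      simp only [map_sum, map_smul, Finset.mul_sum, Finset.sum_mul, mul_smul_comm, smul_mul_assoc, Finset.smul_sum]
      refine Finset.sum_congr rfl fun i _ => ?_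
      rw [smul_comm T]
      congr 1
      have e : T = ((∏ k ∈ Finset.univ.erase i, t k) * (t' : R) * t'') * t i := by
        simp only [T]
        rw [← Finset.prod_erase_mul Finset.univ t (Finset.mem_univ i)]
        ring
      rw [e, mul_smul, mul_smul, hte]
      simp only [smul_smul, ← mul_assoc]
    induction y using CliffordAlgebra.induction with
    | algebraMap a => exact (Algebra.commutes a _).symm
    | ι v => exact hι v
    | mul a c ha hc => rw [← mul_assoc, ha, mul_assoc, hc, mul_assoc]
    | add a c ha hc => rw [mul_add, add_mul, ha, hc]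
  · rw [smul_mul_smul_comm, show T * T = ((∏ i, t i) * (∏ i, t i) * ((t' : R) * t'')) * (t'' * (t' : R)) by ring,
      mul_smul, mul_smul t'', hsq', smul_smul, Algebra.smul_def, ← map_mul]

include b in
/-- multiplication of the centre with the even part is bijective -/
theorem center_even_bijective (hQ : QuadGrp.IsSemiregular b (LinearEquiv.refl R R) Q) :
    Function.Bijective (TensorProduct.lift
        (((LinearMap.mul R (CliffordAlgebra Q)).comp (Subalgebra.center R (CliffordAlgebra Q)).val.toLinearMap).compl₂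
          (CliffordAlgebra.even Q).val.toLinearMap)) := by
  set μ := TensorProduct.lift
        (((LinearMap.mul R (CliffordAlgebra Q)).comp (Subalgebra.center R (CliffordAlgebra Q)).val.toLinearMap).compl₂
          (CliffordAlgebra.even Q).val.toLinearMap)
  have hμ : ∀ (z : ↥(Subalgebra.center R (CliffordAlgebra Q))) (a : ↥(CliffordAlgebra.even Q)),
      μ (z ⊗ₜ a) = (z : CliffordAlgebra Q) * a := fun _ _ => rfl
  refine ⟨(injective_iff_map_eq_zero μ).mpr fun t ht => ?_, fun x => ?_⟩
  · refine eq_zero_of_forall_prime (R := R) fun p _ => ?_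
    obtain ⟨z₀, c, hc, hz1, hzc, hzz⟩ := exists_odd_central_scaled b Q hQ p
    have hz₀ : z₀ ∈ Subalgebra.center R (CliffordAlgebra Q) := Subalgebra.mem_center_iff.mpr fun y => (hzc y).symm
    let Z₀ : ↥(Subalgebra.center R (CliffordAlgebra Q)) := ⟨z₀, hz₀⟩
    have key : ∀ u : ↥(Subalgebra.center R (CliffordAlgebra Q)) ⊗[R] ↥(CliffordAlgebra.even Q),
        ∃ A B : ↥(CliffordAlgebra.even Q), c • u = 1 ⊗ₜ A + Z₀ ⊗ₜ B := fun u => by
      induction u using TensorProduct.induction_on with
      | zero => exact ⟨0, 0, by simp⟩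
      | add u v hu hv =>
        obtain ⟨A, B, h⟩ := hu
        obtain ⟨A', B', h'⟩ := hv
        exact ⟨A + A', B + B', by rw [smul_add, h, h', tmul_add, tmul_add]; abel⟩
      | tmul z a =>
        obtain ⟨z', h₀, z'', h₁, hz⟩ := exists_parts (z : CliffordAlgebra Q)
        have hcen : ∀ v, z' * ι Q v = ι Q v * z' ∧ z'' * ι Q v = ι Q v * z'' := fun v => by
          have hv := ι_mem_evenOdd_one Q v
          have h := parts_eq_zero (Q := Q) (x₀ := z'' * ι Q v - ι Q v * z'') (x₁ := z' * ι Q v - ι Q v * z')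
            (sub_mem (mul_mem_odd_odd Q h₁ hv) (mul_mem_odd_odd Q hv h₁))
            (sub_mem (by simpa using SetLike.mul_mem_graded h₀ hv) (by simpa using SetLike.mul_mem_graded hv h₀))
            (by
              have h := (Subalgebra.mem_center_iff.mp z.2 (ι Q v)).symm
              rw [hz, ← sub_eq_zero] at h
              rw [← h]; noncomm_ring)
          exact ⟨sub_eq_zero.mp h.2, sub_eq_zero.mp h.1⟩
        obtain ⟨r, hr⟩ := even_central_scalar b hQ h₀ fun v => (hcen v).1
        obtain ⟨r', hr'⟩ := even_central_scalar b hQ (mul_mem_odd_odd Q hz1 h₁) fun v => by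
          rw [mul_assoc, (hcen v).2, ← mul_assoc, hzc, mul_assoc]
        refine ⟨(c * r) • a, r' • a, ?_⟩
        rw [← smul_tmul, ← smul_tmul, ← add_tmul, smul_tmul']
        congr 1
        refine Subtype.ext ?_
        change c • (z : CliffordAlgebra Q) = (c * r) • (1 : CliffordAlgebra Q) + r' • z₀
        rw [hz, hr, smul_add, Algebra.algebraMap_eq_smul_one, smul_smul, Algebra.smul_def c z'', ← hzz, mul_assoc,
          hr', ← Algebra.commutes, ← Algebra.smul_def]
    obtain ⟨A, B, h⟩ := key t
    have h0 := congrArg μ h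
    rw [map_smul, ht, smul_zero, map_add, hμ, hμ] at h0
    simp only [OneMemClass.coe_one, one_mul] at h0
    obtain ⟨hA, hB⟩ := parts_eq_zero (Q := Q) (x₀ := (A : CliffordAlgebra Q)) (x₁ := z₀ * (B : CliffordAlgebra Q))
      A.2 (by simpa using SetLike.mul_mem_graded hz1 (show (B : CliffordAlgebra Q) ∈ evenOdd Q 0 from B.2)) h0.symm
    have hcB : c • B = 0 := Subtype.ext (by
      change c • (B : CliffordAlgebra Q) = 0
      rw [Algebra.smul_def, ← hzz, mul_assoc, hB, mul_zero])
    refine ⟨c * c, fun hmem => (Ideal.IsPrime.mem_or_mem ‹p.IsPrime› hmem).elim hc hc, ?_⟩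
    rw [mul_smul, h, smul_add, ← tmul_smul, ← tmul_smul, hcB, show A = 0 from Subtype.ext hA, smul_zero, tmul_zero,
      tmul_zero, add_zero]
  · suffices h : (Submodule.Quotient.mk x : CliffordAlgebra Q ⧸ LinearMap.range μ) = 0 from
      (Submodule.Quotient.mk_eq_zero _).mp h
    refine eq_zero_of_forall_prime (R := R) fun p _ => ?_
    obtain ⟨z₀, c, hc, hz1, hzc, hzz⟩ := exists_odd_central_scaled b Q hQ p
    have hz₀ : z₀ ∈ Subalgebra.center R (CliffordAlgebra Q) := Subalgebra.mem_center_iff.mpr fun y => (hzc y).symm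
    obtain ⟨x₀, h₀, x₁, h₁, rfl⟩ := exists_parts x
    refine ⟨c, hc, ?_⟩
    rw [← Submodule.Quotient.mk_smul, Submodule.Quotient.mk_eq_zero]
    refine ⟨1 ⊗ₜ (⟨c • x₀, Submodule.smul_mem _ _ h₀⟩ : ↥(CliffordAlgebra.even Q)) +
      (⟨z₀, hz₀⟩ : ↥(Subalgebra.center R (CliffordAlgebra Q))) ⊗ₜ
        (⟨z₀ * x₁, mul_mem_odd_odd Q hz1 h₁⟩ : ↥(CliffordAlgebra.even Q)), ?_⟩
    rw [map_add, hμ, hμ, OneMemClass.coe_one, one_mul, smul_add]
    change c • x₀ + z₀ * (z₀ * x₁) = _
    rw [← mul_assoc, hzz, ← Algebra.smul_def]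

end Centre

end Groth.Agent.H21Clif
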