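import Groth.Agent.H21Clif.Exterior
import Groth.Prelude.Def_QuadGrp
import Mathlib.LinearAlgebra.Determinant

/-!
# Clifford algebras of forms on finite free modules
-/

universe u v

namespace Groth.Agent.H21Clif

open CliffordAlgebra

variable {R : Type u} [CommRing R] {M : Type v} [AddCommGroup M] [Module R M]
variable {n : ℕ} (b : Module.Basis (Fin n) R M) (Q : QuadraticForm R M)

set_option linter.style.haveILetI false

include b in
lemma exists_bilin : ∃ B : LinearMap.BilinForm R M,
    B.toQuadraticMap = (0 : QuadraticForm R M) - Q := by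
  haveI := Module.Free.of_basis b
  exact LinearMap.BilinMap.toQuadraticMap_surjective _

/-- the linear identification of the Clifford algebra with the exterior algebra -/
noncomputable def toExt : CliffordAlgebra Q ≃ₗ[R] ExteriorAlgebra R M :=
  changeFormEquiv (exists_bilin b Q).choose_spec

lemma toExt_contract (d : Module.Dual R M) (x : CliffordAlgebra Q) :
    toExt b Q (contractLeft d x) = contractLeft (Q := (0 : QuadraticForm R M)) d (toExt b Q x) :=
  changeForm_contractLeft (exists_bilin b Q).choose_spec d x

lemma toExt_ι_mul (m : M) (x : CliffordAlgebra Q) :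
    toExt b Q (ι Q m * x) = ExteriorAlgebra.ι R m * toExt b Q x -
      contractLeft (Q := (0 : QuadraticForm R M)) ((exists_bilin b Q).choose m) (toExt b Q x) :=
  changeForm_ι_mul (exists_bilin b Q).choose_spec m x

lemma toExt_algebraMap (r : R) :
    toExt b Q (algebraMap R _ r) = algebraMap R (ExteriorAlgebra R M) r :=
  changeForm_algebraMap (exists_bilin b Q).choose_spec r

lemma toExt_one : toExt b Q 1 = 1 := by
  have := toExt_algebraMap b Q 1
  rw [map_one (algebraMap R (CliffordAlgebra Q)), map_one (algebraMap R (ExteriorAlgebra R M))] at this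
  exact this

/-- a basis of the Clifford algebra indexed by finite sets of indices -/
noncomputable def cBasis : Module.Basis (Finset (Fin n)) R (CliffordAlgebra Q) :=
  b.ExteriorAlgebra.map (toExt b Q).symm

include b in
lemma free : Module.Free R (CliffordAlgebra Q) := Module.Free.of_basis (cBasis b Q)

include b in
lemma finite : Module.Finite R (CliffordAlgebra Q) := Module.Finite.of_basis (cBasis b Q)

include b in
lemma eq_algebraMap_of_contract (x : CliffordAlgebra Q)
    (h : ∀ i, contractLeft (b.coord i) x = 0) : ∃ r : R, x = algebraMap R _ r := by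
  refine ⟨coef b ∅ (toExt b Q x), (toExt b Q).injective ?_⟩
  rw [toExt_algebraMap]
  exact eq_algebraMap_of_contract_eq_zero b _ fun i => by rw [← toExt_contract, h i, map_zero]

include b in
lemma algebraMap_injective : Function.Injective (algebraMap R (CliffordAlgebra Q)) := fun r s h => by
  have h' := congrArg (fun x => coef b ∅ (toExt b Q x)) h
  simp only [toExt_algebraMap] at h'
  simp only [Algebra.algebraMap_eq_smul_one, map_smul,
    show (1 : ExteriorAlgebra R M) = mono b ∅ by simp [mono], coef_mono, if_true, smul_eq_mul,
    mul_one] at h'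
  exact h'

/-- the top coefficient -/
noncomputable def tau : CliffordAlgebra Q →ₗ[R] R := top b ∘ₗ (toExt b Q).toLinearMap

lemma tau_contract (d : Module.Dual R M) (x : CliffordAlgebra Q) : tau b Q (contractLeft d x) = 0 := by
  simp only [tau, LinearMap.comp_apply, LinearEquiv.coe_coe, toExt_contract, top_contract]

/-- the product of the basis vectors -/
noncomputable def topElt : CliffordAlgebra Q := (List.ofFn fun i => ι Q (b i)).prod

lemma toExt_prod_mem (l : List M) :
    toExt b Q ((l.map (ι Q)).prod) ∈ degLE b l.length := by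
  induction l with
  | nil =>
    refine Submodule.subset_span ⟨∅, by simp, ?_⟩
    simp [mono, toExt_one]
  | cons a l ih =>
    rw [List.map_cons, List.prod_cons, toExt_ι_mul]
    exact sub_mem (ι_mul_mem_degLE b a ih)
      (degLE_mono b (by simp; omega) (contract_mem_degLE b _ ih))

lemma toExt_prod_sub_mem (l : List M) :
    toExt b Q ((l.map (ι Q)).prod) - (l.map (ExteriorAlgebra.ι R)).prod ∈
      degLE b (l.length - 1) := by
  induction l with
  | nil => simp [toExt_one]
  | cons a l ih =>
    rw [List.map_cons, List.prod_cons, List.map_cons, List.prod_cons, toExt_ι_mul, sub_right_comm,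
      ← mul_sub]
    refine sub_mem ?_ (degLE_mono b (by simp) (contract_mem_degLE b _ (toExt_prod_mem b Q l)))
    cases l with
    | nil =>
      simp [toExt_one]
    | cons c l => exact degLE_mono b (by simp) (ι_mul_mem_degLE b a ih)

lemma tau_prod (v : Fin n → M) :
    tau b Q ((List.ofFn fun i => ι Q (v i)).prod) = top b (ExteriorAlgebra.ιMulti R n v) := by
  rcases Nat.eq_zero_or_pos n with rfl | hn
  · simp [tau, toExt_one,
      ExteriorAlgebra.ιMulti_apply]
  have := top_eq_zero_of_mem_degLE b (k := (List.ofFn v).length - 1) (by simp; omega)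
    (toExt_prod_sub_mem b Q (List.ofFn v))
  rw [map_sub, sub_eq_zero, List.map_ofFn, List.map_ofFn] at this
  exact this.trans rfl

lemma tau_topElt : tau b Q (topElt b Q) = 1 := by
  rw [topElt, tau_prod, ← mono_univ, top, coef_mono, if_pos rfl]

lemma eq_tau_smul {N : Type*} [AddCommGroup N] [Module R N] (f : CliffordAlgebra Q →ₗ[R] N)
    (hf : ∀ i x, f (contractLeft (b.coord i) x) = 0) (x : CliffordAlgebra Q) :
    f x = tau b Q x • f (topElt b Q) := by
  have key : ∀ y, f y = tau b Q y • f ((toExt b Q).symm (mono b Finset.univ)) := fun y => by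
    have h := eq_smul_top b (f ∘ₗ (toExt b Q).symm.toLinearMap) (fun i z => by
      have e : (toExt b Q).symm (contractLeft (Q := (0 : QuadraticForm R M)) (b.coord i) z) =
          contractLeft (b.coord i) ((toExt b Q).symm z) := (toExt b Q).injective (by
        rw [toExt_contract, LinearEquiv.apply_symm_apply, LinearEquiv.apply_symm_apply])
      simp only [LinearMap.comp_apply, LinearEquiv.coe_coe, e, hf]) (toExt b Q y)
    simpa [tau] using h
  rw [key x]
  congr 1
  rw [key (topElt b Q), tau_topElt, one_smul]

lemma contract_map {M' : Type*} [AddCommGroup M'] [Module R M'] {Q' : QuadraticForm R M'}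
    (f : Q' →qᵢ Q) (d : Module.Dual R M) (x : CliffordAlgebra Q') :
    contractLeft d (CliffordAlgebra.map f x) =
      CliffordAlgebra.map f (contractLeft (d ∘ₗ f.toLinearMap) x) := by
  induction x using CliffordAlgebra.left_induction with
  | algebraMap r => simp [contractLeft_algebraMap]
  | add x y hx hy => simp [map_add, hx, hy]
  | ι_mul x m hx =>
    simp only [map_mul, map_apply_ι, contractLeft_ι_mul, map_sub, map_smul, hx]
    rfl

lemma tau_map (g : M ≃ₗ[R] M) (hg : g ∈ QuadGrp.O Q) (x : CliffordAlgebra Q) :
    tau b Q (CliffordAlgebra.map (QuadGrp.isometryOfMem Q g hg) x) =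
      LinearMap.det g.toLinearMap * tau b Q x := by
  have hf : ∀ i y, (tau b Q ∘ₗ (CliffordAlgebra.map (QuadGrp.isometryOfMem Q g hg)).toLinearMap)
      (contractLeft (b.coord i) y) = 0 := fun i y => by
    have : contractLeft (b.coord i) y = contractLeft
        ((b.coord i ∘ₗ g.symm.toLinearMap) ∘ₗ (QuadGrp.isometryOfMem Q g hg).toLinearMap) y := by
      congr 2
      ext m
      change b.coord i m = b.coord i (g.symm (g m))
      rw [g.symm_apply_apply]
    rw [LinearMap.comp_apply, AlgHom.toLinearMap_apply, this, ← contract_map, tau_contract]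
  have h := eq_tau_smul b Q _ hf x
  rw [LinearMap.comp_apply, AlgHom.toLinearMap_apply] at h
  rw [h, smul_eq_mul, mul_comm]
  congr 1
  rw [LinearMap.comp_apply, AlgHom.toLinearMap_apply, topElt, map_list_prod, List.map_ofFn]
  have : ((CliffordAlgebra.map (QuadGrp.isometryOfMem Q g hg)) ∘ fun i => ι Q (b i)) =
      fun i => ι Q (g (b i)) := funext fun i => map_apply_ι _ _
  rw [this, tau_prod]
  let φ : M [⋀^Fin n]→ₗ[R] R := (top b).compAlternatingMap (ExteriorAlgebra.ιMulti R n)
  have hφ := congrArg (fun ψ : M [⋀^Fin n]→ₗ[R] R => ψ fun i => g (b i)) (AlternatingMap.eq_smul_basis_det b φ)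
  simp only [φ, LinearMap.compAlternatingMap_apply, AlternatingMap.smul_apply, ← mono_univ] at hφ
  rw [hφ, top, coef_mono, if_pos rfl, one_smul]
  change b.det (g.toLinearMap ∘ b) = _
  rw [Module.Basis.det_comp, b.det_self, mul_one]

/-- supercommutation with a vector is a contraction -/
lemma supercomm (v : M) (x : CliffordAlgebra Q) :
    ι Q v * x - involute x * ι Q v = contractLeft (QuadraticMap.polarBilin Q v) x := by
  induction x using CliffordAlgebra.left_induction with
  | algebraMap r => simp [contractLeft_algebraMap, Algebra.commutes]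
  | add x y hx hy => rw [mul_add, map_add, add_mul, map_add, ← hx, ← hy]; abel
  | ι_mul x m hx =>
    rw [map_mul, involute_ι, contractLeft_ι_mul, ← hx, ← mul_assoc, Algebra.smul_def]
    have h := ι_mul_ι_add_swap (Q := Q) v m
    rw [QuadraticMap.polarBilin_apply_apply, ← h]
    noncomm_ring

include b in
lemma tau_supertrace_ι (v : M) (x : CliffordAlgebra Q) :
    tau b Q (ι Q v * x) = tau b Q (involute x * ι Q v) := by
  rw [← sub_eq_zero, ← map_sub, supercomm, tau_contract]

end Groth.Agent.H21Clif
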