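import Groth.Agent.H21Clif.HalfDisc
import Groth.Agent.H21Clif.Global
import Mathlib.LinearAlgebra.LinearIndependent.Basic

/-!
# Clifford algebras of semiregular forms of odd rank over a local ring
-/

universe u v

namespace Groth.Agent.H21Clif

open CliffordAlgebra TensorProduct

set_option linter.style.haveILetI false
set_option linter.unusedSectionVars false

variable {R : Type u} [CommRing R] {M : Type v} [AddCommGroup M] [Module R M]

lemma star_map_mem {Q : QuadraticForm R M} (x : CliffordAlgebra Q) : star x = reverse (involute x) := rfl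

include M in
/-- the image of an even element under an algebra map of Clifford algebras sending vectors to even ones -/
lemma range_mem_even {N : Type*} [AddCommGroup N] [Module R N] {Q₁ : QuadraticForm R N}
    {Q : QuadraticForm R M} (κ : CliffordAlgebra Q₁ →ₐ[R] CliffordAlgebra Q)
    (h : ∀ x, κ (ι Q₁ x) ∈ evenOdd Q 0) (a : CliffordAlgebra Q₁) : κ a ∈ evenOdd Q 0 := by
  induction a using CliffordAlgebra.induction with
  | algebraMap r => rw [AlgHom.commutes]; exact one_le_evenOdd_zero Q (Submodule.algebraMap_mem _)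
  | ι x => exact h x
  | mul a c ha hc => rw [map_mul]; exact even_mul ha hc
  | add a c ha hc => rw [map_add]; exact add_mem ha hc

variable {Q : QuadraticForm R M}

/-- the structure of the Clifford algebra in odd rank -/
structure OddData (Q : QuadraticForm R M) (m : ℕ) where
  /-- the auxiliary regular form -/
  Q₁ : QuadraticForm R (Fin (2 * m) → R)
  reg : QuadGrp.IsRegular Q₁
  /-- its generator of the centre of the even part -/
  z₁ : CliffordAlgebra Q₁
  /-- its discriminant -/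
  D₁ : Rˣ
  isDick : IsDick Q₁ z₁ D₁
  /-- the isomorphism onto the even part -/
  κ : CliffordAlgebra Q₁ →ₐ[R] CliffordAlgebra Q
  κ_inj : Function.Injective κ
  κ_range : ∀ x, (∃ a, κ a = x) ↔ x ∈ evenOdd Q 0
  /-- the odd central element -/
  ζ : CliffordAlgebra Q
  /-- its square -/
  c : Rˣ
  ζ_mem : ζ ∈ evenOdd Q 1
  ζ_comm : ∀ x, ζ * x = x * ζ
  ζ_sq : ζ * ζ = algebraMap R _ (c : R)
  ζ_star : star ζ = ((-1 : R) ^ (m + 1)) • ζ

lemma exists_oddData [IsLocalRing R] (m : ℕ) (b : Module.Basis (Fin (2 * m + 1)) R M)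
    (hQ : QuadGrp.IsSemiregular b (LinearEquiv.refl R R) Q) : Nonempty (OddData Q m) := by
  obtain ⟨d, horth, hv, hP⟩ := exists_orth_basis b Q (even_two_mul m) hQ
  set q := d (Fin.last (2 * m))
  set p : Fin (2 * m) → M := fun i => d i.castSucc
  let f : (Fin (2 * m) → R) →ₗ[R] M := Fintype.linearCombination R p
  let Q₁ : QuadraticForm R (Fin (2 * m) → R) := (-(Q q)) • Q.comp f
  let bs := Pi.basisFun R (Fin (2 * m))
  have hfe : ∀ i, f (bs i) = p i := fun i => by simp [f, bs]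
  have hperp : ∀ x, QuadraticMap.polar Q q (f x) = 0 := fun x => by
    rw [← QuadraticMap.polarBilin_apply_apply, Fintype.linearCombination_apply, map_sum]
    refine Finset.sum_eq_zero fun i _ => ?_
    rw [map_smul, QuadraticMap.polarBilin_apply_apply, QuadraticMap.polar_comm, horth i, smul_zero]
  have hanti : ∀ x, ι Q (f x) * ι Q q = -(ι Q q * ι Q (f x)) := fun x => by
    refine eq_neg_of_add_eq_zero_left ?_
    rw [ι_mul_ι_add_swap, QuadraticMap.polar_comm, hperp, map_zero]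
  have hreg : QuadGrp.IsRegular Q₁ := by
    have hmat : LinearMap.toMatrix bs bs.dualBasis (QuadraticMap.polarBilin Q₁) =
        (-(Q q)) • polarMat Q p := by
      ext i j
      rw [LinearMap.toMatrix_apply, Module.Basis.dualBasis_repr, QuadraticMap.polarBilin_apply_apply,
        Matrix.smul_apply, polarMat, Matrix.of_apply, smul_eq_mul, QuadraticMap.polar_comm Q (p i)]
      simp only [Q₁, QuadraticMap.polar, QuadraticMap.smul_apply, QuadraticMap.comp_apply, smul_eq_mul,
        map_add, hfe]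
      ring
    have hu : IsUnit (LinearMap.toMatrix bs bs.dualBasis (QuadraticMap.polarBilin Q₁)).det := by
      rw [hmat, Matrix.det_smul]
      exact (hv.neg.pow _).mul hP
    exact (LinearEquiv.ofIsUnitDet hu).bijective
  obtain ⟨z₁, D₁, hz, hrev⟩ := exists_isDick_reverse (Q := Q₁) (m := m) (by simp) hreg
  let κ : CliffordAlgebra Q₁ →ₐ[R] CliffordAlgebra Q :=
    CliffordAlgebra.lift Q₁ ⟨LinearMap.mulLeft R (ι Q q) ∘ₗ ι Q ∘ₗ f, fun x => by
      simp only [LinearMap.comp_apply, LinearMap.mulLeft_apply, Q₁, QuadraticMap.smul_apply,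
        QuadraticMap.comp_apply, smul_eq_mul]
      rw [mul_assoc, ← mul_assoc (ι Q (f x)), hanti, neg_mul, mul_neg, mul_assoc (ι Q q) (ι Q (f x)),
        ι_sq_scalar, ← mul_assoc, ι_sq_scalar, ← map_mul, ← map_neg, neg_mul]⟩
  have hκι : ∀ x, κ (ι Q₁ x) = ι Q q * ι Q (f x) := fun x => lift_ι_apply _ _ x
  have hκmem : ∀ a, κ a ∈ evenOdd Q 0 :=
    range_mem_even κ fun x => by rw [hκι]; exact ι_mul_ι_mem_evenOdd_zero Q q (f x)
  -- `q` anticommutes with the generators
  have hqκι : ∀ x, ι Q q * κ (ι Q₁ x) = -(κ (ι Q₁ x) * ι Q q) := fun x => by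
    rw [hκι, mul_assoc (ι Q q) (ι Q (f x)), hanti, mul_neg, neg_neg]
  have hqeven : ∀ a ∈ evenOdd Q₁ 0, ι Q q * κ a = κ a * ι Q q := fun a ha => by
    induction a, ha using CliffordAlgebra.even_induction with
    | algebraMap r => rw [AlgHom.commutes, Algebra.commutes]
    | add a c _ _ ha hc => rw [map_add, mul_add, add_mul, ha, hc]
    | ι_mul_ι_mul x y a _ ha =>
      rw [map_mul, map_mul, ← mul_assoc, ← mul_assoc, hqκι, neg_mul, mul_assoc (κ (ι Q₁ x)), hqκι,
        mul_neg, neg_neg, mul_assoc, mul_assoc, ha]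
      simp only [mul_assoc]
  set w := κ (1 - 2 * z₁) with hw
  have hqw : ι Q q * w = w * ι Q q := hqeven _ hz.one_sub_mem
  have hqsq : ∀ y, ι Q q * (ι Q q * y) = Q q • y := fun y => by
    rw [← mul_assoc, ι_sq_scalar, ← Algebra.smul_def]
  have hwf : ∀ x, w * ι Q (f x) = -(ι Q (f x) * w) := fun x => by
    refine hv.smul_left_cancel.mp ?_
    rw [← hqsq, ← hqsq, mul_neg (ι Q q) (ι Q (f x) * w), ← mul_assoc (ι Q q) w, hqw, mul_assoc,
      ← mul_assoc (ι Q q) (ι Q (f x)) w, ← hκι, hw, ← map_mul, ← map_mul, hz.anticomm, map_neg]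
  set ζ := ι Q q * w with hζ
  have hζv : ∀ v, ζ * ι Q v = ι Q v * ζ := by
    refine fun v => LinearMap.congr_fun (f := LinearMap.mulLeft R ζ ∘ₗ ι Q)
      (g := LinearMap.mulRight R ζ ∘ₗ ι Q) (d.ext fun i => ?_) v
    change ζ * ι Q (d i) = ι Q (d i) * ζ
    induction i using Fin.lastCases with
    | last => rw [hζ, mul_assoc, ← hqw]
    | cast i =>
      change ζ * ι Q (p i) = ι Q (p i) * ζ
      rw [← hfe, hζ, mul_assoc, hwf, mul_neg, ← mul_assoc, ← mul_assoc, hanti, neg_mul]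
  have hζc : ∀ x, ζ * x = x * ζ := fun x => by
    induction x using CliffordAlgebra.induction with
    | algebraMap r => exact (Algebra.commutes r ζ).symm
    | ι v => exact hζv v
    | mul a c ha hc => rw [← mul_assoc, ha, mul_assoc, hc, mul_assoc]
    | add a c ha hc => rw [mul_add, add_mul, ha, hc]
  have hsq : ζ * ζ = algebraMap R _ (Q q * D₁) := by
    calc ζ * ζ = (ι Q q * ι Q q) * (w * w) := by
          rw [hζ, mul_assoc (ι Q q) w, ← mul_assoc w (ι Q q) w, ← hqw]
          simp only [hζ, mul_assoc]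
      _ = _ := by rw [ι_sq_scalar, hw, ← map_mul κ, hz.sq, AlgHom.commutes, ← map_mul]
  let c : Rˣ := hv.unit * D₁
  have hζmem : ζ ∈ evenOdd Q 1 := by
    have h := SetLike.mul_mem_graded (ι_mem_evenOdd_one Q q) (hκmem (1 - 2 * z₁))
    rw [add_zero] at h
    exact h
  -- bijectivity
  let Φ : CliffordAlgebra Q₁ × CliffordAlgebra Q₁ →ₗ[R] CliffordAlgebra Q :=
    LinearMap.coprod κ.toLinearMap (LinearMap.mulRight R ζ ∘ₗ κ.toLinearMap)
  have hΦ : ∀ x y, Φ (x, y) = κ x + κ y * ζ := fun _ _ => rfl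
  have hqmul : ∀ a, ι Q q * κ a = κ ((↑D₁⁻¹ : R) • ((1 - 2 * z₁) * a)) * ζ := fun a => by
    rw [map_smul, map_mul, smul_mul_assoc, ← hw, mul_assoc, ← hζc, hζ, ← mul_assoc, ← mul_assoc, ← hqw,
      mul_assoc (ι Q q) w w, hw, ← map_mul κ (1 - 2 * z₁), hz.sq, AlgHom.commutes, ← Algebra.commutes,
      ← Algebra.smul_def, smul_mul_assoc, smul_smul, Units.inv_mul, one_smul]
  have hleft : ∀ y, y ∈ LinearMap.range Φ → ι Q q * y ∈ LinearMap.range Φ := by
    rintro _ ⟨⟨a, a'⟩, rfl⟩
    refine ⟨((c : R) • ((↑D₁⁻¹ : R) • ((1 - 2 * z₁) * a')), (↑D₁⁻¹ : R) • ((1 - 2 * z₁) * a)), ?_⟩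
    rw [hΦ, hΦ, mul_add, ← mul_assoc (ι Q q) (κ a'), hqmul a, hqmul a', mul_assoc _ ζ ζ, hsq, ← Algebra.commutes, ← Algebra.smul_def,
      map_smul κ (c : R), add_comm]
    rfl
  have hκleft : ∀ x y, y ∈ LinearMap.range Φ → κ x * y ∈ LinearMap.range Φ := by
    rintro x _ ⟨⟨a, a'⟩, rfl⟩
    exact ⟨(x * a, x * a'), by rw [hΦ, hΦ, map_mul, map_mul, mul_add, mul_assoc]⟩
  have hsurj : Function.Surjective Φ := fun x => by
    induction x using CliffordAlgebra.left_induction with
    | algebraMap r => exact ⟨(algebraMap R _ r, 0), by simp [hΦ]⟩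
    | add x y hx hy =>
      obtain ⟨a, rfl⟩ := hx
      obtain ⟨a', rfl⟩ := hy
      exact ⟨a + a', map_add Φ a a'⟩
    | ι_mul y v hy =>
      change ι Q v * y ∈ LinearMap.range Φ
      rw [← d.sum_repr v, map_sum, Finset.sum_mul]
      refine Submodule.sum_mem _ fun i _ => ?_
      rw [map_smul, smul_mul_assoc]
      refine Submodule.smul_mem _ _ ?_
      induction i using Fin.lastCases with
      | last => exact hleft _ hy
      | cast i =>
        have e : ι Q (d i.castSucc) * y = (↑hv.unit⁻¹ : R) • (ι Q q * (κ (ι Q₁ (bs i)) * y)) := by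
          rw [hκι, hfe, mul_assoc (ι Q q) (ι Q (p i)), hqsq, smul_smul, hv.val_inv_mul, one_smul]
        rw [e]
        exact Submodule.smul_mem _ _ (hleft _ (hκleft _ _ hy))
  have hbij : Function.Bijective Φ := by
    refine ⟨?_, hsurj⟩
    let e₁ := (cBasis bs Q₁).prod (cBasis bs Q₁)
    let e₂ := cBasis d Q
    have hcard : Fintype.card (Finset (Fin (2 * m)) ⊕ Finset (Fin (2 * m))) =
        Fintype.card (Finset (Fin (2 * m + 1))) := by
      simp [pow_succ, mul_two]
    let e := e₂.equiv e₁ (Fintype.equivOfCardEq hcard.symm)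
    haveI : Module.Finite R (CliffordAlgebra Q₁ × CliffordAlgebra Q₁) := Module.Finite.of_basis e₁
    have := OrzechProperty.injective_of_surjective_endomorphism (e.toLinearMap.comp Φ)
      (e.surjective.comp hsurj)
    exact fun x y h => this (congrArg e h)
  refine ⟨⟨Q₁, hreg, z₁, D₁, hz, κ, fun a a' h => ?_, fun x => ⟨fun ⟨a, ha⟩ => ha ▸ hκmem a, fun hx => ?_⟩,
    ζ, c, hζmem, hζc, hsq, ?_⟩⟩
  · exact congrArg Prod.fst (hbij.1 (a₁ := (a, 0)) (a₂ := (a', 0)) (by simp [hΦ, h]))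
  · obtain ⟨⟨a, a'⟩, ha⟩ := hsurj x
    rw [hΦ] at ha
    refine ⟨a, ?_⟩
    have h0 := (parts_eq_zero (Q := Q) (x₀ := κ a - x) (x₁ := κ a' * ζ) (sub_mem (hκmem a) hx)
      (by simpa using SetLike.mul_mem_graded (hκmem a') hζmem) (by rw [← ha]; abel)).1
    exact sub_eq_zero.mp h0
  · -- the involution
    have hstar : ∀ a, star (κ a) = κ (star a) := fun a => by
      induction a using CliffordAlgebra.induction with
      | algebraMap r => rw [AlgHom.commutes, star_algebraMap, star_algebraMap, AlgHom.commutes]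
      | ι x => rw [hκι, star_mul, star_ι, star_ι, neg_mul_neg, hanti, star_ι, map_neg, hκι]
      | mul a a' ha ha' => rw [map_mul, star_mul, ha, ha', star_mul, map_mul]
      | add a a' ha ha' => rw [map_add, star_add, ha, ha', star_add, map_add]
    rw [hζ, star_mul, star_ι, hw, hstar, star_map_mem, involute_eq_of_mem_even hz.one_sub_mem, hrev,
      map_smul, ← hw, mul_neg, smul_mul_assoc, ← hqw, pow_succ, mul_neg_one, neg_smul]

variable {m : ℕ} (d : OddData Q m)

include d in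
lemma OddData.even_central {x : CliffordAlgebra Q} (hx : x ∈ evenOdd Q 0)
    (hc : ∀ v, x * ι Q v = ι Q v * x) : ∃ r : R, x = algebraMap R _ r := by
  obtain ⟨a, rfl⟩ := (d.κ_range x).mpr hx
  have hcomm : ∀ y, d.κ a * y = y * d.κ a := fun y => by
    induction y using CliffordAlgebra.induction with
    | algebraMap r => exact (Algebra.commutes r _).symm
    | ι v => exact hc v
    | mul p q hp hq => rw [← mul_assoc, hp, mul_assoc, hq, mul_assoc]
    | add p q hp hq => rw [mul_add, add_mul, hp, hq]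
  have ha : ∀ y, a * y = y * a := fun y => d.κ_inj (by rw [map_mul, map_mul, hcomm])
  have h := (sandwich_bijective (Pi.basisFun R (Fin (2 * m))) d.reg d.isDick).1 (a₁ := a ⊗ₜ[R] 1)
    (a₂ := 1 ⊗ₜ[R] a) (LinearMap.ext fun y => by rw [sandwich_tmul, sandwich_tmul, mul_one, one_mul, ha])
  let bs := Pi.basisFun R (Fin (2 * m))
  let φ : CliffordAlgebra d.Q₁ →ₗ[R] R := coef bs ∅ ∘ₗ (toExt bs d.Q₁).toLinearMap
  have hφ1 : φ 1 = 1 := by
    simp [φ, toExt_one, show (1 : ExteriorAlgebra R (Fin (2 * m) → R)) = mono bs ∅ by simp [mono], coef_mono]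
  refine ⟨φ a, ?_⟩
  have := congrArg (TensorProduct.rid R _ ∘ LinearMap.lTensor (CliffordAlgebra d.Q₁) φ) h
  simp only [Function.comp_apply, LinearMap.lTensor_tmul, TensorProduct.rid_tmul, hφ1, one_smul] at this
  conv_lhs => rw [this]
  rw [map_smul, map_one, ← Algebra.algebraMap_eq_smul_one]

include d in
lemma OddData.odd_central {x : CliffordAlgebra Q} (hx : x ∈ evenOdd Q 1)
    (hc : ∀ v, x * ι Q v = ι Q v * x) : ∃ r : R, x = r • d.ζ := by
  obtain ⟨r, hr⟩ := d.even_central (x := x * d.ζ)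
    (by simpa [show (1 : ZMod 2) + 1 = 0 from rfl] using SetLike.mul_mem_graded hx d.ζ_mem)
    fun v => by rw [mul_assoc, d.ζ_comm, ← mul_assoc, hc, mul_assoc]
  refine ⟨(↑d.c⁻¹ : R) * r, ?_⟩
  have h := congrArg (· * d.ζ) hr
  simp only [mul_assoc, d.ζ_sq, ← Algebra.smul_def, ← Algebra.commutes (d.c : R)] at h
  rw [mul_smul, ← h, smul_smul, Units.inv_mul, one_smul]

include d in
lemma OddData.central {x : CliffordAlgebra Q} (hc : ∀ v, x * ι Q v = ι Q v * x) :
    ∃ a c : R, x = algebraMap R _ a + c • d.ζ := by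
  obtain ⟨x₀, h₀, x₁, h₁, rfl⟩ := exists_parts x
  have hparts : ∀ v, x₀ * ι Q v - ι Q v * x₀ = 0 ∧ x₁ * ι Q v - ι Q v * x₁ = 0 := fun v => by
    have hv := ι_mem_evenOdd_one Q v
    refine (parts_eq_zero (Q := Q) (x₀ := x₁ * ι Q v - ι Q v * x₁) (x₁ := x₀ * ι Q v - ι Q v * x₀)
      (sub_mem (by simpa [show (1 : ZMod 2) + 1 = 0 from rfl] using SetLike.mul_mem_graded h₁ hv)
        (by simpa [show (1 : ZMod 2) + 1 = 0 from rfl] using SetLike.mul_mem_graded hv h₁))
      (sub_mem (by simpa using SetLike.mul_mem_graded h₀ hv) (by simpa using SetLike.mul_mem_graded hv h₀))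
      ?_).symm
    have := hc v
    rw [← sub_eq_zero] at this
    rw [← this]; noncomm_ring
  obtain ⟨a, ha⟩ := d.even_central h₀ fun v => sub_eq_zero.mp (hparts v).1
  obtain ⟨c, hcc⟩ := d.odd_central h₁ fun v => sub_eq_zero.mp (hparts v).2
  exact ⟨a, c, by rw [ha, hcc]⟩

include d in
lemma OddData.unit_ζ : IsUnit d.ζ :=
  ⟨⟨d.ζ, (↑d.c⁻¹ : R) • d.ζ,
    by rw [mul_smul_comm, d.ζ_sq, Algebra.smul_def, ← map_mul, Units.inv_mul, map_one],
    by rw [smul_mul_assoc, d.ζ_sq, Algebra.smul_def, ← map_mul, Units.inv_mul, map_one]⟩, rfl⟩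

lemma map_mem_evenOdd_zero {g : M ≃ₗ[R] M} (hg : g ∈ QuadGrp.O Q) {x : CliffordAlgebra Q}
    (hx : x ∈ evenOdd Q 0) : autOf Q g hg x ∈ evenOdd Q 0 := by
  induction x, hx using CliffordAlgebra.even_induction with
  | algebraMap r => rw [AlgEquiv.commutes]; exact one_le_evenOdd_zero Q (Submodule.algebraMap_mem _)
  | add x y _ _ hx hy => rw [map_add]; exact add_mem hx hy
  | ι_mul_ι_mul m₁ m₂ x _ hx =>
    rw [map_mul, map_mul, autOf_apply, autOf_apply, map_apply_ι, map_apply_ι]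
    exact even_mul (ι_mul_ι_mem_evenOdd_zero Q _ _) hx

lemma map_mem_evenOdd_one {g : M ≃ₗ[R] M} (hg : g ∈ QuadGrp.O Q) {x : CliffordAlgebra Q}
    (hx : x ∈ evenOdd Q 1) : autOf Q g hg x ∈ evenOdd Q 1 := by
  induction x, hx using CliffordAlgebra.odd_induction with
  | ι v => rw [autOf_apply, map_apply_ι]; exact ι_mem_evenOdd_one Q _
  | add x y _ _ hx hy => rw [map_add]; exact add_mem hx hy
  | ι_mul_ι_mul m₁ m₂ x _ hx =>
    rw [map_mul, map_mul, autOf_apply, autOf_apply, map_apply_ι, map_apply_ι]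
    simpa using SetLike.mul_mem_graded (ι_mul_ι_mem_evenOdd_zero Q _ _) hx

include d in
/-- isometries in odd rank over a local ring: the Clifford lift and the action on the centre -/
lemma OddData.exists_lift [IsLocalRing R] (b : Module.Basis (Fin (2 * m + 1)) R M) (g : M ≃ₗ[R] M)
    (hg : g ∈ QuadGrp.O Q) :
    ∃ u : (CliffordAlgebra Q)ˣ, (u : CliffordAlgebra Q) ∈ evenOdd Q 0 ∧
      autOf Q g hg d.ζ = LinearMap.det g.toLinearMap • d.ζ ∧
      ∀ v, ι Q (g v) * u = LinearMap.det g.toLinearMap • ((u : CliffordAlgebra Q) * ι Q v) := by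
  let σ := autOf Q g hg
  have hinv : ∀ x, autOf Q g⁻¹ ((QuadGrp.O Q).inv_mem hg) x = σ.symm x := fun x => rfl
  -- the action on the even part
  have hex : ∀ a, ∃ a', d.κ a' = σ (d.κ a) := fun a =>
    (d.κ_range _).mpr (map_mem_evenOdd_zero hg ((d.κ_range _).mp ⟨a, rfl⟩))
  choose s hs using hex
  let sA : CliffordAlgebra d.Q₁ →ₐ[R] CliffordAlgebra d.Q₁ :=
    { toFun := s
      map_one' := d.κ_inj (by rw [hs, map_one, map_one])
      map_mul' := fun a a' => d.κ_inj (by rw [hs, map_mul, map_mul, map_mul, hs, hs])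
      map_zero' := d.κ_inj (by rw [hs, map_zero, map_zero])
      map_add' := fun a a' => d.κ_inj (by rw [hs, map_add, map_add, map_add, hs, hs])
      commutes' := fun r => d.κ_inj (by rw [hs, AlgHom.commutes, AlgEquiv.commutes]) }
  have hsA : ∀ a, d.κ (sA a) = σ (d.κ a) := hs
  have hbij : Function.Bijective sA := ⟨fun a a' h => d.κ_inj (σ.injective (by rw [← hsA, ← hsA, h])),
    fun a => by
      obtain ⟨a', ha'⟩ := (d.κ_range (σ.symm (d.κ a))).mpr (by
        rw [← hinv]; exact map_mem_evenOdd_zero _ ((d.κ_range _).mp ⟨a, rfl⟩))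
      exact ⟨a', d.κ_inj (by rw [hsA, ha', AlgEquiv.apply_symm_apply])⟩⟩
  obtain ⟨u₁, hu₁⟩ := exists_inner (Pi.basisFun R (Fin (2 * m))) d.reg d.isDick (AlgEquiv.ofBijective sA hbij)
  let u : (CliffordAlgebra Q)ˣ := Units.map d.κ.toMonoidHom u₁
  have hue : (u : CliffordAlgebra Q) ∈ evenOdd Q 0 := (d.κ_range _).mp ⟨u₁, rfl⟩
  have hu : ∀ x ∈ evenOdd Q 0, σ x * u = u * x := fun x hx => by
    obtain ⟨a, rfl⟩ := (d.κ_range x).mpr hx
    have h := congrArg d.κ (hu₁ a)
    rw [map_mul, map_mul, AlgEquiv.coe_ofBijective, hsA] at h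
    exact h
  -- the action on the odd central element
  obtain ⟨r, hr⟩ := d.odd_central (map_mem_evenOdd_one hg d.ζ_mem) fun v => by
    have h := congrArg σ (d.ζ_comm (ι Q (g.symm v)))
    simp only [map_mul, σ] at h
    rwa [autOf_apply g hg (ι Q _), map_apply_ι, QuadGrp.isometryOfMem_apply, g.apply_symm_apply] at h
  have hrr : r * r = 1 := by
    have h := congrArg σ d.ζ_sq
    rw [map_mul, AlgEquiv.commutes, hr, smul_mul_smul_comm, d.ζ_sq, Algebra.smul_def, ← map_mul] at h
    exact d.c.isUnit.mul_eq_right.mp (algebraMap_injective b Q h)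
  have hv : ∀ x ∈ evenOdd Q 1, σ x * u = r • ((u : CliffordAlgebra Q) * x) := fun x hx => by
    have h := hu (x * d.ζ) (by
      simpa [show (1 : ZMod 2) + 1 = 0 from rfl] using SetLike.mul_mem_graded hx d.ζ_mem)
    rw [map_mul, hr, mul_smul_comm, smul_mul_assoc, mul_assoc, d.ζ_comm, ← mul_assoc, ← mul_assoc] at h
    refine d.unit_ζ.mul_right_cancel ?_
    calc σ x * u * d.ζ = r • (r • (σ x * u * d.ζ)) := by rw [smul_smul, hrr, one_smul]
      _ = _ := by rw [h, smul_mul_assoc]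
  -- the determinant
  have hdet : LinearMap.det g.toLinearMap = r := by
    have hE : topElt b Q ∈ evenOdd Q 1 := by
      have := SetLike.list_prod_ofFn_mem_graded (A := evenOdd Q) (fun _ : Fin (2 * m + 1) => (1 : ZMod 2))
        (fun i => ι Q (b i)) fun i => ι_mem_evenOdd_one Q (b i)
      rw [show (List.ofFn fun _ : Fin (2 * m + 1) => (1 : ZMod 2)).sum = 1 by
        rw [List.sum_ofFn]; simp [show (2 : ZMod 2) = 0 from rfl]] at this
      exact this
    calc LinearMap.det g.toLinearMap = tau b Q (σ (topElt b Q)) := by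
          rw [autOf_apply, tau_map, tau_topElt, mul_one]
      _ = tau b Q (r • ((u : CliffordAlgebra Q) * (topElt b Q * ↑u⁻¹))) := by
          rw [← mul_assoc, ← smul_mul_assoc, ← hv _ hE, mul_assoc (σ _), Units.mul_inv, mul_one]
      _ = r := by
          rw [map_smul, tau_even_comm b hue, mul_assoc, Units.inv_mul, mul_one, tau_topElt, smul_eq_mul,
            mul_one]
  refine ⟨u, hue, by rw [hdet]; exact hr, fun v => ?_⟩
  have := hv _ (ι_mem_evenOdd_one Q v)
  rw [hdet]
  rwa [autOf_apply, map_apply_ι, QuadGrp.isometryOfMem_apply] at this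

include d in
lemma OddData.det_eq_one_of_conj [IsLocalRing R] (b : Module.Basis (Fin (2 * m + 1)) R M) {g : M ≃ₗ[R] M}
    (hg : g ∈ QuadGrp.O Q) {u : (CliffordAlgebra Q)ˣ}
    (h : ∀ v, (u : CliffordAlgebra Q) * ι Q v * ↑u⁻¹ = ι Q (g v)) : LinearMap.det g.toLinearMap = 1 := by
  obtain ⟨-, -, hζ, -⟩ := d.exists_lift b g hg
  have h1 := intertwines hg h d.ζ
  rw [hζ, smul_mul_assoc, d.ζ_comm] at h1
  have h2 := congrArg (fun y => (↑u⁻¹ : CliffordAlgebra Q) * y * d.ζ) h1
  beta_reduce at h2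
  rw [mul_smul_comm, smul_mul_assoc, Units.inv_mul_cancel_left, d.ζ_sq, Algebra.smul_def, ← map_mul] at h2
  exact d.c.isUnit.mul_eq_right.mp (algebraMap_injective b Q h2)

include d in
lemma OddData.exists_gSpin_lift [IsLocalRing R] (b : Module.Basis (Fin (2 * m + 1)) R M) {g : M ≃ₗ[R] M}
    (hg : g ∈ QuadGrp.O Q) (hdet : LinearMap.det g.toLinearMap = 1) :
    ∃ u ∈ QuadGrp.GSpin Q, ∀ v, (u : CliffordAlgebra Q) * ι Q v * ↑u⁻¹ = ι Q (g v) := by
  obtain ⟨u, hue, -, hu⟩ := d.exists_lift b g hg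
  have h : ∀ v, (u : CliffordAlgebra Q) * ι Q v * ↑u⁻¹ = ι Q (g v) := fun v => by
    have h1 := hu v
    rw [hdet, one_smul] at h1
    rw [← h1, mul_assoc, Units.mul_inv, mul_one]
  refine ⟨u, ⟨⟨mem_GPin'_of_intertwines h, 1, IsIdempotentElem.one, ?_, ?_⟩, hue⟩, h⟩
  · rw [one_smul]; exact hue
  · rw [sub_self, zero_smul]; exact Submodule.zero_mem _

section Global

variable [Module.Free R M] (p : Ideal R) [p.IsPrime]

lemma isSemiregular_baseChange {n : ℕ} (b : Module.Basis (Fin n) R M)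
    (hQ : QuadGrp.IsSemiregular b (LinearEquiv.refl R R) Q) (A : Type*) [CommRing A] [Algebra R A] :
    QuadGrp.IsSemiregular (Algebra.TensorProduct.basis A b) (LinearEquiv.refl A A)
      (QuadGrp.baseChangeForm A Q) := by
  rw [QuadGrp.IsSemiregular, halfDisc_baseChange]
  exact IsUnit.map _ hQ

lemma Ψ_star (A : Type*) [CommRing A] [Algebra R A] (x : CliffordAlgebra Q) :
    Ψ A Q (star x) = star (Ψ A Q x) := by
  induction x using CliffordAlgebra.induction with
  | algebraMap r =>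
    rw [star_algebraMap, AlgHom.commutes, IsScalarTower.algebraMap_apply R A, star_algebraMap]
  | ι v => rw [star_ι, map_neg, Ψ_ι, star_ι]
  | mul x y hx hy => rw [star_mul, map_mul, map_mul, hx, hy, star_mul]
  | add x y hx hy => rw [star_add, map_add, map_add, hx, hy, star_add]

lemma conj_baseChange (A : Type*) [CommRing A] [Algebra R A] {g : M ≃ₗ[R] M} {u : (CliffordAlgebra Q)ˣ}
    (h : ∀ v, (u : CliffordAlgebra Q) * ι Q v * ↑u⁻¹ = ι Q (g v)) (v : A ⊗[R] M) :
    ((Units.map (Ψ A Q).toMonoidHom u : (CliffordAlgebra (QuadGrp.baseChangeForm A Q))ˣ) :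
        CliffordAlgebra (QuadGrp.baseChangeForm A Q)) * ι (QuadGrp.baseChangeForm A Q) v *
        ↑(Units.map (Ψ A Q).toMonoidHom u)⁻¹ =
      ι (QuadGrp.baseChangeForm A Q) (g.baseChange R A M M v) := by
  induction v using TensorProduct.induction_on with
  | zero => simp
  | add v w hv hw => rw [map_add, mul_add, add_mul, hv, hw, map_add, map_add]
  | tmul a v =>
    have h2 := congrArg (Ψ A Q) (h v)
    rw [map_mul, map_mul, Ψ_ι, Ψ_ι] at h2
    rw [LinearEquiv.baseChange_tmul,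
      show (a ⊗ₜ[R] v : A ⊗[R] M) = a • ((1 : A) ⊗ₜ v) by rw [smul_tmul', smul_eq_mul, mul_one],
      show (a ⊗ₜ[R] g v : A ⊗[R] M) = a • ((1 : A) ⊗ₜ g v) by rw [smul_tmul', smul_eq_mul, mul_one],
      map_smul, map_smul, mul_smul_comm, smul_mul_assoc, ← h2]
    rfl

lemma det_eq_one_of_mem_GPin' (b : Module.Basis (Fin (2 * m + 1)) R M)
    (hQ : QuadGrp.IsSemiregular b (LinearEquiv.refl R R) Q) {u : (CliffordAlgebra Q)ˣ}
    {g : M ≃ₗ[R] M} (hg : g ∈ QuadGrp.O Q)
    (h : ∀ v, (u : CliffordAlgebra Q) * ι Q v * ↑u⁻¹ = ι Q (g v)) : LinearMap.det g.toLinearMap = 1 := by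
  haveI := Module.Finite.of_basis b
  refine eq_of_forall_localization fun p _ => ?_
  obtain ⟨d⟩ := exists_oddData m _ (isSemiregular_baseChange b hQ (Localization.AtPrime p))
  have := d.det_eq_one_of_conj (Algebra.TensorProduct.basis (Localization.AtPrime p) b)
    (baseChange_mem_O _ Q hg) (conj_baseChange (Localization.AtPrime p) h)
  rwa [det_baseChange, ← map_one (algebraMap R (Localization.AtPrime p))] at this

lemma central_baseChange (A : Type*) [CommRing A] [Algebra R A] {z : CliffordAlgebra Q}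
    (hz : ∀ v, z * ι Q v = ι Q v * z) (v : A ⊗[R] M) :
    Ψ A Q z * ι (QuadGrp.baseChangeForm A Q) v = ι (QuadGrp.baseChangeForm A Q) v * Ψ A Q z := by
  induction v using TensorProduct.induction_on with
  | zero => simp
  | add v w hv hw => rw [map_add, mul_add, add_mul, hv, hw]
  | tmul a v =>
    have h2 := congrArg (Ψ A Q) (hz v)
    rw [map_mul, map_mul, Ψ_ι] at h2
    rw [show (a ⊗ₜ[R] v : A ⊗[R] M) = a • ((1 : A) ⊗ₜ v) by rw [smul_tmul', smul_eq_mul, mul_one],
      map_smul, mul_smul_comm, smul_mul_assoc, h2]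

end Global

end Groth.Agent.H21Clif
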