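import Groth.Agent.H21Clif.Global
import Groth.Agent.H21Clif.Odd
import Groth.Agent.H21Clif.Centralizer

/-!
# Coordinates on base changes of a Clifford algebra
-/

universe u v

namespace Groth.Agent.H21Clif

open CliffordAlgebra TensorProduct

set_option linter.style.haveILetI false
set_option linter.unusedSectionVars false

section Parity

variable {R : Type u} [CommRing R] {M : Type v} [AddCommGroup M] [Module R M] {Q : QuadraticForm R M}

lemma add_one_add_one (i : ZMod 2) : i + 1 + 1 = i := by
  rw [add_assoc, show (1 : ZMod 2) + 1 = 0 from rfl, add_zero]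

lemma ι_mul_mem {i : ZMod 2} (a : M) {x : CliffordAlgebra Q} (hx : x ∈ evenOdd Q i) :
    ι Q a * x ∈ evenOdd Q (i + 1) := by
  rw [add_comm]
  exact SetLike.mul_mem_graded (ι_mem_evenOdd_one Q a) hx

lemma contractLeft_mem (d : Module.Dual R M) {i : ZMod 2} {x : CliffordAlgebra Q} (hx : x ∈ evenOdd Q i) :
    contractLeft d x ∈ evenOdd Q (i + 1) := by
  induction x, hx using CliffordAlgebra.evenOdd_induction Q i with
  | range_ι_pow v hv =>
    fin_cases i
    · replace hv : v ∈ LinearMap.range (ι Q) ^ 0 := hv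
      rw [pow_zero] at hv
      obtain ⟨r, rfl⟩ := Submodule.mem_one.mp hv
      rw [contractLeft_algebraMap]
      exact Submodule.zero_mem _
    · replace hv : v ∈ LinearMap.range (ι Q) ^ 1 := hv
      rw [pow_one] at hv
      obtain ⟨w, rfl⟩ := hv
      rw [contractLeft_ι]
      exact one_le_evenOdd_zero Q (Submodule.algebraMap_mem _)
  | add x y _ _ hx hy => rw [map_add]; exact add_mem hx hy
  | ι_mul_ι_mul a c x hx ih =>
    rw [mul_assoc, contractLeft_ι_mul, contractLeft_ι_mul, mul_sub, mul_smul_comm]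
    refine sub_mem (Submodule.smul_mem _ _ (ι_mul_mem c hx)) (sub_mem (Submodule.smul_mem _ _ (ι_mul_mem a hx)) ?_)
    have h := ι_mul_mem a (ι_mul_mem c ih)
    rwa [add_one_add_one] at h

lemma changeForm_mem {Q' : QuadraticForm R M} {B : LinearMap.BilinForm R M} (h : B.toQuadraticMap = Q' - Q)
    {i : ZMod 2} {x : CliffordAlgebra Q} (hx : x ∈ evenOdd Q i) : changeForm h x ∈ evenOdd Q' i := by
  induction x, hx using CliffordAlgebra.evenOdd_induction Q i with
  | range_ι_pow v hv =>
    fin_cases i
    · replace hv : v ∈ LinearMap.range (ι Q) ^ 0 := hv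
      rw [pow_zero] at hv
      obtain ⟨r, rfl⟩ := Submodule.mem_one.mp hv
      rw [changeForm_algebraMap]
      exact one_le_evenOdd_zero Q' (Submodule.algebraMap_mem _)
    · replace hv : v ∈ LinearMap.range (ι Q) ^ 1 := hv
      rw [pow_one] at hv
      obtain ⟨w, rfl⟩ := hv
      rw [changeForm_ι]
      exact ι_mem_evenOdd_one _ _
  | add x y _ _ hx hy => rw [map_add]; exact add_mem hx hy
  | ι_mul_ι_mul a c x _ ih =>
    rw [mul_assoc, changeForm_ι_mul, changeForm_ι_mul]
    have hin := sub_mem (ι_mul_mem (Q := Q') c ih) (contractLeft_mem (B c) ih)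
    have h1 := ι_mul_mem a hin
    have h2 := contractLeft_mem (B a) hin
    rw [add_one_add_one] at h1 h2
    exact sub_mem h1 h2

lemma prod_map_ι_mem (l : List M) : (l.map (ι Q)).prod ∈ evenOdd Q (l.length : ZMod 2) := by
  induction l with
  | nil => simpa using SetLike.one_mem_graded (evenOdd Q)
  | cons a l ih =>
    rw [List.map_cons, List.prod_cons, List.length_cons, Nat.cast_succ]
    exact ι_mul_mem a ih

lemma eq_zero_of_mem_of_mem {i : ZMod 2} {x : CliffordAlgebra Q} (h : x ∈ evenOdd Q i)
    (h' : x ∈ evenOdd Q (i + 1)) : x = 0 := by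
  fin_cases i
  · exact Submodule.disjoint_def.mp (evenOdd_isCompl (Q := Q)).disjoint x h h'
  · exact Submodule.disjoint_def.mp (evenOdd_isCompl (Q := Q)).disjoint x h' h

/-- coefficients of a homogeneous basis detect the grading -/
lemma mem_evenOdd_iff {ι' : Type*} [Fintype ι'] (c : Module.Basis ι' R (CliffordAlgebra Q)) (par : ι' → ZMod 2)
    (hc : ∀ s, c s ∈ evenOdd Q (par s)) (i : ZMod 2) (x : CliffordAlgebra Q) :
    x ∈ evenOdd Q i ↔ ∀ s, par s ≠ i → c.repr x s = 0 := by
  classical
  have z1 : ∀ i j : ZMod 2, j = i ∨ j = i + 1 := by decide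
  have z2 : ∀ i : ZMod 2, i + 1 ≠ i := by decide
  have hmem : ∀ (f : ι' → R) (j : ZMod 2), ∑ s, (if par s = j then f s else 0) • c s ∈ evenOdd Q j :=
    fun f j => Submodule.sum_mem _ fun s _ => by
      split_ifs with h
      · exact Submodule.smul_mem _ _ (h ▸ hc s)
      · rw [zero_smul]; exact Submodule.zero_mem _
  have hsplit : ∀ (f : ι' → R), ∑ s, f s • c s =
      ∑ s, (if par s = i then f s else 0) • c s + ∑ s, (if par s = i + 1 then f s else 0) • c s := fun f => by
    rw [← Finset.sum_add_distrib]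
    refine Finset.sum_congr rfl fun s _ => ?_
    rw [← add_smul]
    congr 1
    rcases z1 i (par s) with h | h
    · rw [if_pos h, if_neg (fun h' => z2 i (h'.symm.trans h)), add_zero]
    · rw [if_neg (fun h' => z2 i (h.symm.trans h')), if_pos h, zero_add]
  refine ⟨fun hx s hs => ?_, fun h => ?_⟩
  · have he := hsplit (c.repr x)
    rw [c.sum_repr] at he
    have h0 : ∑ t, (if par t = i + 1 then c.repr x t else 0) • c t = 0 := by
      refine eq_zero_of_mem_of_mem ?_ (hmem _ (i + 1))
      rw [eq_sub_of_add_eq' he.symm]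
      exact sub_mem hx (hmem _ i)
    have h4 := congrArg (fun y => c.repr y s) h0
    simp only [map_zero, Finsupp.zero_apply, Module.Basis.repr_sum_self] at h4
    rwa [if_pos ((z1 i (par s)).resolve_left hs)] at h4
  · rw [← c.sum_repr x]
    refine Submodule.sum_mem _ fun s _ => ?_
    by_cases hs : par s = i
    · exact Submodule.smul_mem _ _ (hs ▸ hc s)
    · rw [h s hs, zero_smul]; exact Submodule.zero_mem _

end Parity

section Basis

variable {R : Type u} [CommRing R] {M : Type v} [AddCommGroup M] [Module R M]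
variable {n : ℕ} (b : Module.Basis (Fin n) R M) (Q : QuadraticForm R M)

/-- the parity of a basis index -/
def par (S : Finset (Fin n)) : ZMod 2 := S.card

lemma cBasis_eq (S : Finset (Fin n)) : cBasis b Q S = (toExt b Q).symm (mono b S) := by
  rw [cBasis, Module.Basis.map_apply, basis_eq_mono]

lemma cBasis_mem (S : Finset (Fin n)) : cBasis b Q S ∈ evenOdd Q (par S) := by
  rw [cBasis_eq, toExt, changeFormEquiv_symm]
  rw [changeFormEquiv_apply]
  refine changeForm_mem _ ?_
  have := prod_map_ι_mem (Q := (0 : QuadraticForm R M)) (S.sort.map b)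
  rw [List.map_map, List.length_map, Finset.length_sort] at this
  exact this

lemma cBasis_empty : cBasis b Q ∅ = 1 := by
  rw [cBasis_eq, LinearEquiv.symm_apply_eq, toExt_one]
  simp [mono]

lemma cBasis_singleton (i : Fin n) : cBasis b Q {i} = ι Q (b i) := by
  rw [cBasis_eq, LinearEquiv.symm_apply_eq, toExt, changeFormEquiv_apply, changeForm_ι]
  simp [mono]

variable [Module.Free R M] (A : Type u) [CommRing A] [Algebra R A]

local notation "Q'" => QuadGrp.baseChangeForm A Q

/-- a homogeneous basis of the base change -/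
noncomputable def cBA : Module.Basis (Finset (Fin n)) A (CliffordAlgebra Q') :=
  (Algebra.TensorProduct.basis A (cBasis b Q)).map (bcEquiv A Q).toLinearEquiv

lemma cBA_apply (S : Finset (Fin n)) : cBA b Q A S = Ψ A Q (cBasis b Q S) := by
  rw [cBA, Module.Basis.map_apply, Algebra.TensorProduct.basis_apply]
  exact bcEquiv_one_tmul A Q _

lemma cBA_mem (S : Finset (Fin n)) : cBA b Q A S ∈ evenOdd Q' (par S) := by
  rw [cBA_apply]; exact Ψ_mem A Q (cBasis_mem b Q S)

lemma cBA_empty : cBA b Q A ∅ = 1 := by rw [cBA_apply, cBasis_empty, map_one]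

lemma cBA_singleton (i : Fin n) : cBA b Q A {i} = ι Q' (Algebra.TensorProduct.basis A b i) := by
  rw [cBA_apply, cBasis_singleton, Ψ_ι, Algebra.TensorProduct.basis_apply]

lemma mem_range_ι_iff (x : CliffordAlgebra Q') :
    x ∈ LinearMap.range (ι Q') ↔ ∀ S : Finset (Fin n), S.card ≠ 1 → (cBA b Q A).repr x S = 0 := by
  refine ⟨?_, fun h => ?_⟩
  · rintro ⟨w, rfl⟩ S hS
    rw [← (Algebra.TensorProduct.basis A b).sum_repr w]
    simp only [map_sum, map_smul, Finsupp.coe_finsetSum, Finset.sum_apply, Finsupp.smul_apply, smul_eq_mul,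
      ← cBA_singleton, Module.Basis.repr_self, Finsupp.single_apply]
    refine Finset.sum_eq_zero fun i _ => ?_
    rw [if_neg (fun he => hS (by rw [← he, Finset.card_singleton])), mul_zero]
  · rw [← (cBA b Q A).sum_repr x]
    refine Submodule.sum_mem _ fun S _ => ?_
    by_cases hS : S.card = 1
    · obtain ⟨i, rfl⟩ := Finset.card_eq_one.mp hS
      rw [cBA_singleton]
      exact Submodule.smul_mem _ _ ⟨_, rfl⟩
    · rw [h S hS, zero_smul]; exact Submodule.zero_mem _

end Basis

section CMap

variable {R : Type u} [CommRing R] {M : Type v} [AddCommGroup M] [Module R M] [Module.Free R M]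
variable {n : ℕ} (b : Module.Basis (Fin n) R M) (Q : QuadraticForm R M)
variable {A B : Type u} [CommRing A] [Algebra R A] [CommRing B] [Algebra R B] (φ : A →ₐ[R] B)

/-- a ring map of Clifford algebras over `φ ⊗ 1` -/
structure IsOver (F : CliffordAlgebra (QuadGrp.baseChangeForm A Q) →+* CliffordAlgebra (QuadGrp.baseChangeForm B Q)) :
    Prop where
  map_ι : ∀ v : A ⊗[R] M, F (ι _ v) = ι _ (LinearMap.rTensor M φ.toLinearMap v)
  map_algebraMap : ∀ a : A, F (algebraMap A _ a) = algebraMap B _ (φ a)

/-- the ring map of Clifford algebras induced by `φ` -/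
noncomputable def cmap : CliffordAlgebra (QuadGrp.baseChangeForm A Q) →+*
    CliffordAlgebra (QuadGrp.baseChangeForm B Q) :=
  (bcEquiv B Q).toRingEquiv.toRingHom.comp
    ((Algebra.TensorProduct.map φ (AlgHom.id R (CliffordAlgebra Q))).toRingHom.comp
      (bcEquiv A Q).symm.toRingEquiv.toRingHom)

lemma cmap_bcEquiv (x : A ⊗[R] CliffordAlgebra Q) :
    cmap Q φ (bcEquiv A Q x) = bcEquiv B Q (Algebra.TensorProduct.map φ (AlgHom.id R _) x) := by
  change bcEquiv B Q (Algebra.TensorProduct.map φ (AlgHom.id R _) ((bcEquiv A Q).symm (bcEquiv A Q x))) = _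
  rw [AlgEquiv.symm_apply_apply]

lemma isOver_cmap : IsOver Q φ (cmap Q φ) where
  map_ι v := by
    induction v using TensorProduct.induction_on with
    | zero => simp
    | add v w hv hw => rw [map_add, map_add, map_add, map_add, hv, hw]
    | tmul a v =>
      have key : ∀ (C : Type u) [CommRing C] [Algebra R C] (c : C),
          ι (QuadGrp.baseChangeForm C Q) (c ⊗ₜ[R] v) = bcEquiv C Q (c ⊗ₜ ι Q v) := fun C _ _ c => by
        rw [show (c ⊗ₜ[R] v : C ⊗[R] M) = c • ((1 : C) ⊗ₜ v) by rw [smul_tmul', smul_eq_mul, mul_one],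
          show (c ⊗ₜ[R] ι Q v : C ⊗[R] CliffordAlgebra Q) = c • ((1 : C) ⊗ₜ ι Q v) by
            rw [smul_tmul', smul_eq_mul, mul_one],
          map_smul, map_smul, bcEquiv_one_tmul, Ψ_ι]
      rw [LinearMap.rTensor_tmul, key A a, key B (φ.toLinearMap a), cmap_bcEquiv,
        Algebra.TensorProduct.map_tmul]
      rfl
  map_algebraMap a := by
    rw [← (bcEquiv A Q).commutes a, cmap_bcEquiv, Algebra.TensorProduct.algebraMap_apply,
      Algebra.TensorProduct.map_tmul, map_one, ← (bcEquiv B Q).commutes (φ a), Algebra.TensorProduct.algebraMap_apply]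
    rfl

variable {Q φ}
variable {F : CliffordAlgebra (QuadGrp.baseChangeForm A Q) →+* CliffordAlgebra (QuadGrp.baseChangeForm B Q)}

lemma IsOver.smul (hF : IsOver Q φ F) (a : A) (x : CliffordAlgebra (QuadGrp.baseChangeForm A Q)) :
    F (a • x) = φ a • F x := by
  rw [Algebra.smul_def, map_mul, hF.map_algebraMap, ← Algebra.smul_def]

lemma IsOver.map_Ψ (hF : IsOver Q φ F) (x : CliffordAlgebra Q) : F (Ψ A Q x) = Ψ B Q x := by
  induction x using CliffordAlgebra.induction with
  | algebraMap r =>
    rw [AlgHom.commutes, AlgHom.commutes, IsScalarTower.algebraMap_apply R A, hF.map_algebraMap, AlgHom.commutes,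
      ← IsScalarTower.algebraMap_apply R B]
  | ι v => rw [Ψ_ι, Ψ_ι, hF.map_ι, LinearMap.rTensor_tmul, AlgHom.toLinearMap_apply, map_one]
  | mul x y hx hy => rw [map_mul, map_mul, map_mul, hx, hy]
  | add x y hx hy => rw [map_add, map_add, map_add, hx, hy]

/-- coordinates are natural -/
lemma IsOver.repr (hF : IsOver Q φ F) (x : CliffordAlgebra (QuadGrp.baseChangeForm A Q)) (S : Finset (Fin n)) :
    (cBA b Q B).repr (F x) S = φ ((cBA b Q A).repr x S) := by
  conv_lhs => rw [← (cBA b Q A).sum_repr x]
  simp only [map_sum, hF.smul, cBA_apply, hF.map_Ψ]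
  simp only [← cBA_apply, Module.Basis.repr_self, map_smul, Finsupp.coe_finsetSum, Finset.sum_apply,
    Finsupp.smul_apply, Finsupp.single_apply, smul_eq_mul]
  simp

lemma IsOver.star (hF : IsOver Q φ F) (x : CliffordAlgebra (QuadGrp.baseChangeForm A Q)) :
    F (star x) = star (F x) := by
  induction x using CliffordAlgebra.induction with
  | algebraMap r => rw [star_algebraMap, hF.map_algebraMap, star_algebraMap]
  | ι v => rw [star_ι, map_neg, hF.map_ι, star_ι]
  | mul x y hx hy => rw [star_mul, map_mul, map_mul, hx, hy, star_mul]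
  | add x y hx hy => rw [star_add, map_add, map_add, hx, hy, star_add]

lemma IsOver.ker_iff (hF : IsOver Q φ F) (x : CliffordAlgebra (QuadGrp.baseChangeForm A Q)) :
    F x = 0 ↔ ∀ S, φ ((cBA b Q A).repr x S) = 0 := by
  refine ⟨fun h S => by rw [← hF.repr b, h]; simp, fun h => ?_⟩
  refine (cBA b Q B).repr.injective (Finsupp.ext fun S => ?_)
  rw [hF.repr b, h S, map_zero, Finsupp.zero_apply]

end CMap

end Groth.Agent.H21Clif
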