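import Groth.Agent.H21Clif.PinLift
import Groth.Agent.H21Rep.Basic

/-!
# Clifford and Pin group schemes as solution schemes of finitely many equations
-/

universe u

namespace Groth.Agent.H21Clif

open CategoryTheory AlgebraicGeometry CliffordAlgebra TensorProduct

set_option linter.style.haveILetI false
set_option linter.unusedSectionVars false

section ModI

variable {A : Type u} [CommRing A] {M : Type u} [AddCommGroup M] [Module A M] [Module.Free A M]
variable {n : ℕ} {Q : QuadraticForm A M} {I : Ideal A}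
variable {ι' : Type*} [Fintype ι'] (c : Module.Basis ι' A (CliffordAlgebra Q))

lemma Ψ_eq_zero_of_coords {z : CliffordAlgebra Q} (h : ∀ s, c.repr z s ∈ I) : Ψ (A ⧸ I) Q z = 0 := by
  rw [← c.sum_repr z, map_sum]
  refine Finset.sum_eq_zero fun s _ => ?_
  rw [map_smul, ← algebraMap_smul (A ⧸ I) (c.repr z s), Ideal.Quotient.algebraMap_eq,
    Ideal.Quotient.eq_zero_iff_mem.mpr (h s)]
  exact zero_smul (A ⧸ I) (Ψ (A ⧸ I) Q (c s))

lemma coords_of_Ψ_eq_zero (b : Module.Basis (Fin n) A M) {z : CliffordAlgebra Q} (h : Ψ (A ⧸ I) Q z = 0)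
    (s : ι') : c.repr z s ∈ I := by
  have hd := fun T => Ideal.Quotient.eq_zero_iff_mem.mp ((Ψ_eq_zero_iff b (A ⧸ I) z).mp h T)
  rw [← (cBasis b Q).sum_repr z, map_sum, Finsupp.coe_finsetSum, Finset.sum_apply]
  refine Submodule.sum_mem _ fun T _ => ?_
  rw [map_smul, Finsupp.smul_apply, smul_eq_mul]
  exact I.mul_mem_right _ (hd T)

lemma exists_part_of_coords (P : ι' → Prop) [DecidablePred P] {z : CliffordAlgebra Q}
    (hz : ∀ s, ¬ P s → c.repr z s ∈ I) (W : Submodule A (CliffordAlgebra Q)) (hW : ∀ s, P s → c s ∈ W) :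
    ∃ z' ∈ W, Ψ (A ⧸ I) Q z = Ψ (A ⧸ I) Q z' := by
  classical
  refine ⟨∑ s, (if P s then c.repr z s else 0) • c s, Submodule.sum_mem _ fun s _ => ?_, ?_⟩
  · split_ifs with h
    · exact Submodule.smul_mem _ _ (hW s h)
    · rw [zero_smul]; exact Submodule.zero_mem _
  · rw [← sub_eq_zero, ← map_sub]
    refine Ψ_eq_zero_of_coords c fun s => ?_
    rw [map_sub, Finsupp.sub_apply, Module.Basis.repr_sum_self]
    split_ifs with h
    · rw [sub_self]; exact I.zero_mem
    · rw [sub_zero]; exact hz s h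

end ModI

section Uniq

variable {A : Type u} [CommRing A] {M : Type u} [AddCommGroup M] [Module A M] {n : ℕ}
variable (b : Module.Basis (Fin n) A M) {Q : QuadraticForm A M}

include b in
/-- the idempotent of a locally homogeneous unit is unique -/
lemma idem_unique (u : (CliffordAlgebra Q)ˣ) {e e' : A}
    (h0 : e • (u : CliffordAlgebra Q) ∈ evenOdd Q 0) (h1 : (1 - e) • (u : CliffordAlgebra Q) ∈ evenOdd Q 1)
    (h0' : e' • (u : CliffordAlgebra Q) ∈ evenOdd Q 0) (h1' : (1 - e') • (u : CliffordAlgebra Q) ∈ evenOdd Q 1) :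
    e = e' := by
  have key : ∀ a c : A, a • (u : CliffordAlgebra Q) ∈ evenOdd Q 0 → (1 - c) • (u : CliffordAlgebra Q) ∈ evenOdd Q 1 →
      a * (1 - c) = 0 := fun a c ha hc => by
    have h : (a * (1 - c)) • (u : CliffordAlgebra Q) = 0 :=
      eq_zero_of_mem_of_mem (i := 0) (by rw [mul_comm, mul_smul]; exact Submodule.smul_mem _ _ ha)
        (by rw [mul_smul]; exact Submodule.smul_mem _ _ hc)
    have h2 := congrArg (· * (↑u⁻¹ : CliffordAlgebra Q)) h
    simp only [smul_mul_assoc, Units.mul_inv, zero_mul, ← Algebra.algebraMap_eq_smul_one] at h2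
    exact algebraMap_injective b Q (h2.trans (map_zero _).symm)
  linear_combination key e e' h0 h1' - key e' e h0' h1

end Uniq

variable {R : Type u} [CommRing R] {n : ℕ} (Q : QuadraticForm R (Fin n → R))

/-- the unknowns: coordinates of a unit, of its inverse, and the parity idempotent -/
abbrev cIdx (n : ℕ) : Type := Finset (Fin n) ⊕ Finset (Fin n) ⊕ Unit

/-- the equations' indices -/
abbrev cEqIdx (n : ℕ) : Type :=
  Finset (Fin n) ⊕ Finset (Fin n) ⊕ (Fin n × Finset (Fin n)) ⊕ (Fin n × Finset (Fin n)) ⊕ Unit ⊕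
    Finset (Fin n) ⊕ Finset (Fin n)

variable (A : Type u) [CommRing A] [Algebra R A]

local notation "QA" => QuadGrp.baseChangeForm A Q
local notation "cB" => cBA (Pi.basisFun R (Fin n)) Q A
local notation "bM" => Algebra.TensorProduct.basis A (Pi.basisFun R (Fin n))

/-- the element with given coordinates -/
noncomputable def el (x : Finset (Fin n) → A) : CliffordAlgebra QA := ∑ S, x S • cB S

lemma repr_el (x : Finset (Fin n) → A) (S : Finset (Fin n)) : (cB).repr (el Q A x) S = x S := by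
  rw [el, Module.Basis.repr_sum_self]

lemma el_repr (z : CliffordAlgebra QA) : el Q A (fun S => (cB).repr z S) = z := (cB).sum_repr z

/-- the element underlying a tuple of unknowns -/
noncomputable def uOf (x : cIdx n → A) : CliffordAlgebra QA := el Q A fun S => x (Sum.inl S)

/-- the inverse underlying a tuple of unknowns -/
noncomputable def vOf (x : cIdx n → A) : CliffordAlgebra QA := el Q A fun S => x (Sum.inr (Sum.inl S))

/-- the equations -/
noncomputable def cliffF (pin : Bool) (x : cIdx n → A) : cEqIdx n → A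
  | .inl S => (cB).repr (uOf Q A x * vOf Q A x - 1) S
  | .inr (.inl S) => (cB).repr (vOf Q A x * uOf Q A x - 1) S
  | .inr (.inr (.inl (j, S))) =>
      if S.card = 1 then 0 else (cB).repr (uOf Q A x * ι QA (bM j) * vOf Q A x) S
  | .inr (.inr (.inr (.inl (j, S)))) =>
      if S.card = 1 then 0 else (cB).repr (vOf Q A x * ι QA (bM j) * uOf Q A x) S
  | .inr (.inr (.inr (.inr (.inl _)))) => x (.inr (.inr ())) * x (.inr (.inr ())) - x (.inr (.inr ()))
  | .inr (.inr (.inr (.inr (.inr (.inl S))))) =>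
      if par S = 0 then (1 - x (.inr (.inr ()))) * x (.inl S) else x (.inr (.inr ())) * x (.inl S)
  | .inr (.inr (.inr (.inr (.inr (.inr S))))) =>
      if pin then (cB).repr (star (uOf Q A x) * uOf Q A x - 1) S else 0

omit A in
lemma el_map {A B : Type u} [CommRing A] [Algebra R A] [CommRing B] [Algebra R B] (φ : A →ₐ[R] B)
    (x : Finset (Fin n) → A) : cmap Q φ (el Q A x) = el Q B (φ ∘ x) := by
  rw [el, el, map_sum]
  refine Finset.sum_congr rfl fun S _ => ?_
  rw [(isOver_cmap Q φ).smul, cBA_apply, cBA_apply, (isOver_cmap Q φ).map_Ψ]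
  rfl

/-- the Clifford (`pin = false`) or Pin (`pin = true`) equations -/
noncomputable def cliffEqs (pin : Bool) : H21Rep.Eqs R (cIdx n) (cEqIdx n) where
  F A _ _ x k := cliffF Q A pin x k
  map A B _ _ _ _ φ x k := by
    have hu : cmap Q φ (uOf Q A x) = uOf Q B (φ ∘ x) := el_map Q φ _
    have hv : cmap Q φ (vOf Q A x) = vOf Q B (φ ∘ x) := el_map Q φ _
    have hb : ∀ j, cmap Q φ (ι _ (Algebra.TensorProduct.basis A (Pi.basisFun R (Fin n)) j)) =
        ι _ (Algebra.TensorProduct.basis B (Pi.basisFun R (Fin n)) j) := fun j => by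
      rw [(isOver_cmap Q φ).map_ι, Algebra.TensorProduct.basis_apply, Algebra.TensorProduct.basis_apply,
        LinearMap.rTensor_tmul, AlgHom.toLinearMap_apply, map_one]
    have hr := fun z S => ((isOver_cmap Q φ).repr (Pi.basisFun R (Fin n)) z S).symm
    rcases k with S | S | ⟨j, S⟩ | ⟨j, S⟩ | _ | S | S
    · simp only [cliffF]
      rw [hr, map_sub (cmap Q φ), map_mul (cmap Q φ), map_one (cmap Q φ), hu, hv]
    · simp only [cliffF]
      rw [hr, map_sub (cmap Q φ), map_mul (cmap Q φ), map_one (cmap Q φ), hu, hv]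
    · simp only [cliffF]
      split_ifs
      · exact map_zero φ
      · rw [hr, map_mul (cmap Q φ), map_mul (cmap Q φ), hu, hv, hb]
    · simp only [cliffF]
      split_ifs
      · exact map_zero φ
      · rw [hr, map_mul (cmap Q φ), map_mul (cmap Q φ), hu, hv, hb]
    · simp only [cliffF, map_sub, map_mul, Function.comp_apply]
    · simp only [cliffF]
      split_ifs <;> simp only [map_sub, map_mul, map_one, Function.comp_apply]
    · simp only [cliffF]
      split_ifs
      · rw [hr, map_sub (cmap Q φ), map_mul (cmap Q φ), map_one (cmap Q φ), (isOver_cmap Q φ).star, hu]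
      · exact map_zero φ

lemma forall_eqs_iff (pin : Bool) (x : cIdx n → A) :
    (∀ k, (cliffEqs Q pin).F A x k = 0) ↔
      uOf Q A x * vOf Q A x = 1 ∧ vOf Q A x * uOf Q A x = 1 ∧
      (∀ j, uOf Q A x * ι QA (bM j) * vOf Q A x ∈ LinearMap.range (ι QA)) ∧
      (∀ j, vOf Q A x * ι QA (bM j) * uOf Q A x ∈ LinearMap.range (ι QA)) ∧
      IsIdempotentElem (x (.inr (.inr ()))) ∧
      (x (.inr (.inr ())) • uOf Q A x ∈ evenOdd QA 0 ∧
        (1 - x (.inr (.inr ()))) • uOf Q A x ∈ evenOdd QA 1) ∧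
      (pin = true → star (uOf Q A x) * uOf Q A x = 1) := by
  have hrange : ∀ z : CliffordAlgebra QA,
      z ∈ LinearMap.range (ι QA) ↔ ∀ S : Finset (Fin n), (if S.card = 1 then 0 else (cB).repr z S) = 0 := fun z => by
    rw [mem_range_ι_iff (Pi.basisFun R (Fin n))]
    refine forall_congr' fun S => ?_
    split_ifs with h
    · simp [h]
    · simp [h]
  have hzero : ∀ z : CliffordAlgebra QA, z = 0 ↔ ∀ S, (cB).repr z S = 0 := fun z =>
    ⟨fun h S => by rw [h, map_zero, Finsupp.zero_apply], fun h => (cB).repr.injective (Finsupp.ext fun S => by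
      rw [h S, map_zero, Finsupp.zero_apply])⟩
  have hpar : (x (.inr (.inr ())) • uOf Q A x ∈ evenOdd QA 0 ∧
      (1 - x (.inr (.inr ()))) • uOf Q A x ∈ evenOdd QA 1) ↔ ∀ S : Finset (Fin n),
        (if par S = 0 then (1 - x (.inr (.inr ()))) * x (.inl S) else x (.inr (.inr ())) * x (.inl S)) = 0 := by
    rw [mem_evenOdd_iff (cB) par (cBA_mem _ Q A), mem_evenOdd_iff (cB) par (cBA_mem _ Q A), ← forall_and]
    refine forall_congr' fun S => ?_
    simp only [map_smul, Finsupp.smul_apply, uOf, repr_el, smul_eq_mul]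
    have h01 : ∀ i : ZMod 2, i ≠ 0 → ¬ i ≠ 1 := by decide
    split_ifs with h
    · simp [h]
    · exact ⟨fun hh => hh.1 h, fun hh => ⟨fun _ => hh, fun h1 => absurd h1 (h01 _ h)⟩⟩
  simp only [cliffEqs, Sum.forall, cliffF, Prod.forall, ← sub_eq_zero (a := uOf Q A x * vOf Q A x),
    ← sub_eq_zero (a := vOf Q A x * uOf Q A x), ← sub_eq_zero (a := star (uOf Q A x) * uOf Q A x),
    hzero (uOf Q A x * vOf Q A x - 1), hzero (vOf Q A x * uOf Q A x - 1),
    hzero (star (uOf Q A x) * uOf Q A x - 1), hrange, hpar, IsIdempotentElem, forall_const, sub_eq_zero]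
  cases pin <;> simp

/-- membership in the points of `GPin` or `Pin` -/
noncomputable def cliffGrp (pin : Bool) : Subgroup (CliffordAlgebra QA)ˣ :=
  if pin then QuadGrp.Pin QA else QuadGrp.GPin QA

lemma mem_cliffGrp_iff (pin : Bool) (u : (CliffordAlgebra QA)ˣ) :
    u ∈ cliffGrp Q A pin ↔ u ∈ QuadGrp.GPin QA ∧ (pin = true → star (u : CliffordAlgebra QA) * u = 1) := by
  cases pin
  · simp [cliffGrp]
  · simp only [cliffGrp, if_true, forall_const]; rfl

/-- the parity idempotent of a point -/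
noncomputable def idemOf (pin : Bool) (u : ↥(cliffGrp Q A pin)) : A :=
  ((mem_cliffGrp_iff Q A pin u.1).mp u.2).1.2.choose

lemma idemOf_spec (pin : Bool) (u : ↥(cliffGrp Q A pin)) :
    IsIdempotentElem (idemOf Q A pin u) ∧
      idemOf Q A pin u • (u.1 : CliffordAlgebra QA) ∈ evenOdd QA 0 ∧
      (1 - idemOf Q A pin u) • (u.1 : CliffordAlgebra QA) ∈ evenOdd QA 1 :=
  ((mem_cliffGrp_iff Q A pin u.1).mp u.2).1.2.choose_spec

/-- coordinates of a point -/
noncomputable def cCoord (pin : Bool) (u : ↥(cliffGrp Q A pin)) : cIdx n → A :=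
  Sum.elim (fun S => (cB).repr (u.1 : CliffordAlgebra QA) S)
    (Sum.elim (fun S => (cB).repr (↑u.1⁻¹ : CliffordAlgebra QA) S) fun _ => idemOf Q A pin u)

lemma uOf_cCoord (pin : Bool) (u : ↥(cliffGrp Q A pin)) : uOf Q A (cCoord Q A pin u) = u.1 := el_repr Q A _

lemma vOf_cCoord (pin : Bool) (u : ↥(cliffGrp Q A pin)) : vOf Q A (cCoord Q A pin u) = ↑u.1⁻¹ := el_repr Q A _

lemma cCoord_sol (pin : Bool) (u : ↥(cliffGrp Q A pin)) :
    ∀ k, (cliffEqs Q pin).F A (cCoord Q A pin u) k = 0 := by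
  obtain ⟨⟨hG, -⟩, hP⟩ := (mem_cliffGrp_iff Q A pin u.1).mp u.2
  obtain ⟨g, -, hg⟩ := exists_isometry_of_mem_GPin' bM hG
  obtain ⟨g', -, hg'⟩ := exists_isometry_of_mem_GPin' bM ((QuadGrp.GPin' QA).inv_mem hG)
  rw [forall_eqs_iff, uOf_cCoord, vOf_cCoord]
  refine ⟨Units.mul_inv _, Units.inv_mul _, fun j => ⟨_, (hg _).symm⟩, fun j => ⟨g' (bM j), ?_⟩,
    (idemOf_spec Q A pin u).1, (idemOf_spec Q A pin u).2, hP⟩
  rw [← hg', inv_inv]

/-- the points are the solutions -/
noncomputable def cliffEquiv (pin : Bool) :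
    ↥(cliffGrp Q A pin) ≃ {x : cIdx n → A // ∀ k, (cliffEqs Q pin).F A x k = 0} :=
  Equiv.ofBijective (fun u => ⟨cCoord Q A pin u, cCoord_sol Q A pin u⟩)
    ⟨fun u u' h => by
      refine Subtype.ext (Units.ext ?_)
      rw [← uOf_cCoord, ← uOf_cCoord]
      exact congrArg (fun x => uOf Q A x.1) h,
    fun ⟨x, hx⟩ => by
      obtain ⟨h1, h2, h3, h4, he, hp, hP⟩ := (forall_eqs_iff Q A pin x).mp hx
      let u : (CliffordAlgebra QA)ˣ := ⟨uOf Q A x, vOf Q A x, h1, h2⟩
      have hconj : ∀ (a a' : CliffordAlgebra QA), (∀ j, a * ι QA (bM j) * a' ∈ LinearMap.range (ι QA)) →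
          ∀ w, a * ι QA w * a' ∈ LinearMap.range (ι QA) := fun a a' h w => by
        rw [← (bM).sum_repr w]
        simp only [map_sum, map_smul, Finset.mul_sum, Finset.sum_mul, mul_smul_comm, smul_mul_assoc]
        exact Submodule.sum_mem _ fun j _ => Submodule.smul_mem _ _ (h j)
      have hG : u ∈ QuadGrp.GPin' QA := by
        rw [QuadGrp.mem_GPin']
        refine le_antisymm ?_ ?_
        · rintro _ ⟨_, ⟨w, rfl⟩, rfl⟩
          change ConjAct.toConjAct u • ι QA w ∈ _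
          rw [ConjAct.units_smul_def, ConjAct.ofConjAct_toConjAct]
          exact hconj _ _ h3 w
        · rintro _ ⟨w, rfl⟩
          refine ⟨vOf Q A x * ι QA w * uOf Q A x, hconj _ _ h4 w, ?_⟩
          change ConjAct.toConjAct u • (vOf Q A x * ι QA w * uOf Q A x) = _
          rw [ConjAct.units_smul_def, ConjAct.ofConjAct_toConjAct]
          change uOf Q A x * (vOf Q A x * ι QA w * uOf Q A x) * vOf Q A x = _
          simp only [← mul_assoc, h1, one_mul]
          rw [mul_assoc, h1, mul_one]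
      have hmem : u ∈ cliffGrp Q A pin := (mem_cliffGrp_iff Q A pin u).mpr ⟨⟨hG, _, he, hp⟩, hP⟩
      refine ⟨⟨u, hmem⟩, Subtype.ext (funext fun k => ?_)⟩
      rcases k with S | S | ⟨⟩
      · exact repr_el Q A _ S
      · exact repr_el Q A _ S
      · exact idem_unique bM u (idemOf_spec Q A pin ⟨u, hmem⟩).2.1 (idemOf_spec Q A pin ⟨u, hmem⟩).2.2 hp.1 hp.2⟩

omit A in
lemma cCoord_natural {A B : Type u} [CommRing A] [Algebra R A] [CommRing B] [Algebra R B] (φ : A →ₐ[R] B)
    (pin : Bool) (u : ↥(cliffGrp Q A pin)) (u' : ↥(cliffGrp Q B pin))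
    (H : (u'.1 : CliffordAlgebra (QuadGrp.baseChangeForm B Q)) = cmap Q φ u.1) :
    cCoord Q B pin u' = φ ∘ cCoord Q A pin u := by
  have hsol := (cliffEqs Q pin).sol_map φ (cCoord_sol Q A pin u)
  have hu : uOf Q B (φ ∘ cCoord Q A pin u) = u'.1 := by
    rw [H, ← uOf_cCoord Q A pin u, uOf, uOf, el_map]
    rfl
  have hinv : (↑u'.1⁻¹ : CliffordAlgebra (QuadGrp.baseChangeForm B Q)) = cmap Q φ ↑u.1⁻¹ :=
    (Units.inv_eq_of_mul_eq_one_right (by rw [H, ← map_mul, Units.mul_inv, map_one]))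
  funext k
  rcases k with S | S | ⟨⟩
  · simp only [cCoord, Sum.elim_inl, Function.comp_apply, H, (isOver_cmap Q φ).repr]
  · simp only [cCoord, Sum.elim_inl, Sum.elim_inr, Function.comp_apply, hinv, (isOver_cmap Q φ).repr]
  · obtain ⟨-, -, -, -, -, hp, -⟩ := (forall_eqs_iff Q B pin _).mp hsol
    rw [hu] at hp
    exact idem_unique (Algebra.TensorProduct.basis B (Pi.basisFun R (Fin n))) u'.1
      (idemOf_spec Q B pin u').2.1 (idemOf_spec Q B pin u').2.2 hp.1 hp.2

omit A in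
/-- the equations lift, given formal smoothness on points -/
lemma cliff_lifts (pin : Bool)
    (hlift : ∀ (A : Type u) [CommRing A] [Algebra R A] (I : Ideal A), I * I = ⊥ →
      ∀ ū : (CliffordAlgebra (QuadGrp.baseChangeForm (A ⧸ I) (QuadGrp.baseChangeForm A Q)))ˣ,
        ū ∈ QuadGrp.GPin (QuadGrp.baseChangeForm (A ⧸ I) (QuadGrp.baseChangeForm A Q)) →
        (pin = true → star (ū : CliffordAlgebra (QuadGrp.baseChangeForm (A ⧸ I) (QuadGrp.baseChangeForm A Q))) * (ū : CliffordAlgebra (QuadGrp.baseChangeForm (A ⧸ I) (QuadGrp.baseChangeForm A Q))) = 1) →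
        ∃ u ∈ cliffGrp Q A pin, Ψ (A ⧸ I) (QuadGrp.baseChangeForm A Q) (u : CliffordAlgebra _) = ū) :
    (cliffEqs Q pin).Lifts := by
  intro A _ _ I hI x hx
  have hI' : I * I = ⊥ := by rw [← hI, pow_two]
  choose a ha using fun k => Ideal.Quotient.mk_surjective (I := I) (x k)
  have hA : ∀ k, (cliffEqs Q pin).F A a k ∈ I := fun k => by
    rw [← Ideal.Quotient.eq_zero_iff_mem]
    refine ((cliffEqs Q pin).map A (A ⧸ I) (Ideal.Quotient.mkₐ R I) a k).trans ?_
    exact (congrArg (fun y => (cliffEqs Q pin).F (A ⧸ I) y k) (funext ha)).trans (hx k)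
  let Qa := QuadGrp.baseChangeForm A Q
  let ba := Algebra.TensorProduct.basis A (Pi.basisFun R (Fin n))
  let c := cBA (Pi.basisFun R (Fin n)) Q A
  let bB := Algebra.TensorProduct.basis (A ⧸ I) ba
  let ψ := Ψ (A ⧸ I) Qa
  let u₀ := uOf Q A a
  let v₀ := vOf Q A a
  let e₀ := a (.inr (.inr ()))
  have h1 : ψ u₀ * ψ v₀ = 1 := by
    rw [← map_mul, ← sub_eq_zero, ← map_one ψ, ← map_sub]
    exact Ψ_eq_zero_of_coords c fun S => hA (.inl S)
  have h2 : ψ v₀ * ψ u₀ = 1 := by
    rw [← map_mul, ← sub_eq_zero, ← map_one ψ, ← map_sub]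
    exact Ψ_eq_zero_of_coords c fun S => hA (.inr (.inl S))
  let ū : (CliffordAlgebra (QuadGrp.baseChangeForm (A ⧸ I) Qa))ˣ := ⟨ψ u₀, ψ v₀, h1, h2⟩
  have hrange : ∀ z : CliffordAlgebra Qa, (∀ S : Finset (Fin n), S.card ≠ 1 → c.repr z S ∈ I) →
      ψ z ∈ LinearMap.range (ι (QuadGrp.baseChangeForm (A ⧸ I) Qa)) := fun z hz => by
    obtain ⟨z', ⟨w, rfl⟩, hzz⟩ := exists_part_of_coords c (fun S => S.card = 1) hz (LinearMap.range (ι Qa))
      fun S hS => by
        obtain ⟨i, rfl⟩ := Finset.card_eq_one.mp hS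
        exact ⟨_, (cBA_singleton _ Q A i).symm⟩
    exact ⟨1 ⊗ₜ w, by rw [show ψ z = ψ (ι Qa w) from hzz, Ψ_ι]⟩
  have h3 : ∀ j, ψ u₀ * ι _ (bB j) * ψ v₀ ∈ LinearMap.range (ι (QuadGrp.baseChangeForm (A ⧸ I) Qa)) := fun j => by
    rw [Algebra.TensorProduct.basis_apply, ← Ψ_ι, ← map_mul, ← map_mul]
    refine hrange _ fun S hS => ?_
    have h := hA (.inr (.inr (.inl (j, S))))
    simp only [cliffEqs, cliffF, if_neg hS] at h
    exact h
  have h4 : ∀ j, ψ v₀ * ι _ (bB j) * ψ u₀ ∈ LinearMap.range (ι (QuadGrp.baseChangeForm (A ⧸ I) Qa)) := fun j => by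
    rw [Algebra.TensorProduct.basis_apply, ← Ψ_ι, ← map_mul, ← map_mul]
    refine hrange _ fun S hS => ?_
    have h := hA (.inr (.inr (.inr (.inl (j, S)))))
    simp only [cliffEqs, cliffF, if_neg hS] at h
    exact h
  let ē : A ⧸ I := Ideal.Quotient.mk I e₀
  have hē : IsIdempotentElem ē := by
    change ē * ē = ē
    rw [← map_mul]
    exact Ideal.Quotient.eq.mpr (hA (.inr (.inr (.inr (.inr (.inl ()))))))
  have hpar : ∀ (d : A) (i : ZMod 2), (∀ S, par S ≠ i → d * a (.inl S) ∈ I) →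
      Ideal.Quotient.mk I d • ψ u₀ ∈ evenOdd (QuadGrp.baseChangeForm (A ⧸ I) Qa) i := fun d i hd => by
    obtain ⟨z', hz', hzz⟩ := exists_part_of_coords c (fun S => par S = i) (z := d • u₀)
      (fun S hS => by simpa [c, u₀, uOf, repr_el] using hd S hS) (evenOdd Qa i)
      fun S hS => hS ▸ cBA_mem _ Q A S
    rw [← Ideal.Quotient.algebraMap_eq, algebraMap_smul, ← map_smul, show ψ (d • u₀) = ψ z' from hzz]
    exact Ψ_mem _ Qa hz'
  have hp0 : ē • ψ u₀ ∈ evenOdd (QuadGrp.baseChangeForm (A ⧸ I) Qa) 0 := hpar e₀ 0 fun S hS => by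
    have h := hA (.inr (.inr (.inr (.inr (.inr (.inl S))))))
    simp only [cliffEqs, cliffF, if_neg hS] at h
    exact h
  have hp1 : (1 - ē) • ψ u₀ ∈ evenOdd (QuadGrp.baseChangeForm (A ⧸ I) Qa) 1 := by
    rw [← map_one (Ideal.Quotient.mk I), ← map_sub]
    refine hpar _ 1 fun S hS => ?_
    have h := hA (.inr (.inr (.inr (.inr (.inr (.inl S))))))
    have h01 : ∀ i : ZMod 2, i ≠ 1 → i = 0 := by decide
    simp only [cliffEqs, cliffF, if_pos (h01 _ hS)] at h
    exact h
  have hūG : ū ∈ QuadGrp.GPin (QuadGrp.baseChangeForm (A ⧸ I) Qa) := by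
    refine ⟨?_, ē, hē, hp0, hp1⟩
    have hconj : ∀ (p q : CliffordAlgebra (QuadGrp.baseChangeForm (A ⧸ I) Qa)),
        (∀ j, p * ι _ (bB j) * q ∈ LinearMap.range (ι (QuadGrp.baseChangeForm (A ⧸ I) Qa))) →
        ∀ w, p * ι _ w * q ∈ LinearMap.range (ι (QuadGrp.baseChangeForm (A ⧸ I) Qa)) := fun p q h w => by
      rw [← bB.sum_repr w]
      simp only [map_sum, map_smul, Finset.mul_sum, Finset.sum_mul, mul_smul_comm, smul_mul_assoc]
      exact Submodule.sum_mem _ fun j _ => Submodule.smul_mem _ _ (h j)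
    change ū ∈ QuadGrp.GPin' _
    rw [QuadGrp.mem_GPin']
    refine le_antisymm ?_ ?_
    · rintro _ ⟨_, ⟨w, rfl⟩, rfl⟩
      change ConjAct.toConjAct ū • ι _ w ∈ _
      rw [ConjAct.units_smul_def, ConjAct.ofConjAct_toConjAct]
      exact hconj _ _ h3 w
    · rintro _ ⟨w, rfl⟩
      refine ⟨ψ v₀ * ι _ w * ψ u₀, hconj _ _ h4 w, ?_⟩
      change ConjAct.toConjAct ū • (ψ v₀ * ι _ w * ψ u₀) = _
      rw [ConjAct.units_smul_def, ConjAct.ofConjAct_toConjAct]
      change ψ u₀ * (ψ v₀ * ι _ w * ψ u₀) * ψ v₀ = _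
      simp only [← mul_assoc, h1, one_mul]
      rw [mul_assoc, h1, mul_one]
  have hūP : pin = true → star (ū : CliffordAlgebra (QuadGrp.baseChangeForm (A ⧸ I) Qa)) * (ū : CliffordAlgebra (QuadGrp.baseChangeForm (A ⧸ I) Qa)) = 1 := fun hp => by
    change star (ψ u₀) * ψ u₀ = 1
    rw [← Ψ_star, ← map_mul, ← sub_eq_zero, ← map_one ψ, ← map_sub]
    refine Ψ_eq_zero_of_coords c fun S => ?_
    have h := hA (.inr (.inr (.inr (.inr (.inr (.inr S))))))
    simp only [cliffEqs, cliffF, if_pos hp] at h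
    exact h
  obtain ⟨u, hu, hΨu⟩ := hlift A I hI' ū hūG hūP
  refine ⟨cCoord Q A pin ⟨u, hu⟩, cCoord_sol Q A pin ⟨u, hu⟩, fun k => ?_⟩
  have hz : ∀ z z₀ : CliffordAlgebra Qa, ψ z = ψ z₀ → ∀ S, c.repr z S - c.repr z₀ S ∈ I := fun z z₀ h S => by
    have := coords_of_Ψ_eq_zero c ba (z := z - z₀) (by rw [map_sub]; exact sub_eq_zero.mpr h) S
    rwa [map_sub, Finsupp.sub_apply] at this
  have huinv : ψ ↑u⁻¹ = ψ v₀ := by
    have h : Units.map ψ.toMonoidHom u = ū := Units.ext hΨu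
    exact congrArg (fun y : (CliffordAlgebra (QuadGrp.baseChangeForm (A ⧸ I) Qa))ˣ =>
      (↑y⁻¹ : CliffordAlgebra (QuadGrp.baseChangeForm (A ⧸ I) Qa))) h
  rw [← ha k, Ideal.Quotient.eq]
  rcases k with S | S | ⟨⟩
  · have := hz _ _ (hΨu.trans (show (ū : CliffordAlgebra _) = ψ (uOf Q A a) from rfl)) S
    rwa [uOf, repr_el] at this
  · have := hz _ _ huinv S
    rwa [show v₀ = vOf Q A a from rfl, vOf, repr_el] at this
  · rw [← Ideal.Quotient.eq]
    obtain ⟨he, h0, h1'⟩ := idemOf_spec Q A pin ⟨u, hu⟩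
    have hb : ∀ (d : A) (i : ZMod 2), d • (u : CliffordAlgebra Qa) ∈ evenOdd Qa i →
        Ideal.Quotient.mk I d • (ū : CliffordAlgebra _) ∈ evenOdd (QuadGrp.baseChangeForm (A ⧸ I) Qa) i := fun d i h => by
      rw [← hΨu, ← Ideal.Quotient.algebraMap_eq, algebraMap_smul, ← map_smul]
      exact Ψ_mem _ Qa h
    exact idem_unique bB ū (hb _ 0 h0) (by rw [← map_one (Ideal.Quotient.mk I), ← map_sub]; exact hb _ 1 h1')
      hp0 hp1

omit A in
/-- nondegeneracy after base change -/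
lemma nondeg_baseChange (hQ : (Even n ∧ QuadGrp.IsRegular Q) ∨
      (Odd n ∧ QuadGrp.IsSemiregular (Pi.basisFun R (Fin n)) (LinearEquiv.refl R R) Q))
    (A : Type u) [CommRing A] [Algebra R A] :
    (Even n ∧ QuadGrp.IsRegular (QuadGrp.baseChangeForm A Q)) ∨
      (Odd n ∧ QuadGrp.IsSemiregular (Algebra.TensorProduct.basis A (Pi.basisFun R (Fin n))) (LinearEquiv.refl A A)
        (QuadGrp.baseChangeForm A Q)) :=
  hQ.imp (fun h => ⟨h.1, isRegular_baseChange A Q (Pi.basisFun R (Fin n)) h.2⟩)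
    fun h => ⟨h.1, isSemiregular_baseChange _ h.2 A⟩

omit A in
open scoped MonObj in
/-- the Clifford group scheme is smooth and affine -/
theorem smooth_gpin (hn : 0 < n) (hQ : (Even n ∧ QuadGrp.IsRegular Q) ∨
      (Odd n ∧ QuadGrp.IsSemiregular (Pi.basisFun R (Fin n)) (LinearEquiv.refl R R) Q))
    (G : Over (Spec (CommRingCat.of R))) [GrpObj G] (D : QuadGrp.GPinRep Q G) :
    AlgebraicGeometry.Smooth G.hom ∧ IsAffineHom G.hom := by
  let e := fun (A : Type u) [CommRing A] [Algebra R A] => (D.pts A).toEquiv.trans (cliffEquiv Q A false)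
  have nat : ∀ (A B : Type u) [CommRing A] [Algebra R A] [CommRing B] [Algebra R B] (φ : A →ₐ[R] B)
      (y : QuadGrp.specOver R A ⟶ G), (e B (QuadGrp.specOverMap R φ ≫ y)).1 = φ ∘ (e A y).1 :=
    fun A B _ _ _ _ φ y => cCoord_natural Q φ false _ _
      (D.natural A B φ (cmap Q φ) (isOver_cmap Q φ).map_ι (isOver_cmap Q φ).map_algebraMap y)
  refine ⟨(H21Rep.smooth_iff (cliffEqs Q false) G e nat).mpr (cliff_lifts Q false ?_),
    H21Rep.isAffineHom (cliffEqs Q false) G e nat⟩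
  intro A _ _ I hI ū hū _
  obtain ⟨u, hu, h⟩ := exists_gpin_lift (Algebra.TensorProduct.basis A (Pi.basisFun R (Fin n))) hI hn
    (nondeg_baseChange Q hQ A) hū
  exact ⟨u, hu, h⟩

omit A in
open scoped MonObj in
/-- the Pin group scheme is smooth in odd rank at least three -/
theorem smooth_pin {m : ℕ} (hm : 1 ≤ m) (Q : QuadraticForm R (Fin (2 * m + 1) → R))
    (hQ : QuadGrp.IsSemiregular (Pi.basisFun R (Fin (2 * m + 1))) (LinearEquiv.refl R R) Q)
    (G : Over (Spec (CommRingCat.of R))) [GrpObj G] (D : QuadGrp.PinRep Q G) :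
    AlgebraicGeometry.Smooth G.hom := by
  let e := fun (A : Type u) [CommRing A] [Algebra R A] => (D.pts A).toEquiv.trans (cliffEquiv Q A true)
  have nat : ∀ (A B : Type u) [CommRing A] [Algebra R A] [CommRing B] [Algebra R B] (φ : A →ₐ[R] B)
      (y : QuadGrp.specOver R A ⟶ G), (e B (QuadGrp.specOverMap R φ ≫ y)).1 = φ ∘ (e A y).1 :=
    fun A B _ _ _ _ φ y => cCoord_natural Q φ true _ _
      (D.natural A B φ (cmap Q φ) (isOver_cmap Q φ).map_ι (isOver_cmap Q φ).map_algebraMap y)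
  refine (H21Rep.smooth_iff (cliffEqs Q true) G e nat).mpr (cliff_lifts Q true ?_)
  intro A _ _ I hI ū hū hP
  obtain ⟨u, hu, h⟩ := exists_pin_lift (Algebra.TensorProduct.basis A (Pi.basisFun R (Fin (2 * m + 1)))) hI hm
    (isSemiregular_baseChange _ hQ A) ⟨hū, hP rfl⟩
  exact ⟨u, hu, h⟩

end Groth.Agent.H21Clif
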