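import Groth.Agent.H21Clif.Regular
import Mathlib.RingTheory.LocalRing.Module
import Mathlib.LinearAlgebra.Projection
import Mathlib.LinearAlgebra.FreeModule.StrongRankCondition

/-!
# Existence of the element `z` over a local ring
-/

universe u v

namespace Groth.Agent.H21Clif

open CliffordAlgebra IsLocalRing

variable {R : Type u} [CommRing R] {M : Type v} [AddCommGroup M] [Module R M] {Q : QuadraticForm R M}

set_option linter.style.haveILetI false

local notation "𝐁" => QuadraticMap.polarBilin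

/-- regularity of a submodule -/
def RegOn (Q : QuadraticForm R M) (W : Submodule R M) : Prop :=
  Function.Bijective fun w : W => ((QuadraticMap.polarBilin Q) (w : M)).comp W.subtype

lemma polar_symm (x y : M) : 𝐁 Q x y = 𝐁 Q y x := by
  simp only [QuadraticMap.polarBilin_apply_apply]
  exact QuadraticMap.polar_comm _ _ _

lemma polar_self (x : M) : 𝐁 Q x x = 2 * Q x := by
  rw [QuadraticMap.polarBilin_apply_apply, QuadraticMap.polar_self, nsmul_eq_mul]
  norm_num

lemma RegOn.exists_dual {W : Submodule R M} (hW : RegOn Q W) {ι' : Type*} (c : Module.Basis ι' R W)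
    [DecidableEq ι'] (i : ι') : ∃ u ∈ W, ∀ j, 𝐁 Q u (c j : M) = if j = i then 1 else 0 := by
  obtain ⟨u, hu⟩ := hW.2 (c.coord i)
  refine ⟨u, u.2, fun j => ?_⟩
  have := LinearMap.congr_fun hu (c j)
  simp only [LinearMap.comp_apply, Submodule.subtype_apply] at this
  rw [this, Module.Basis.coord_apply, Module.Basis.repr_self, Finsupp.single_apply]

/-- a pair `(e, f)` in a regular submodule with `B(e, f) = 1` and unit determinant -/
lemma exists_pair [IsLocalRing R] {W : Submodule R M} [Module.Free R W] [Module.Finite R W]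
    (hW : RegOn Q W) (h2 : 2 ≤ Module.finrank R W) :
    ∃ e ∈ W, ∃ f ∈ W, 𝐁 Q e f = 1 ∧ IsUnit (1 - 4 * (Q e * Q f)) := by
  let c := Module.finBasis R W
  -- it suffices to find a pair with unit product and unit determinant
  suffices h : ∃ e ∈ W, ∃ f ∈ W, IsUnit (𝐁 Q e f) ∧
      IsUnit (𝐁 Q e f * 𝐁 Q e f - 4 * (Q e * Q f)) by
    obtain ⟨e, he, f, hf, hs, hd⟩ := h
    refine ⟨(hs.unit⁻¹ : Rˣ).val • e, W.smul_mem _ he, f, hf, ?_, ?_⟩
    · rw [map_smul, LinearMap.smul_apply, smul_eq_mul, hs.val_inv_mul]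
    · rw [QuadraticMap.map_smul, smul_eq_mul]
      have h1 := hs.val_inv_mul
      have : 1 - 4 * ((hs.unit⁻¹ : Rˣ).val * (hs.unit⁻¹ : Rˣ).val * Q e * Q f) =
          ((hs.unit⁻¹ : Rˣ).val * (hs.unit⁻¹ : Rˣ).val) * (𝐁 Q e f * 𝐁 Q e f - 4 * (Q e * Q f)) := by
        linear_combination (-(1 : R) - (hs.unit⁻¹ : Rˣ).val * 𝐁 Q e f) * h1
      rw [this]
      exact ((Units.isUnit _).mul (Units.isUnit _)).mul hd
  have hP : ∀ x y : M, (¬ IsUnit (𝐁 Q x x)) → IsUnit (𝐁 Q x y) →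
      IsUnit (𝐁 Q x y * 𝐁 Q x y - 4 * (Q x * Q y)) := fun x y hx hxy => by
    rw [← notMem_maximalIdeal] at hxy ⊢
    intro h
    refine hxy ((maximalIdeal.isMaximal R).isPrime.mem_of_pow_mem 2 ?_)
    rw [pow_two, show 𝐁 Q x y * 𝐁 Q x y =
      (𝐁 Q x y * 𝐁 Q x y - 4 * (Q x * Q y)) + (2 * Q x) * (2 * Q y) by ring]
    exact add_mem h (Ideal.mul_mem_right _ _ (by
      rw [← polar_self]; exact (mem_maximalIdeal _).mpr hx))
  let i₀ : Fin (Module.finrank R W) := ⟨0, by omega⟩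
  let i₁ : Fin (Module.finrank R W) := ⟨1, by omega⟩
  by_cases hA : ∃ x ∈ W, IsUnit (𝐁 Q x x)
  · obtain ⟨x, hx, hxu⟩ := hA
    let π : M → M := fun w => w - ((hxu.unit⁻¹ : Rˣ).val * 𝐁 Q x w) • x
    have hπW : ∀ w ∈ W, π w ∈ W := fun w hw => sub_mem hw (W.smul_mem _ hx)
    have hπ : ∀ w, 𝐁 Q x (π w) = 0 := fun w => by
      simp only [π, map_sub, map_smul, smul_eq_mul]
      rw [mul_right_comm, hxu.val_inv_mul, one_mul, sub_self]
    by_cases hB : ∃ y ∈ W, IsUnit (𝐁 Q (π y) (π y))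
    · obtain ⟨y, hy, hyu⟩ := hB
      have hxy : 𝐁 Q x (x + π y) = 𝐁 Q x x := by rw [map_add, hπ, add_zero]
      refine ⟨x, hx, x + π y, add_mem hx (hπW y hy), by rw [hxy]; exact hxu, ?_⟩
      have hQ : Q (x + π y) = Q x + Q (π y) := by
        have h0 := hπ y
        rw [QuadraticMap.polarBilin_apply_apply, QuadraticMap.polar] at h0
        linear_combination h0
      rw [hxy, polar_self, hQ]
      convert (hxu.mul hyu).neg using 1
      rw [polar_self, polar_self]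
      ring
    · push Not at hB
      obtain ⟨y, hy, w, hw, hyw⟩ : ∃ y ∈ W, ∃ w ∈ W, IsUnit (𝐁 Q (π y) w) := by
        by_contra! hno
        obtain ⟨u₀, hu₀, hu₀'⟩ := hW.exists_dual c i₀
        obtain ⟨u₁, hu₁, hu₁'⟩ := hW.exists_dual c i₁
        have key : ∀ w ∈ W, ∀ u ∈ W, 𝐁 Q u w -
            (hxu.unit⁻¹ : Rˣ).val * 𝐁 Q x w * 𝐁 Q u x ∈ maximalIdeal R := fun w hw u hu => by
          have := (mem_maximalIdeal _).mpr (hno w hw u hu)
          rw [polar_symm] at this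
          simpa only [π, map_sub, map_smul, smul_eq_mul] using this
        have k00 := key _ (c i₀).2 u₀ hu₀
        have k11 := key _ (c i₁).2 u₁ hu₁
        have k10 := key _ (c i₀).2 u₁ hu₁
        rw [hu₀', if_pos rfl] at k00
        rw [hu₁', if_pos rfl] at k11
        rw [hu₁', if_neg (by simp [i₀, i₁]), zero_sub, neg_mem_iff] at k10
        rcases (maximalIdeal.isMaximal R).isPrime.mem_or_mem k10 with h | h
        · exact (maximalIdeal.isMaximal R).ne_top ((Ideal.eq_top_iff_one _).mpr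
            (by simpa using add_mem k00 (Ideal.mul_mem_right (𝐁 Q u₀ x) _ h)))
        · exact (maximalIdeal.isMaximal R).ne_top ((Ideal.eq_top_iff_one _).mpr
            (by simpa using add_mem k11 (Ideal.mul_mem_left _ ((hxu.unit⁻¹ : Rˣ).val * 𝐁 Q x (c i₁ : M)) h)))
      have hval : 𝐁 Q (π y) w = 𝐁 Q (π y) (π w) := by
        have h0 : 𝐁 Q (π y) x = 0 := (polar_symm _ _).trans (hπ y)
        generalize π y = y' at h0 ⊢
        change _ = 𝐁 Q y' (w - _ • x)
        rw [map_sub, map_smul, h0, smul_zero, sub_zero]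
      rw [hval] at hyw
      exact ⟨π y, hπW y hy, π w, hπW w hw, hyw, hP _ _ (hB y hy) hyw⟩
  · push Not at hA
    obtain ⟨u, hu, hu'⟩ := hW.exists_dual c i₀
    refine ⟨u, hu, c i₀, (c i₀).2, ?_, hP _ _ (hA u hu) ?_⟩ <;> rw [hu', if_pos rfl] <;> exact isUnit_one

/-- the part of a regular submodule orthogonal to a pair -/
lemma exists_orth_complement [IsLocalRing R] {W : Submodule R M} [Module.Free R W] [Module.Finite R W]
    (hW : RegOn Q W) {e f : M} (he : e ∈ W) (hf : f ∈ W) (hef : 𝐁 Q e f = 1)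
    (hd : IsUnit (1 - 4 * (Q e * Q f))) :
    ∃ (W' : Submodule R M) (_ : Module.Free R W') (_ : Module.Finite R W'), W' ≤ W ∧ RegOn Q W' ∧
      Module.finrank R W = Module.finrank R W' + 2 ∧
      (∀ w ∈ W', 𝐁 Q e w = 0 ∧ 𝐁 Q f w = 0) ∧
      ∀ w ∈ W, ∃ a c : R, w - a • e - c • f ∈ W' := by
  classical
  set d := (hd.unit⁻¹ : Rˣ).val with hddef
  have hdd : d * (1 - 4 * (Q e * Q f)) = 1 := hd.val_inv_mul
  -- coefficients along the pair
  let ca : M →ₗ[R] R := d • (𝐁 Q f - (2 * Q f) • 𝐁 Q e)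
  let cc : M →ₗ[R] R := d • (𝐁 Q e - (2 * Q e) • 𝐁 Q f)
  let π : M →ₗ[R] M := LinearMap.id - ca.smulRight e - cc.smulRight f
  have hfe : 𝐁 Q f e = 1 := (polar_symm f e).trans hef
  have hπ : ∀ w, 𝐁 Q e (π w) = 0 ∧ 𝐁 Q f (π w) = 0 := fun w => by
    simp only [π, ca, cc, LinearMap.sub_apply, LinearMap.id_apply, LinearMap.smulRight_apply,
      LinearMap.smul_apply, smul_eq_mul, map_sub, map_smul, hef, hfe, polar_self]
    constructor
    · linear_combination -(𝐁 Q e w) * hdd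
    · linear_combination -(𝐁 Q f w) * hdd
  have hπW : ∀ w ∈ W, π w ∈ W := fun w hw =>
    sub_mem (sub_mem hw (W.smul_mem _ he)) (W.smul_mem _ hf)
  have hπfix : ∀ w, 𝐁 Q e w = 0 → 𝐁 Q f w = 0 → π w = w := fun w h1 h2 => by
    simp [π, ca, cc, h1, h2]
  let W' : Submodule R M := W ⊓ LinearMap.ker (𝐁 Q e) ⊓ LinearMap.ker (𝐁 Q f)
  have hW'le : W' ≤ W := inf_le_left.trans inf_le_left
  have hπW' : ∀ w ∈ W, π w ∈ W' := fun w hw => ⟨⟨hπW w hw, (hπ w).1⟩, (hπ w).2⟩
  let p : W →ₗ[R] W' := (π.comp W.subtype).codRestrict W' fun w => hπW' w w.2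
  have hp : Function.Surjective p := fun w => ⟨⟨w, hW'le w.2⟩, Subtype.ext (hπfix _ w.2.1.2 w.2.2)⟩
  haveI : Module.Finite R W' := Module.Finite.of_surjective p hp
  haveI : Module.Projective R W' := Module.Projective.of_split (Submodule.inclusion hW'le) p
    (LinearMap.ext fun w => Subtype.ext (hπfix _ w.2.1.2 w.2.2))
  haveI : Module.Free R W' := Module.free_of_flat_of_isLocalRing
  -- the splitting
  let ψ : (R × R) × W' →ₗ[R] W :=
    LinearMap.coprod (LinearMap.coprod (LinearMap.toSpanSingleton R W ⟨e, he⟩)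
      (LinearMap.toSpanSingleton R W ⟨f, hf⟩)) (Submodule.inclusion hW'le)
  have hψ : Function.Bijective ψ := by
    refine ⟨(injective_iff_map_eq_zero ψ).mpr fun x hx => ?_, fun w => ?_⟩
    · obtain ⟨⟨a, c⟩, w⟩ := x
      have h0 : a • e + c • f + (w : M) = 0 := congrArg Subtype.val hx
      have h1 := congrArg (𝐁 Q e) h0
      have h2 := congrArg (𝐁 Q f) h0
      simp only [map_add, map_smul, smul_eq_mul, hef, hfe, polar_self, LinearMap.mem_ker.mp w.2.1.2,
        LinearMap.mem_ker.mp w.2.2, map_zero, mul_one, add_zero] at h1 h2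
      have ha : a = 0 := by linear_combination d * h2 - d * (2 * Q f) * h1 - a * hdd
      have hc : c = 0 := by linear_combination d * h1 - d * (2 * Q e) * h2 - c * hdd
      subst ha hc
      simp only [zero_smul, zero_add] at h0
      exact Prod.ext rfl (Subtype.ext h0)
    · refine ⟨((ca w, cc w), p w), Subtype.ext ?_⟩
      change ca (w : M) • e + cc (w : M) • f + π w = w
      simp only [π, LinearMap.sub_apply, LinearMap.id_apply, LinearMap.smulRight_apply]
      abel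
  refine ⟨W', inferInstance, inferInstance, hW'le, ⟨?_, ?_⟩, ?_, fun w hw => ⟨hw.1.2, hw.2⟩,
    fun w hw => ⟨ca w, cc w, by
      have : w - ca w • e - cc w • f = π w := by simp [π]
      rw [this]; exact hπW' w hw⟩⟩
  · intro w₁ w₂ h
    refine Subtype.ext (congrArg (fun z : W => (z : M)) (hW.1 (a₁ := ⟨_, hW'le w₁.2⟩) (a₂ := ⟨_, hW'le w₂.2⟩)
      (LinearMap.ext fun u => ?_)))
    obtain ⟨⟨⟨a, c⟩, u'⟩, rfl⟩ := hψ.2 u
    have hu := LinearMap.congr_fun h u'
    simp only [LinearMap.comp_apply, Submodule.subtype_apply] at hu ⊢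
    change 𝐁 Q (w₁ : M) (a • e + c • f + (u' : M)) = 𝐁 Q (w₂ : M) (a • e + c • f + (u' : M))
    simp only [map_add, map_smul, hu, polar_symm (w₁ : M) e, polar_symm (w₂ : M) e,
      polar_symm (w₁ : M) f, polar_symm (w₂ : M) f, LinearMap.mem_ker.mp w₁.2.1.2,
      LinearMap.mem_ker.mp w₁.2.2, LinearMap.mem_ker.mp w₂.2.1.2, LinearMap.mem_ker.mp w₂.2.2]
  · intro φ
    obtain ⟨u, hu⟩ := hW.2 (φ.comp p)
    refine ⟨p u, LinearMap.ext fun w => ?_⟩
    have h := LinearMap.congr_fun hu ⟨w, hW'le w.2⟩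
    simp only [LinearMap.comp_apply, Submodule.subtype_apply] at h ⊢
    rw [show p ⟨w, hW'le w.2⟩ = w from Subtype.ext (hπfix _ w.2.1.2 w.2.2)] at h
    rw [← h]
    change 𝐁 Q (π u) (w : M) = 𝐁 Q (u : M) (w : M)
    simp only [π, LinearMap.sub_apply, LinearMap.id_apply, LinearMap.smulRight_apply, map_sub,
      map_smul, LinearMap.smul_apply, LinearMap.mem_ker.mp w.2.1.2, LinearMap.mem_ker.mp w.2.2,
      smul_zero, sub_zero]
  · rw [← (LinearEquiv.ofBijective ψ hψ).finrank_eq, Module.finrank_prod, Module.finrank_prod,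
      Module.finrank_self]
    ring

lemma ι_comm_pair {e f w : M} (he : 𝐁 Q e w = 0) (hf : 𝐁 Q f w = 0) :
    ι Q e * ι Q f * ι Q w = ι Q w * (ι Q e * ι Q f) := by
  have h1 := ι_mul_ι_add_swap (Q := Q) e w
  have h2 := ι_mul_ι_add_swap (Q := Q) f w
  rw [← QuadraticMap.polarBilin_apply_apply, he, map_zero] at h1
  rw [← QuadraticMap.polarBilin_apply_apply, hf, map_zero] at h2
  rw [mul_assoc, eq_neg_of_add_eq_zero_left h2, mul_neg, ← mul_assoc, eq_neg_of_add_eq_zero_left h1,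
    neg_mul, neg_neg, mul_assoc]

lemma exists_z_aux [IsLocalRing R] : ∀ (k : ℕ) (W : Submodule R M) [Module.Free R W] [Module.Finite R W],
    Module.finrank R W = 2 * k → RegOn Q W →
    ∃ (z : CliffordAlgebra Q) (D : Rˣ), z ∈ evenOdd Q 0 ∧ (∀ w ∈ W, z * ι Q w + ι Q w * z = ι Q w) ∧
      (1 - 2 * z) * (1 - 2 * z) = algebraMap R _ (D : R) ∧
      (∀ u, (∀ w ∈ W, 𝐁 Q u w = 0) → z * ι Q u = ι Q u * z) ∧
      reverse (1 - 2 * z) = ((-1 : R) ^ k) • (1 - 2 * z) := by
  intro k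
  induction k with
  | zero =>
    intro W _ _ hrank _
    haveI : Subsingleton W := (Module.finrank_eq_zero_iff_of_free R W).mp hrank
    refine ⟨0, 1, zero_mem _, fun w hw => ?_, by simp, fun u _ => by simp, by simp⟩
    rw [show w = 0 from congrArg Subtype.val (Subsingleton.elim (⟨w, hw⟩ : W) 0)]
    simp
  | succ k ih =>
    intro W _ _ hrank hW
    obtain ⟨e, he, f, hf, hef, hd⟩ := exists_pair hW (by omega)
    obtain ⟨W', _, _, hle, hW', hrk, horth, hdec⟩ := exists_orth_complement hW he hf hef hd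
    obtain ⟨z₂, D₂, hz₂, hrel₂, hsq₂, hcomm₂, hrev₂⟩ := ih W' (by omega) hW'
    set z₁ := ι Q e * ι Q f with hz₁def
    have hz₁ : z₁ ∈ evenOdd Q 0 := ι_mul_ι_mem_evenOdd_zero Q e f
    have hsum : ι Q e * ι Q f + ι Q f * ι Q e = 1 := by
      rw [ι_mul_ι_add_swap, ← QuadraticMap.polarBilin_apply_apply, hef, map_one]
    have hfe : ι Q f * ι Q e = 1 - z₁ := eq_sub_of_add_eq' hsum
    have hc₁ : ∀ w ∈ W', z₁ * ι Q w = ι Q w * z₁ := fun w hw => ι_comm_pair (horth w hw).1 (horth w hw).2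
    have hc₂e : z₂ * ι Q e = ι Q e * z₂ := hcomm₂ e fun w hw => (horth w hw).1
    have hc₂f : z₂ * ι Q f = ι Q f * z₂ := hcomm₂ f fun w hw => (horth w hw).2
    have hc12 : z₁ * z₂ = z₂ * z₁ := by
      rw [hz₁def, mul_assoc, ← hc₂f, ← mul_assoc, ← hc₂e, mul_assoc]
    have hz₁e : z₁ * ι Q e + ι Q e * z₁ = ι Q e := by
      rw [hz₁def, mul_assoc, ← mul_add, hfe, ← hz₁def, sub_add_cancel, mul_one]
    have hz₁f : z₁ * ι Q f + ι Q f * z₁ = ι Q f := by
      rw [hz₁def, ← mul_assoc (ι Q f) (ι Q e) (ι Q f), ← add_mul, hsum, one_mul]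
    have hsq₁ : (1 - 2 * z₁) * (1 - 2 * z₁) = algebraMap R _ (1 - 4 * (Q e * Q f)) := by
      have h1 : z₁ * z₁ = z₁ - algebraMap R _ (Q e * Q f) := by
        calc z₁ * z₁ = ι Q e * (ι Q f * ι Q e) * ι Q f := by rw [hz₁def]; noncomm_ring
          _ = z₁ - ι Q e * ι Q e * (ι Q f * ι Q f) := by rw [hfe, hz₁def]; noncomm_ring
          _ = _ := by rw [ι_sq_scalar, ι_sq_scalar, ← map_mul]
      calc (1 - 2 * z₁) * (1 - 2 * z₁) = 1 + 4 * (z₁ * z₁ - z₁) := by noncomm_ring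
        _ = _ := by
            rw [h1, sub_sub_cancel_left]
            simp only [map_sub, map_one, map_mul, map_ofNat, mul_neg, ← sub_eq_add_neg]
    refine ⟨z₁ + z₂ - 2 * (z₁ * z₂), hd.unit * D₂, ?_, ?_, ?_, ?_, ?_⟩
    · rw [two_mul]
      exact sub_mem (add_mem hz₁ hz₂) (add_mem (even_mul hz₁ hz₂) (even_mul hz₁ hz₂))
    · have hpair : ∀ v, z₁ * ι Q v + ι Q v * z₁ = ι Q v → z₂ * ι Q v = ι Q v * z₂ →
          (z₁ + z₂ - 2 * (z₁ * z₂)) * ι Q v + ι Q v * (z₁ + z₂ - 2 * (z₁ * z₂)) = ι Q v := fun v h1 h2 => by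
        calc _ = (z₁ * ι Q v + ι Q v * z₁) + (z₂ * ι Q v + ι Q v * z₂)
              - 2 * (z₁ * (z₂ * ι Q v)) - 2 * (ι Q v * z₁ * z₂) := by noncomm_ring
          _ = (z₁ * ι Q v + ι Q v * z₁) + 2 * (ι Q v * z₂) - 2 * ((z₁ * ι Q v + ι Q v * z₁) * z₂) := by
            rw [h2]; noncomm_ring
          _ = ι Q v := by rw [h1, add_sub_cancel_right]
      intro w hw
      obtain ⟨a, c, hac⟩ := hdec w hw
      have hw' : (z₁ + z₂ - 2 * (z₁ * z₂)) * ι Q (w - a • e - c • f) +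
          ι Q (w - a • e - c • f) * (z₁ + z₂ - 2 * (z₁ * z₂)) = ι Q (w - a • e - c • f) := by
        have h1 := hc₁ _ hac
        have h2 := hrel₂ _ hac
        generalize ι Q (w - a • e - c • f) = W₀ at h1 h2 ⊢
        calc _ = (z₁ * W₀ + W₀ * z₁) + (z₂ * W₀ + W₀ * z₂) - 2 * (z₁ * (z₂ * W₀) + (W₀ * z₁) * z₂) := by
              noncomm_ring
          _ = 2 * (z₁ * W₀) + (z₂ * W₀ + W₀ * z₂) - 2 * (z₁ * (z₂ * W₀ + W₀ * z₂)) := by
              rw [← h1]; noncomm_ring
          _ = W₀ := by rw [h2]; abel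
      simp only [map_sub, map_smul] at hw'
      have he' := hpair e hz₁e hc₂e
      have hf' := hpair f hz₁f hc₂f
      set Z := z₁ + z₂ - 2 * (z₁ * z₂)
      simp only [mul_sub, sub_mul, mul_smul_comm, smul_mul_assoc] at hw'
      calc Z * ι Q w + ι Q w * Z
          = (Z * ι Q w - a • (Z * ι Q e) - c • (Z * ι Q f) + (ι Q w * Z - a • (ι Q e * Z) - c • (ι Q f * Z)))
            + a • (Z * ι Q e + ι Q e * Z) + c • (Z * ι Q f + ι Q f * Z) := by
              simp only [smul_add]; abel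
        _ = ι Q w := by rw [hw', he', hf']; abel
    · rw [Units.val_mul, IsUnit.unit_spec, map_mul, ← hsq₁, ← hsq₂]
      calc _ = (1 - 2 * z₁) * (1 - 2 * z₂) * ((1 - 2 * z₁) * (1 - 2 * z₂)) := by
            congr 1 <;> noncomm_ring
        _ = _ := by
            have hcc : (1 - 2 * z₂) * (1 - 2 * z₁) = (1 - 2 * z₁) * (1 - 2 * z₂) := by
              calc _ = 1 - 2 * z₁ - 2 * z₂ + 4 * (z₂ * z₁) := by noncomm_ring
                _ = 1 - 2 * z₁ - 2 * z₂ + 4 * (z₁ * z₂) := by rw [hc12]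
                _ = _ := by noncomm_ring
            rw [mul_assoc, ← mul_assoc (1 - 2 * z₂), hcc]
            noncomm_ring
    · intro u hu
      have h1 : z₁ * ι Q u = ι Q u * z₁ :=
        ι_comm_pair ((polar_symm e u).trans (hu e he)) ((polar_symm f u).trans (hu f hf))
      have h2 := hcomm₂ u fun w hw => hu w (hle hw)
      calc _ = z₁ * ι Q u + z₂ * ι Q u - 2 * (z₁ * (z₂ * ι Q u)) := by noncomm_ring
        _ = ι Q u * z₁ + ι Q u * z₂ - 2 * ((z₁ * ι Q u) * z₂) := by rw [h2, h1, ← mul_assoc z₁, h1]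
        _ = _ := by rw [h1]; noncomm_ring
    · have hcc : (1 - 2 * z₂) * (1 - 2 * z₁) = (1 - 2 * z₁) * (1 - 2 * z₂) := by
        calc _ = 1 - 2 * z₁ - 2 * z₂ + 4 * (z₂ * z₁) := by noncomm_ring
          _ = 1 - 2 * z₁ - 2 * z₂ + 4 * (z₁ * z₂) := by rw [hc12]
          _ = _ := by noncomm_ring
      have hr₁ : reverse (1 - 2 * z₁) = -(1 - 2 * z₁) := by
        rw [two_mul, map_sub, map_add, reverse.map_one, hz₁def, reverse.map_mul, reverse_ι, reverse_ι,
          hfe, ← hz₁def]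
        abel
      rw [show (1 : CliffordAlgebra Q) - 2 * (z₁ + z₂ - 2 * (z₁ * z₂)) = (1 - 2 * z₁) * (1 - 2 * z₂) by
          noncomm_ring, reverse.map_mul, hr₁, hrev₂, smul_mul_assoc, mul_neg, hcc, smul_neg, pow_succ,
        mul_comm, neg_one_mul, neg_smul]

/-- over a local ring a regular form of even rank has the element `z`, with known reverse -/
lemma exists_isDick_reverse [IsLocalRing R] [Module.Free R M] [Module.Finite R M] {m : ℕ}
    (hM : Module.finrank R M = 2 * m) (hQ : QuadGrp.IsRegular Q) :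
    ∃ (z : CliffordAlgebra Q) (D : Rˣ), IsDick Q z D ∧
      reverse (1 - 2 * z) = ((-1 : R) ^ m) • (1 - 2 * z) := by
  let e := (Submodule.topEquiv : (⊤ : Submodule R M) ≃ₗ[R] M)
  haveI : Module.Free R (⊤ : Submodule R M) := Module.Free.of_equiv e.symm
  haveI : Module.Finite R (⊤ : Submodule R M) := Module.Finite.equiv e.symm
  have hreg : RegOn Q (⊤ : Submodule R M) := by
    refine ⟨fun a c h => Subtype.ext (hQ.1 (LinearMap.ext fun v => ?_)), fun φ => ?_⟩
    · exact LinearMap.congr_fun h ⟨v, trivial⟩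
    · obtain ⟨u, hu⟩ := hQ.2 (φ.comp e.symm.toLinearMap)
      refine ⟨⟨u, trivial⟩, LinearMap.ext fun w => ?_⟩
      exact (LinearMap.congr_fun hu w).trans (congrArg φ (e.symm_apply_apply w))
  obtain ⟨z, D, h1, h2, h3, -, h4⟩ := exists_z_aux m ⊤ (by rw [e.finrank_eq, hM]) hreg
  exact ⟨z, D, ⟨h1, fun v => h2 v trivial, h3⟩, h4⟩

/-- over a local ring a regular form of even rank has the element `z` -/
lemma exists_isDick [IsLocalRing R] [Module.Free R M] [Module.Finite R M] {m : ℕ}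
    (hM : Module.finrank R M = 2 * m) (hQ : QuadGrp.IsRegular Q) :
    ∃ (z : CliffordAlgebra Q) (D : Rˣ), IsDick Q z D :=
  let ⟨z, D, h, _⟩ := exists_isDick_reverse hM hQ
  ⟨z, D, h⟩

end Groth.Agent.H21Clif
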