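import Groth.Agent.H21Clif.OrthScheme
import Groth.Agent.H21Clif.CliffCoord
import Groth.Agent.H21Rep.RelDim
import Mathlib.Data.Sym.Card

/-!
# The Dickson component of the orthogonal group of a regular form of even rank, and tangent spaces
-/

universe u v

namespace Groth.Agent.H21Clif

open CliffordAlgebra TensorProduct Matrix

set_option linter.style.haveILetI false
set_option linter.unusedSectionVars false
set_option synthInstance.maxHeartbeats 100000

section Push

variable {R : Type u} [CommRing R] {M : Type v} [AddCommGroup M] [Module R M] [Module.Free R M]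
variable {n : ℕ} (b : Module.Basis (Fin n) R M) (Q : QuadraticForm R M)
variable {A B : Type u} [CommRing A] [Algebra R A] [CommRing B] [Algebra R B] (φ : A →ₐ[R] B)

lemma rTensor_smul (a : A) (w : A ⊗[R] M) :
    LinearMap.rTensor M φ.toLinearMap (a • w) = φ a • LinearMap.rTensor M φ.toLinearMap w := by
  induction w using TensorProduct.induction_on with
  | zero => simp
  | add x y hx hy => rw [smul_add, map_add, map_add, smul_add, hx, hy]
  | tmul c m => simp [smul_tmul']

lemma compat_all {g : (A ⊗[R] M) ≃ₗ[A] (A ⊗[R] M)} {h : (B ⊗[R] M) ≃ₗ[B] (B ⊗[R] M)}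
    (H : ∀ m, h (1 ⊗ₜ[R] m) = LinearMap.rTensor M φ.toLinearMap (g (1 ⊗ₜ[R] m))) (v : A ⊗[R] M) :
    h (LinearMap.rTensor M φ.toLinearMap v) = LinearMap.rTensor M φ.toLinearMap (g v) := by
  induction v using TensorProduct.induction_on with
  | zero => simp
  | add x y hx hy => rw [map_add, map_add, map_add g, map_add, hx, hy]
  | tmul a m =>
    rw [show (a ⊗ₜ[R] m : A ⊗[R] M) = a • ((1 : A) ⊗ₜ m) by rw [smul_tmul', smul_eq_mul, _root_.mul_one],
      rTensor_smul, LinearMap.rTensor_tmul, AlgHom.toLinearMap_apply, map_one, map_smul, H, map_smul,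
      rTensor_smul]

lemma map_compat {g : (A ⊗[R] M) ≃ₗ[A] (A ⊗[R] M)} (hg : g ∈ QuadGrp.O (QuadGrp.baseChangeForm A Q))
    {h : (B ⊗[R] M) ≃ₗ[B] (B ⊗[R] M)} (hh : h ∈ QuadGrp.O (QuadGrp.baseChangeForm B Q))
    (H : ∀ m, h (1 ⊗ₜ[R] m) = LinearMap.rTensor M φ.toLinearMap (g (1 ⊗ₜ[R] m)))
    (x : CliffordAlgebra (QuadGrp.baseChangeForm A Q)) :
    cmap Q φ (CliffordAlgebra.map (QuadGrp.isometryOfMem _ g hg) x) =
      CliffordAlgebra.map (QuadGrp.isometryOfMem _ h hh) (cmap Q φ x) := by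
  induction x using CliffordAlgebra.induction with
  | algebraMap r => rw [AlgHom.commutes, (isOver_cmap Q φ).map_algebraMap, AlgHom.commutes]
  | ι v =>
    rw [map_apply_ι, (isOver_cmap Q φ).map_ι, (isOver_cmap Q φ).map_ι, map_apply_ι,
      QuadGrp.isometryOfMem_apply, QuadGrp.isometryOfMem_apply, compat_all φ H]
  | mul x y hx hy => simp only [map_mul, hx, hy]
  | add x y hx hy => simp only [map_add, hx, hy]

include b in
lemma IsScaled.push {x : CliffordAlgebra (QuadGrp.baseChangeForm A Q)} {s d : A}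
    (h : IsScaled (QuadGrp.baseChangeForm A Q) x s d) :
    IsScaled (QuadGrp.baseChangeForm B Q) (cmap Q φ x) (φ s) (φ d) where
  mem := by
    have h1 := (mem_evenOdd_iff (cBA b Q A) par (cBA_mem b Q A) 0 x).mp h.mem
    refine (mem_evenOdd_iff (cBA b Q B) par (cBA_mem b Q B) 0 _).mpr fun S hS => ?_
    rw [(isOver_cmap Q φ).repr b, h1 S hS, map_zero]
  rel v := by
    induction v using TensorProduct.induction_on with
    | zero => simp
    | add v w hv hw => rw [map_add, mul_add, add_mul, add_add_add_comm, hv, hw, smul_add]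
    | tmul a m =>
      have h2 := congrArg (cmap Q φ) (h.rel ((1 : A) ⊗ₜ m))
      rw [map_add, map_mul, map_mul, (isOver_cmap Q φ).smul, (isOver_cmap Q φ).map_ι, LinearMap.rTensor_tmul,
        AlgHom.toLinearMap_apply, map_one] at h2
      rw [show (a ⊗ₜ[R] m : B ⊗[R] M) = a • ((1 : B) ⊗ₜ m) by rw [smul_tmul', smul_eq_mul, _root_.mul_one],
        map_smul, mul_smul_comm, smul_mul_assoc, ← smul_add, h2, smul_comm]
  sq := by
    have h2 := congrArg (cmap Q φ) h.sq
    rwa [map_mul, map_sub, map_mul, map_ofNat, (isOver_cmap Q φ).map_algebraMap,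
      (isOver_cmap Q φ).map_algebraMap] at h2

include b in
lemma FixedAt.push {g : (A ⊗[R] M) ≃ₗ[A] (A ⊗[R] M)} (hg : g ∈ QuadGrp.O (QuadGrp.baseChangeForm A Q))
    {h : (B ⊗[R] M) ≃ₗ[B] (B ⊗[R] M)} (hh : h ∈ QuadGrp.O (QuadGrp.baseChangeForm B Q))
    (H : ∀ m, h (1 ⊗ₜ[R] m) = LinearMap.rTensor M φ.toLinearMap (g (1 ⊗ₜ[R] m)))
    {q : Ideal B} (hf : FixedAt g hg (q.comap φ.toRingHom)) : FixedAt h hh q := by
  obtain ⟨x, s, d, hx, hs, hd, e⟩ := hf
  exact ⟨cmap Q φ x, φ s, φ d, hx.push b Q φ, hs, hd, by rw [← map_compat Q φ hg hh H, e]⟩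

include b in
lemma ReflAt.push {g : (A ⊗[R] M) ≃ₗ[A] (A ⊗[R] M)} (hg : g ∈ QuadGrp.O (QuadGrp.baseChangeForm A Q))
    {h : (B ⊗[R] M) ≃ₗ[B] (B ⊗[R] M)} (hh : h ∈ QuadGrp.O (QuadGrp.baseChangeForm B Q))
    (H : ∀ m, h (1 ⊗ₜ[R] m) = LinearMap.rTensor M φ.toLinearMap (g (1 ⊗ₜ[R] m)))
    {q : Ideal B} (hf : ReflAt g hg (q.comap φ.toRingHom)) : ReflAt h hh q := by
  obtain ⟨x, s, d, hx, hs, hd, e⟩ := hf
  exact ⟨cmap Q φ x, φ s, φ d, hx.push b Q φ, hs, hd, by
    rw [← map_compat Q φ hg hh H, e, map_sub, (isOver_cmap Q φ).map_algebraMap]⟩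

end Push

section Dickson

variable {R : Type u} [CommRing R] {n : ℕ} (Q : QuadraticForm R (Fin n → R))

local notation "bR" => Pi.basisFun R (Fin n)

/-- compatibility read off coordinates -/
lemma compat_of_coord {A B : Type u} [CommRing A] [Algebra R A] [CommRing B] [Algebra R B] (φ : A →ₐ[R] B)
    (g : (A ⊗[R] (Fin n → R)) ≃ₗ[A] (A ⊗[R] (Fin n → R)))
    (h : (B ⊗[R] (Fin n → R)) ≃ₗ[B] (B ⊗[R] (Fin n → R))) (hc : matCoord B h = φ ∘ matCoord A g)
    (m : Fin n → R) : h (1 ⊗ₜ[R] m) = LinearMap.rTensor (Fin n → R) φ.toLinearMap (g (1 ⊗ₜ[R] m)) := by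
  refine LinearMap.congr_fun (f := (h.toLinearMap.restrictScalars R) ∘ₗ TensorProduct.mk R B (Fin n → R) 1)
    (g := LinearMap.rTensor (Fin n → R) φ.toLinearMap ∘ₗ (g.toLinearMap.restrictScalars R) ∘ₗ
      TensorProduct.mk R A (Fin n → R) 1) (Module.Basis.ext bR fun j => ?_) m
  refine (Algebra.TensorProduct.basis B bR).repr.injective (Finsupp.ext fun i => ?_)
  have hh := congrFun hc (i, j)
  simp only [matCoord, Function.comp_apply, LinearMap.toMatrix_apply, LinearEquiv.coe_coe,
    Algebra.TensorProduct.basis_apply] at hh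
  simp only [LinearMap.comp_apply, LinearMap.coe_restrictScalars, TensorProduct.mk_apply, LinearEquiv.coe_coe]
  rw [hh]
  exact (basis_repr_rTensor φ _ _ _).symm

lemma mem_sorth_iff {m : ℕ} (hn : n = 2 * m) (A : Type u) [CommRing A] [Algebra R A]
    (h : (A ⊗[R] (Fin n → R)) ≃ₗ[A] (A ⊗[R] (Fin n → R))) :
    h ∈ QuadGrp.sorth Q A ↔ h ∈ QuadGrp.SOeven (QuadGrp.baseChangeForm A Q) := by
  unfold QuadGrp.sorth QuadGrp.SO
  rcases subsingleton_or_nontrivial A with hA | hA
  · haveI : Subsingleton (A ⊗[R] (Fin n → R)) := Module.subsingleton A _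
    rw [Subsingleton.elim h 1]
    exact ⟨fun _ => Subgroup.one_mem _, fun _ => Subgroup.one_mem _⟩
  · rw [if_pos]
    rw [Module.finrank_eq_card_basis (Algebra.TensorProduct.basis A bR), Fintype.card_fin, hn]
    exact even_two_mul m

/-- the Dickson component is cut out by an idempotent function -/
theorem exists_dicksonPoly {m : ℕ} (hn : n = 2 * m) (hm : 1 ≤ m) (hQ : QuadGrp.IsRegular Q)
    (C : Matrix (Fin n) (Fin n) R)
    (hC : C = LinearMap.BilinForm.toMatrix bR (Q.toBilin bR))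
    (hnd : IsUnit (C + Cᵀ).det) :
    ∃ P : MvPolynomial (Fin n × Fin n) R,
      (∀ (A : Type u) [CommRing A] [Algebra R A] (x : Fin n × Fin n → A), (∀ k, (orthEqs C).F A x k = 0) →
        IsIdempotentElem (MvPolynomial.aeval x P)) ∧
      ∀ (A : Type u) [CommRing A] [Algebra R A] (h : ↥(QuadGrp.orth Q A)),
        (h.1 ∈ QuadGrp.sorth Q A ↔ MvPolynomial.aeval (matCoord A h.1) P = 1) := by
  classical
  have hev : Even n := hn ▸ even_two_mul m
  have hn0 : 0 < n := by omega
  let E := orthEqs C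
  let gu := (orthEquiv C Q hC E.H (Or.inl hnd)).symm ⟨E.univ, E.univ_spec⟩
  have hgu : matCoord E.H gu.1 = E.univ :=
    congrArg Subtype.val ((orthEquiv C Q hC E.H (Or.inl hnd)).apply_symm_apply ⟨E.univ, E.univ_spec⟩)
  have hguO := (mem_orth_iff Q E.H).mp gu.2
  let bA : ∀ (A : Type u) [CommRing A] [Algebra R A], Module.Basis (Fin n) A (A ⊗[R] (Fin n → R)) :=
    fun A _ _ => Algebra.TensorProduct.basis A bR
  have hQA : ∀ (A : Type u) [CommRing A] [Algebra R A], QuadGrp.IsRegular (QuadGrp.baseChangeForm A Q) :=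
    fun A _ _ => isRegular_baseChange A Q bR hQ
  let Z : Set (PrimeSpectrum E.H) := {p | FixedAt gu.1 hguO p.asIdeal}
  have hZc : Zᶜ = {p | ReflAt gu.1 hguO p.asIdeal} := by
    ext p
    refine ⟨fun hp => ?_, fun hp hp' => not_fixed_refl gu.1 hguO p.asIdeal hp' hp (bA E.H) hev hn0 (hQA E.H)⟩
    exact ((dichotomy_at (bA E.H) hev hn0 (hQA E.H) gu.1 hguO p.asIdeal).resolve_left fun h => hp h.1).1
  have hZo : IsOpen Z ∧ IsOpen Zᶜ := by
    constructor
    · refine isOpen_iff_forall_mem_open.mpr fun p hp => ?_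
      obtain ⟨x, s, d, hx, hs, hd, e⟩ := hp
      refine ⟨PrimeSpectrum.basicOpen s ∩ PrimeSpectrum.basicOpen d, fun q hq => ⟨x, s, d, hx, hq.1, hq.2, e⟩,
        (PrimeSpectrum.basicOpen s).2.inter (PrimeSpectrum.basicOpen d).2, hs, hd⟩
    · rw [hZc]
      refine isOpen_iff_forall_mem_open.mpr fun p hp => ?_
      obtain ⟨x, s, d, hx, hs, hd, e⟩ := hp
      refine ⟨PrimeSpectrum.basicOpen s ∩ PrimeSpectrum.basicOpen d, fun q hq => ⟨x, s, d, hx, hq.1, hq.2, e⟩,
        (PrimeSpectrum.basicOpen s).2.inter (PrimeSpectrum.basicOpen d).2, hs, hd⟩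
  obtain ⟨e, he, hZe⟩ := PrimeSpectrum.exists_idempotent_basicOpen_eq_of_isClopen
    (show IsClopen Z from ⟨⟨hZo.2⟩, hZo.1⟩)
  obtain ⟨P, hP⟩ := Ideal.Quotient.mk_surjective (I := E.ideal) e
  have heval : ∀ (A : Type u) [CommRing A] [Algebra R A] (φ : E.H →ₐ[R] A),
      MvPolynomial.aeval (φ ∘ E.univ) P = φ e := fun A _ _ φ => by
    have : MvPolynomial.aeval (φ ∘ E.univ) = φ.comp (Ideal.Quotient.mkₐ R E.ideal) :=
      MvPolynomial.algHom_ext fun i => by simp [H21Rep.Eqs.univ]
    rw [this, ← hP]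
    rfl
  refine ⟨P, fun A _ _ x hx => ?_, fun A _ _ h => ?_⟩
  · obtain ⟨φ, rfl⟩ := E.exists_hom x hx
    rw [heval]
    exact he.map φ
  · obtain ⟨φ, hφ⟩ := E.exists_hom (matCoord A h.1) ((mem_orth_iff_coord C Q hC A h.1).mp h.2)
    have hhO := (mem_orth_iff Q A).mp h.2
    have H := compat_of_coord φ gu.1 h.1 (by rw [hgu, hφ])
    rw [mem_sorth_iff Q hn, ← hφ, heval]
    constructor
    · intro hS
      refine (IsIdempotentElem.iff_eq_one_of_isUnit (not_not.mp fun hu => ?_)).mp (he.map φ)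
      obtain ⟨q, hq, hle⟩ := exists_max_ideal_of_mem_nonunits hu
      haveI := hq.isPrime
      let p : PrimeSpectrum E.H := ⟨q.comap φ.toRingHom, inferInstance⟩
      have hp : p ∈ Zᶜ := fun hp => by
        have h2 : p ∈ (PrimeSpectrum.basicOpen e : Set (PrimeSpectrum E.H)) := hZe ▸ hp
        exact h2 hle
      rw [hZc] at hp
      exact not_fixed_refl h.1 hhO q (fixedAt_of_SOeven (bA A) hev hn0 (hQA A) h.1 hhO hS q)
        (ReflAt.push bR Q φ hguO hhO H hp) (bA A) hev hn0 (hQA A)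
    · intro he1
      refine SOeven_of_fixedAt (bA A) hev hn0 (hQA A) h.1 hhO fun q _ => FixedAt.push bR Q φ hguO hhO H ?_
      have hmem : (⟨q.comap φ.toRingHom, inferInstance⟩ : PrimeSpectrum E.H) ∈
          (PrimeSpectrum.basicOpen e : Set (PrimeSpectrum E.H)) := fun hq => by
        have hq' : φ e ∈ q := hq
        rw [he1] at hq'
        exact (inferInstance : q.IsPrime).ne_top ((Ideal.eq_top_iff_one q).mpr hq')
      rw [← hZe] at hmem
      exact hmem

end Dickson

section Tangent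

open TrivSqZeroExt

/-- strictly upper pairs -/
lemma card_pairs (n : ℕ) : Fintype.card {p : Fin n × Fin n // p.1 < p.2} = n.choose 2 := by
  have h := Sym2.card_subtype_not_diag (α := Fin n)
  rw [Fintype.card_fin] at h
  rw [← h]
  refine Fintype.card_congr (Equiv.ofBijective (fun p => ⟨Sym2.mk p.1.1 p.1.2, ?_⟩) ⟨?_, ?_⟩)
  · simpa using p.2.ne
  · rintro ⟨⟨a, b⟩, hab⟩ ⟨⟨c, d⟩, hcd⟩ he
    rcases Sym2.eq_iff.mp (congrArg Subtype.val he) with ⟨rfl, rfl⟩ | ⟨rfl, rfl⟩
    · rfl
    · exact absurd hcd (not_lt.mpr hab.le)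
  · rintro ⟨z, hz⟩
    induction z using Sym2.ind with
    | _ a b =>
      rcases lt_or_gt_of_ne (by simpa using hz) with h | h
      · exact ⟨⟨(a, b), h⟩, rfl⟩
      · exact ⟨⟨(b, a), h⟩, Subtype.ext Sym2.eq_swap⟩

variable {R : Type u} [CommRing R] {n : ℕ} (C : Matrix (Fin n) (Fin n) R)

lemma isTangent_orth_iff (k : Type u) [CommRing k] [Algebra R k] (x δ : Fin n × Fin n → k)
    (hx : ∀ a, (orthEqs C).F k x a = 0) :
    (orthEqs C).IsTangent x δ ↔
      ofMat ((Matrix.of fun i j => δ (i, j))ᵀ * C.map (algebraMap R k) * (Matrix.of fun i j => x (i, j)) +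
        (Matrix.of fun i j => x (i, j))ᵀ * C.map (algebraMap R k) * (Matrix.of fun i j => δ (i, j))) = 0 := by
  let g : Matrix (Fin n) (Fin n) k := Matrix.of fun i j => x (i, j)
  let d : Matrix (Fin n) (Fin n) k := Matrix.of fun i j => δ (i, j)
  let K := C.map (algebraMap R k)
  let hι : k →+* TrivSqZeroExt k k := TrivSqZeroExt.inlHom k k
  let ε : TrivSqZeroExt k k := inr 1
  have hε : ε * ε = 0 := inr_mul_inr k 1 1
  have hG : (Matrix.of fun i j => (inl (x (i, j)) + inr (δ (i, j)) : TrivSqZeroExt k k)) = g.map hι + ε • d.map hι := by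
    ext i j <;> simp [g, d, hι, ε]
  have hK : C.map (algebraMap R (TrivSqZeroExt k k)) = K.map hι := by
    ext i j <;> simp [K, hι, TrivSqZeroExt.algebraMap_eq_inl']
  have hcalc : (g.map hι + ε • d.map hι)ᵀ * K.map hι * (g.map hι + ε • d.map hι) =
      (gᵀ * K * g).map hι + ε • (dᵀ * K * g + gᵀ * K * d).map hι := by
    simp only [Matrix.transpose_add, Matrix.transpose_smul, Matrix.add_mul, Matrix.mul_add, Matrix.smul_mul,
      Matrix.mul_smul, smul_smul, hε, zero_smul, add_zero, Matrix.map_mul, Matrix.transpose_map,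
      Matrix.map_add hι (map_add hι), smul_add]
    abel
  unfold H21Rep.Eqs.IsTangent
  rw [orthEqs_eq_zero_iff, hG, hK, hcalc, ofMat_add, ofMat_smul, ← ofMat_map, ← ofMat_map, ← ofMat_map,
    (orthEqs_eq_zero_iff C k x).mp hx, add_eq_left]
  constructor
  · intro h
    funext p
    have := congrArg TrivSqZeroExt.snd (congrFun h p)
    simpa [ε, hι, g, d, K] using this
  · intro h
    funext p
    have := congrFun h p
    simp only [Pi.smul_apply, Function.comp_apply, smul_eq_mul]
    change ε * hι (ofMat (dᵀ * K * g + gᵀ * K * d) p) = 0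
    rw [this]
    simp

theorem exists_tangent (hnd : IsUnit (C + Cᵀ).det) (k : Type u) [Field k] [Algebra R k]
    (x : Fin n × Fin n → k) (hx : ∀ a, (orthEqs C).F k x a = 0) :
    ∃ T : Submodule k (Fin n × Fin n → k), Module.finrank k T = n.choose 2 ∧
      ∀ δ, δ ∈ T ↔ (orthEqs C).IsTangent x δ := by
  classical
  let g : Matrix (Fin n) (Fin n) k := Matrix.of fun i j => x (i, j)
  let K := C.map (algebraMap R k)
  let B := K + Kᵀ
  have hB : IsUnit B.det := (nondeg_map C k (Or.inl hnd)).elim id fun h => by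
    rw [show B = (C + Cᵀ).map (algebraMap R k) by
      simp [B, K, Matrix.transpose_map, Matrix.map_add _ (map_add (algebraMap R k))], ← RingHom.mapMatrix_apply,
      ← RingHom.map_det]
    exact hnd.map _
  have hgx := (orthEqs_eq_zero_iff C k x).mp hx
  have hgu : IsUnit g.det := IsUnit.of_pow_eq_one
    (det_sq_of_congr _ g (nondeg_map C k (Or.inl hnd)) hgx) two_ne_zero
  let alt : ({p : Fin n × Fin n // p.1 < p.2} → k) → Matrix (Fin n) (Fin n) k := fun y =>
    Matrix.of fun i j => if h : i < j then y ⟨(i, j), h⟩ else if h' : j < i then -y ⟨(j, i), h'⟩ else 0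
  let Λ : ({p : Fin n × Fin n // p.1 < p.2} → k) →ₗ[k] (Fin n × Fin n → k) :=
    { toFun := fun y p => (g * (B⁻¹ * alt y)) p.1 p.2
      map_add' := fun y y' => by
        have : alt (y + y') = alt y + alt y' := by
          ext i j; simp only [alt, Matrix.of_apply, Matrix.add_apply, Pi.add_apply]; split_ifs <;> simp [add_comm]
        funext p; simp [this, Matrix.mul_add]
      map_smul' := fun c y => by
        have : alt (c • y) = c • alt y := by
          ext i j; simp only [alt, Matrix.of_apply, Matrix.smul_apply, Pi.smul_apply]; split_ifs <;> simp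
        funext p; simp [this, Matrix.mul_smul] }
  have hΛ : ∀ y, B * (g⁻¹ * Matrix.of fun i j => Λ y (i, j)) = alt y := fun y => by
    change B * (g⁻¹ * (g * (B⁻¹ * alt y))) = alt y
    rw [Matrix.nonsing_inv_mul_cancel_left _ _ hgu, Matrix.mul_nonsing_inv_cancel_left _ _ hB]
  have hinj : Function.Injective Λ := fun y y' h => by
    funext p
    have := congrFun (congrFun ((hΛ y).symm.trans (h ▸ hΛ y')) p.1.1) p.1.2
    simpa [alt, p.2] using this
  refine ⟨LinearMap.range Λ, by
    rw [LinearMap.finrank_range_of_inj hinj, Module.finrank_fintype_fun_eq_card, card_pairs], fun δ => ?_⟩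
  rw [isTangent_orth_iff C k x δ hx]
  let d : Matrix (Fin n) (Fin n) k := Matrix.of fun i j => δ (i, j)
  let X := g⁻¹ * d
  let K' := gᵀ * K * g
  have hK' : ofMat K' = ofMat K := hgx
  have hB' : K' + K'ᵀ = B := polar_of_ofMat hK'
  have hd : dᵀ * K * g + gᵀ * K * d = Xᵀ * K' + K' * X := by
    have e : d = g * X := (Matrix.mul_nonsing_inv_cancel_left _ _ hgu).symm
    rw [e, Matrix.transpose_mul]
    simp only [K', Matrix.mul_assoc]
  have hiff : ofMat (dᵀ * K * g + gᵀ * K * d) = 0 ↔ (∀ i, (B * X) i i = 0) ∧ (B * X)ᵀ = -(B * X) := by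
    rw [hd, ← hB']
    have hdiag : ∀ i, (Xᵀ * K' + K' * X) i i = ((K' + K'ᵀ) * X) i i := fun i => by
      simp only [Matrix.add_apply, Matrix.mul_apply, Matrix.transpose_apply, add_mul, Finset.sum_add_distrib]
      rw [add_comm]
      congr 1
      exact Finset.sum_congr rfl fun c _ => mul_comm (X c i) (K' c i)
    have hsum : (Xᵀ * K' + K' * X) + (Xᵀ * K' + K' * X)ᵀ = (K' + K'ᵀ) * X + ((K' + K'ᵀ) * X)ᵀ := by
      simp only [Matrix.transpose_add, Matrix.transpose_mul, Matrix.transpose_transpose, Matrix.add_mul, Matrix.mul_add]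
      abel
    constructor
    · intro h
      refine ⟨fun i => ?_, ?_⟩
      · have := congrFun h (Sym2.mk i i)
        rw [ofMat_mk, if_pos rfl] at this
        rw [← hdiag]; exact this
      · have h0 : ofMat (Xᵀ * K' + K' * X) = ofMat 0 := h.trans (by funext p; induction p using Sym2.ind; simp [ofMat_mk])
        have := polar_of_ofMat h0
        rw [hsum, Matrix.transpose_zero, add_zero] at this
        exact eq_neg_of_add_eq_zero_right this
    · rintro ⟨h1, h2⟩
      refine funext fun p => Sym2.ind (fun i j => ?_) p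
      rw [ofMat_mk]
      by_cases hij : i = j
      · rw [if_pos hij, hdiag, h1]; rfl
      · rw [if_neg hij]
        have := congrFun (congrFun hsum i) j
        rw [h2, add_neg_cancel] at this
        exact this
  rw [hiff]
  constructor
  · rintro ⟨y, rfl⟩
    rw [show B * X = alt y from hΛ y]
    refine ⟨fun i => by simp [alt], ?_⟩
    ext i j
    rcases lt_trichotomy i j with h | rfl | h
    · simp [alt, h, not_lt.mpr h.le]
    · simp [alt]
    · simp [alt, h, not_lt.mpr h.le]
  · rintro ⟨h1, h2⟩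
    refine ⟨fun p => (B * X) p.1.1 p.1.2, ?_⟩
    have : alt (fun p => (B * X) p.1.1 p.1.2) = B * X := by
      ext i j
      rcases lt_trichotomy i j with h | rfl | h
      · simp [alt, h]
      · simp [alt, h1]
      · have h3 : (B * X) i j = -(B * X) j i := congrFun (congrFun h2 j) i
        simp [alt, h, not_lt.mpr h.le, h3]
    funext p
    change (g * (B⁻¹ * alt (fun p => (B * X) p.1.1 p.1.2))) p.1 p.2 = δ p
    rw [this, Matrix.nonsing_inv_mul_cancel_left _ _ hB, Matrix.mul_nonsing_inv_cancel_left _ _ hgu]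
    rfl

end Tangent

end Groth.Agent.H21Clif
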