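import Groth.Agent.H21Clif.Centralizer
import Groth.Agent.H21Clif.Odd
import Mathlib.Algebra.Group.Pi.Units
import Mathlib.Algebra.QuadraticAlgebra.Basic
import Mathlib.RingTheory.Flat.FaithfullyFlat.Algebra
import Mathlib.RingTheory.Flat.Localization
import Mathlib.RingTheory.Finiteness.FinitePresentationLocal
import Mathlib.RingTheory.Finiteness.ModuleFinitePresentation
import Mathlib.RingTheory.Localization.Away.AdjoinRoot

/-!
# Forms of odd rank split fppf-locally
-/

universe u

namespace Groth.Agent.H21Clif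

open TensorProduct IsLocalRing

set_option linter.style.haveILetI false
set_option linter.unusedSectionVars false

section Roots

/-- finitely many quadratic equations have solutions in a free finite faithfully flat extension -/
lemma exists_roots {A : Type u} [CommRing A] : ∀ (k : ℕ) (c : Fin k → A × A),
    ∃ (B : Type u) (_ : CommRing B) (_ : Algebra A B), Module.FaithfullyFlat A B ∧ Algebra.FinitePresentation A B ∧
      ∀ i, ∃ t : B, t * t + algebraMap A B (c i).1 * t + algebraMap A B (c i).2 = 0 := by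
  intro k
  induction k with
  | zero => exact fun c => ⟨A, inferInstance, inferInstance, inferInstance, inferInstance, fun i => i.elim0⟩
  | succ k ih =>
    intro c
    obtain ⟨B, _, _, hff, hfp, hB⟩ := ih fun i => c i.succ
    let p : B := algebraMap A B (c 0).1
    let q : B := algebraMap A B (c 0).2
    let C := QuadraticAlgebra B (-q) (-p)
    haveI : Module.FaithfullyFlat B C :=
      Module.FaithfullyFlat.of_linearEquiv B (Fin 2 →₀ B) (QuadraticAlgebra.basis (-q) (-p)).repr
    haveI : Module.FaithfullyFlat A C := Module.FaithfullyFlat.trans A B C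
    haveI : Module.FinitePresentation B C := Module.finitePresentation_of_projective B C
    haveI : Algebra.FinitePresentation B C := Algebra.FinitePresentation.of_finitePresentation B C
    refine ⟨C, inferInstance, inferInstance, inferInstance, Algebra.FinitePresentation.trans A B C, fun i => ?_⟩
    induction i using Fin.cases with
    | zero =>
      refine ⟨(QuadraticAlgebra.omega : C), ?_⟩
      rw [IsScalarTower.algebraMap_apply A B C, IsScalarTower.algebraMap_apply A B C,
        QuadraticAlgebra.omega_mul_omega_eq_add]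
      simp only [Algebra.smul_def, mul_one, map_neg, p, q]
      ring
    | succ i =>
      obtain ⟨t, ht⟩ := hB i
      refine ⟨algebraMap B C t, ?_⟩
      rw [IsScalarTower.algebraMap_apply A B C, IsScalarTower.algebraMap_apply A B C, ← map_mul, ← map_mul,
        ← map_add, ← map_add, ht, map_zero]

end Roots

section Block

variable {m : ℕ}

/-- index of the first vector of a pair -/
def iE (i : Fin m) : Fin (2 * m + 1) := ⟨2 * i + 1, by omega⟩

/-- index of the second vector of a pair -/
def iF (i : Fin m) : Fin (2 * m + 1) := ⟨2 * i + 2, by omega⟩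

/-- two indices form a pair -/
def Pair (k l : Fin (2 * m + 1)) : Prop := ∃ i, (k = iE i ∧ l = iF i) ∨ (k = iF i ∧ l = iE i)

lemma idx_cases (k : Fin (2 * m + 1)) : k = 0 ∨ (∃ i, k = iE i) ∨ ∃ i, k = iF i := by
  rcases Nat.eq_zero_or_pos (k : ℕ) with h | h
  · exact Or.inl (Fin.ext h)
  · rcases Nat.even_or_odd' (k : ℕ) with ⟨j, hj | hj⟩
    · exact Or.inr (Or.inr ⟨⟨j - 1, by omega⟩, Fin.ext (by simp [iF]; omega)⟩)
    · exact Or.inr (Or.inl ⟨⟨j, by omega⟩, Fin.ext (by simp [iE]; omega)⟩)

variable {A : Type u} [CommRing A] {N : Type u} [AddCommGroup N] [Module A N]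

/-- block diagonal shape with unit invariants -/
structure Block (b : Module.Basis (Fin (2 * m + 1)) A N) (Q : QuadraticForm A N) (x : Fin (2 * m + 1) → N) : Prop where
  det : IsUnit (b.toMatrix x).det
  zero : ∀ k l, k ≠ l → ¬ Pair k l → QuadraticMap.polar Q (x k) (x l) = 0
  v : IsUnit (Q (x 0))
  a : ∀ i, IsUnit (Q (x (iE i)))
  p : ∀ i, IsUnit (QuadraticMap.polar Q (x (iE i)) (x (iF i)))
  disc : ∀ i, IsUnit (QuadraticMap.polar Q (x (iE i)) (x (iF i)) * QuadraticMap.polar Q (x (iE i)) (x (iF i)) -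
    4 * (Q (x (iE i)) * Q (x (iF i))))

/-- the split shape -/
structure IsSplit (d : Module.Basis (Fin (2 * m + 1)) A N) (Q : QuadraticForm A N) : Prop where
  zero : ∀ k l, k ≠ l → ¬ Pair k l → QuadraticMap.polar Q (d k) (d l) = 0
  v : Q (d 0) = 1
  e : ∀ i, Q (d (iE i)) = 0
  f : ∀ i, Q (d (iF i)) = 0
  p : ∀ i, QuadraticMap.polar Q (d (iE i)) (d (iF i)) = 1

end Block

section Local

variable {A : Type u} [CommRing A] [IsLocalRing A] {N : Type u} [AddCommGroup N] [Module A N] {Q : QuadraticForm A N}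

local notation "𝐁" => QuadraticMap.polarBilin

/-- a regular submodule of even rank is an orthogonal sum of pairs -/
lemma exists_pairs : ∀ (k : ℕ) (W : Submodule A N) [Module.Free A W] [Module.Finite A W],
    Module.finrank A W = 2 * k → RegOn Q W →
    ∃ e f : Fin k → N, (∀ i, e i ∈ W ∧ f i ∈ W) ∧
      (∀ i j, i ≠ j → 𝐁 Q (e i) (e j) = 0 ∧ 𝐁 Q (e i) (f j) = 0 ∧ 𝐁 Q (f i) (f j) = 0) ∧
      (∀ i, IsUnit (Q (e i)) ∧ IsUnit (𝐁 Q (e i) (f i)) ∧
        IsUnit (𝐁 Q (e i) (f i) * 𝐁 Q (e i) (f i) - 4 * (Q (e i) * Q (f i)))) ∧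
      W ≤ Submodule.span A (Set.range e ∪ Set.range f) := by
  intro k
  induction k with
  | zero =>
    intro W _ _ hr _
    refine ⟨fun i => i.elim0, fun i => i.elim0, fun i => i.elim0, fun i => i.elim0, fun i => i.elim0, fun w hw => ?_⟩
    haveI : IsEmpty (Fin (Module.finrank A W)) := by rw [show Module.finrank A W = 0 by omega]; infer_instance
    haveI : Subsingleton W := (Module.finBasis A W).repr.toEquiv.subsingleton
    have h0 : (⟨w, hw⟩ : W) = 0 := Subsingleton.elim _ _
    rw [show w = 0 from congrArg Subtype.val h0]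
    exact Submodule.zero_mem _
  | succ k ih =>
    intro W _ _ hr hW
    obtain ⟨e₀, he₀, f₀, hf₀, hef, hd⟩ := exists_pair hW (by omega)
    obtain ⟨W', _, _, hle, hW', hfr, horth, hdec⟩ := exists_orth_complement hW he₀ hf₀ hef hd
    obtain ⟨e', f', hmem, hz, hu, hsp⟩ := ih W' (by omega) hW'
    -- a pair with unit value on its first vector, with the same span
    obtain ⟨e, f, he, hf, hue, hup, hudisc, hespan, hfspan, horth'⟩ : ∃ e f, e ∈ W ∧ f ∈ W ∧ IsUnit (Q e) ∧
        IsUnit (𝐁 Q e f) ∧ IsUnit (𝐁 Q e f * 𝐁 Q e f - 4 * (Q e * Q f)) ∧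
        e₀ ∈ Submodule.span A {e, f} ∧ f₀ ∈ Submodule.span A {e, f} ∧
        ∀ w ∈ W', 𝐁 Q e w = 0 ∧ 𝐁 Q f w = 0 := by
      by_cases h1 : IsUnit (Q e₀)
      · exact ⟨e₀, f₀, he₀, hf₀, h1, by rw [hef]; exact isUnit_one, by rw [hef, one_mul]; exact hd,
          Submodule.subset_span (by simp), Submodule.subset_span (by simp), horth⟩
      by_cases h2 : IsUnit (Q f₀)
      · refine ⟨f₀, e₀, hf₀, he₀, h2, ?_, ?_, Submodule.subset_span (by simp), Submodule.subset_span (by simp),
          fun w hw => (horth w hw).symm⟩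
        · rw [polar_symm, hef]; exact isUnit_one
        · rw [polar_symm, hef, one_mul, mul_comm (Q f₀)]; exact hd
      have hQadd : Q (e₀ + f₀) = Q e₀ + Q f₀ + 1 := by
        rw [QuadraticMap.map_add Q, ← QuadraticMap.polarBilin_apply_apply, hef]
      have hpol : 𝐁 Q (e₀ + f₀) f₀ = 1 + 2 * Q f₀ := by
        rw [map_add, LinearMap.add_apply, hef, polar_self]
      have hm1 : Q e₀ ∈ maximalIdeal A := (mem_maximalIdeal _).mpr h1
      have hm2 : Q f₀ ∈ maximalIdeal A := (mem_maximalIdeal _).mpr h2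
      refine ⟨e₀ + f₀, f₀, add_mem he₀ hf₀, hf₀, ?_, ?_, ?_, ?_, Submodule.subset_span (by simp),
        fun w hw => ⟨by rw [map_add, LinearMap.add_apply, (horth w hw).1, (horth w hw).2, add_zero], (horth w hw).2⟩⟩
      · rw [hQadd, ← notMem_maximalIdeal]
        intro h
        exact (maximalIdeal.isMaximal A).ne_top ((Ideal.eq_top_iff_one _).mpr
          (by simpa [add_sub_cancel_left] using sub_mem h (add_mem hm1 hm2)))
      · rw [hpol, ← notMem_maximalIdeal]
        intro h
        exact (maximalIdeal.isMaximal A).ne_top ((Ideal.eq_top_iff_one _).mpr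
          (by simpa using sub_mem h (Ideal.mul_mem_left _ 2 hm2)))
      · rw [hpol, hQadd, show (1 + 2 * Q f₀) * (1 + 2 * Q f₀) - 4 * ((Q e₀ + Q f₀ + 1) * Q f₀) =
          1 - 4 * (Q e₀ * Q f₀) by ring]
        exact hd
      · rw [show e₀ = (e₀ + f₀) - f₀ by abel]
        exact sub_mem (Submodule.subset_span (by simp)) (Submodule.subset_span (by simp))
    refine ⟨Fin.cons e e', Fin.cons f f', fun i => ?_, fun i j hij => ?_, fun i => ?_, fun w hw => ?_⟩
    · induction i using Fin.cases with
      | zero => exact ⟨he, hf⟩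
      | succ i => exact ⟨hle (hmem i).1, hle (hmem i).2⟩
    · induction i using Fin.cases with
      | zero =>
        induction j using Fin.cases with
        | zero => exact absurd rfl hij
        | succ j =>
          exact ⟨(horth' _ (hmem j).1).1, (horth' _ (hmem j).2).1, (horth' _ (hmem j).2).2⟩
      | succ i =>
        induction j using Fin.cases with
        | zero =>
          refine ⟨?_, ?_, ?_⟩ <;> simp only [Fin.cons_succ, Fin.cons_zero] <;> rw [polar_symm]
          · exact (horth' _ (hmem i).1).1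
          · exact (horth' _ (hmem i).1).2
          · exact (horth' _ (hmem i).2).2
        | succ j => exact hz i j fun h => hij (congrArg Fin.succ h)
    · induction i using Fin.cases with
      | zero => exact ⟨hue, hup, hudisc⟩
      | succ i => exact hu i
    · set S := Submodule.span A
        (Set.range (Fin.cons e e' : Fin (k + 1) → N) ∪ Set.range (Fin.cons f f' : Fin (k + 1) → N))
      have h2 : Submodule.span A {e, f} ≤ S := by
        refine Submodule.span_le.mpr ?_
        rintro x (rfl | rfl)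
        · exact Submodule.subset_span (Or.inl ⟨0, rfl⟩)
        · exact Submodule.subset_span (Or.inr ⟨0, rfl⟩)
      have h3 : Submodule.span A (Set.range e' ∪ Set.range f') ≤ S := by
        refine Submodule.span_le.mpr ?_
        rintro x (⟨i, rfl⟩ | ⟨i, rfl⟩)
        · exact Submodule.subset_span (Or.inl ⟨i.succ, Fin.cons_succ _ _ _⟩)
        · exact Submodule.subset_span (Or.inr ⟨i.succ, Fin.cons_succ _ _ _⟩)
      obtain ⟨s, t, hst⟩ := hdec w hw
      rw [show w = (w - s • e₀ - t • f₀) + s • e₀ + t • f₀ by abel]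
      exact add_mem (add_mem (h3 (hsp hst)) (S.smul_mem s (h2 hespan))) (S.smul_mem t (h2 hfspan))

variable {m : ℕ} (b : Module.Basis (Fin (2 * m + 1)) A N)

include b in
/-- block bases exist over a local ring -/
lemma exists_block (hQ : QuadGrp.IsSemiregular b (LinearEquiv.refl A A) Q) :
    ∃ x : Fin (2 * m + 1) → N, Block b Q x := by
  haveI := Module.Finite.of_basis b
  obtain ⟨d, horth, hv, hP⟩ := exists_orth_basis b Q (even_two_mul m) hQ
  have hli : LinearIndependent A fun i : Fin (2 * m) => d i.castSucc :=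
    d.linearIndependent.comp _ (Fin.castSucc_injective _)
  let c := Module.Basis.span hli
  let W := Submodule.span A (Set.range fun i : Fin (2 * m) => d i.castSucc)
  haveI : Module.Free A W := Module.Free.of_basis c
  haveI : Module.Finite A W := Module.Finite.of_basis c
  have hc : ∀ i, ((c i : W) : N) = d i.castSucc := fun i => congrArg Subtype.val (Module.Basis.span_apply hli i)
  have hW : RegOn Q W := by
    let F : W →ₗ[A] Module.Dual A W :=
      (LinearMap.lcomp A A W.subtype) ∘ₗ (QuadraticMap.polarBilin Q) ∘ₗ W.subtype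
    have hmat : LinearMap.toMatrix c c.dualBasis F = polarMat Q fun i : Fin (2 * m) => d i.castSucc := by
      ext i j
      rw [LinearMap.toMatrix_apply, Module.Basis.dualBasis_repr]
      change QuadraticMap.polarBilin Q (c j : N) (c i : N) = _
      rw [hc, hc, QuadraticMap.polarBilin_apply_apply, QuadraticMap.polar_comm]
      rfl
    exact (LinearEquiv.ofIsUnitDet (f := F) (by rw [hmat]; exact hP)).bijective
  obtain ⟨e, f, hmem, hz, hu, hsp⟩ := exists_pairs m W (by
    rw [Module.finrank_eq_card_basis c, Fintype.card_fin]) hW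
  have hvW : ∀ w ∈ W, 𝐁 Q (d (Fin.last _)) w = 0 := fun w hw => by
    change w ∈ LinearMap.ker (𝐁 Q (d (Fin.last _)))
    refine Submodule.span_le.mpr ?_ hw
    rintro _ ⟨i, rfl⟩
    change 𝐁 Q (d (Fin.last _)) (d i.castSucc) = 0
    rw [polar_symm]
    exact horth i
  let x : Fin (2 * m + 1) → N := fun k =>
    if h0 : (k : ℕ) = 0 then d (Fin.last _)
    else if h1 : (k : ℕ) % 2 = 1 then e ⟨((k : ℕ) - 1) / 2, by omega⟩ else f ⟨((k : ℕ) - 2) / 2, by omega⟩
  have x0 : x 0 = d (Fin.last _) := by simp [x]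
  have xE : ∀ i, x (iE i) = e i := fun i => by
    simp only [x, iE]
    rw [dif_neg (by omega), dif_pos (by omega)]
    congr 1
    exact Fin.ext (by simp)
  have xF : ∀ i, x (iF i) = f i := fun i => by
    simp only [x, iF]
    rw [dif_neg (by omega), dif_neg (by omega)]
    congr 1
    exact Fin.ext (by simp)
  refine ⟨x, ?_, fun k l hkl hnp => ?_, by rw [x0]; exact hv, fun i => by rw [xE]; exact (hu i).1,
    fun i => by rw [xE, xF, ← QuadraticMap.polarBilin_apply_apply]; exact (hu i).2.1,
    fun i => by rw [xE, xF, ← QuadraticMap.polarBilin_apply_apply]; exact (hu i).2.2⟩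
  · have hspan : ∀ i, b i ∈ Submodule.span A (Set.range x) := fun i => by
      have hW' : W ≤ Submodule.span A (Set.range x) := hsp.trans (Submodule.span_le.mpr (by
        rintro y (⟨j, rfl⟩ | ⟨j, rfl⟩)
        · exact Submodule.subset_span ⟨iE j, xE j⟩
        · exact Submodule.subset_span ⟨iF j, xF j⟩))
      have htop : (⊤ : Submodule A N) ≤ Submodule.span A (Set.range x) := by
        rw [← d.span_eq]
        refine Submodule.span_le.mpr ?_
        rintro _ ⟨j, rfl⟩
        induction j using Fin.lastCases with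
        | last => exact Submodule.subset_span ⟨0, x0⟩
        | cast j => exact hW' (Submodule.subset_span ⟨j, rfl⟩)
      exact htop trivial
    obtain ⟨d', hd'⟩ := exists_basis_of_span b x hspan
    rw [← funext hd']
    haveI := b.invertibleToMatrix d'
    exact Matrix.isUnit_det_of_invertible _
  · rw [← QuadraticMap.polarBilin_apply_apply]
    rcases idx_cases k with rfl | ⟨i, rfl⟩ | ⟨i, rfl⟩ <;> rcases idx_cases l with rfl | ⟨j, rfl⟩ | ⟨j, rfl⟩
    · exact absurd rfl hkl
    · rw [x0, xE]; exact hvW _ (hmem j).1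
    · rw [x0, xF]; exact hvW _ (hmem j).2
    · rw [x0, xE, polar_symm]; exact hvW _ (hmem i).1
    · rw [xE, xE]; exact (hz i j fun h => hkl (by rw [h])).1
    · rw [xE, xF]; exact (hz i j fun h => hnp ⟨i, Or.inl ⟨rfl, by rw [h]⟩⟩).2.1
    · rw [x0, xF, polar_symm]; exact hvW _ (hmem i).2
    · rw [xF, xE, polar_symm]
      exact (hz j i fun h => hnp ⟨i, Or.inr ⟨rfl, by rw [h]⟩⟩).2.1
    · rw [xF, xF]; exact (hz i j fun h => hkl (by rw [h])).2.2

end Local

section Global

variable {R : Type u} [CommRing R] {M : Type u} [AddCommGroup M] [Module R M] [Module.Free R M] {m : ℕ}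
variable (b : Module.Basis (Fin (2 * m + 1)) R M) (Q : QuadraticForm R M)

/-- block data descends to a basic open -/
lemma exists_block_away (hQ : QuadGrp.IsSemiregular b (LinearEquiv.refl R R) Q) (p : Ideal R) [p.IsPrime] :
    ∃ T ∉ p, ∃ y : Fin (2 * m + 1) → M, Block (Algebra.TensorProduct.basis (Localization.Away T) b)
      (QuadGrp.baseChangeForm (Localization.Away T) Q) fun k => 1 ⊗ₜ y k := by
  classical
  let Rp := Localization.AtPrime p
  let bp := Algebra.TensorProduct.basis Rp b
  obtain ⟨x, hx⟩ := exists_block bp (isSemiregular_baseChange b hQ Rp)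
  choose ys hys using fun k => IsLocalizedModule.surj p.primeCompl (TensorProduct.mk R Rp M 1) (x k)
  let s : R := ∏ k, ((ys k).2 : R)
  have hsp : s ∉ p := fun hmem => by
    obtain ⟨k, -, h⟩ := (Ideal.IsPrime.prod_mem_iff (p := p)).mp hmem
    exact (ys k).2.2 h
  let y : Fin (2 * m + 1) → M := fun k => (∏ l ∈ Finset.univ.erase k, ((ys l).2 : R)) • (ys k).1
  set σ := algebraMap R Rp s with hσ
  have hσu : IsUnit σ := (IsLocalization.AtPrime.isUnit_to_map_iff Rp p s).mpr hsp
  have hy : ∀ k, (1 : Rp) ⊗ₜ[R] y k = σ • x k := fun k => by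
    have h := hys k
    change ((ys k).2 : R) • x k = (1 : Rp) ⊗ₜ[R] (ys k).1 at h
    change (1 : Rp) ⊗ₜ[R] ((∏ l ∈ Finset.univ.erase k, ((ys l).2 : R)) • (ys k).1) = _
    rw [TensorProduct.tmul_smul, ← h, smul_smul, Finset.prod_erase_mul _ _ (Finset.mem_univ k), hσ, algebraMap_smul]
  -- the invariants in `R`
  let P : Fin (2 * m + 1) → Fin (2 * m + 1) → R := fun k l => QuadraticMap.polar Q (y k) (y l)
  let D := (b.toMatrix y).det
  let disc : Fin m → R := fun i => P (iE i) (iF i) * P (iE i) (iF i) - 4 * (Q (y (iE i)) * Q (y (iF i)))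
  have hQe : ∀ k, algebraMap R Rp (Q (y k)) = σ * σ * QuadGrp.baseChangeForm Rp Q (x k) := fun k => by
    have h := baseChangeForm_tmul Rp Q 1 (y k)
    rw [one_mul, one_mul, hy, QuadraticMap.map_smul, smul_eq_mul] at h
    exact h.symm
  have hPe : ∀ k l, algebraMap R Rp (P k l) = σ * σ * QuadraticMap.polar (QuadGrp.baseChangeForm Rp Q) (x k) (x l) :=
    fun k l => by
    have h := polar_baseChangeForm_tmul Rp Q 1 1 (y k) (y l)
    rw [one_mul, one_mul, hy, hy, QuadraticMap.polar_smul_left, QuadraticMap.polar_smul_right, smul_eq_mul,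
      smul_eq_mul, ← mul_assoc] at h
    exact h.symm
  have hnot : ∀ r : R, IsUnit (algebraMap R Rp r) → r ∉ p := fun r h =>
    (IsLocalization.AtPrime.isUnit_to_map_iff Rp p r).mp h
  have hD : D ∉ p := hnot _ (by
    have hmat : (b.toMatrix y).map (algebraMap R Rp) = σ • bp.toMatrix x := by
      ext i k
      rw [Matrix.map_apply, Matrix.smul_apply, Module.Basis.toMatrix_apply, Module.Basis.toMatrix_apply, smul_eq_mul,
        ← smul_eq_mul σ, ← Finsupp.smul_apply, ← map_smul, ← hy]
      simp [bp, Algebra.smul_def]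
    rw [RingHom.map_det, RingHom.mapMatrix_apply, hmat, Matrix.det_smul]
    exact (hσu.pow _).mul hx.det)
  have hv : Q (y 0) ∉ p := hnot _ (by rw [hQe]; exact (hσu.mul hσu).mul hx.v)
  have ha : ∀ i, Q (y (iE i)) ∉ p := fun i => hnot _ (by rw [hQe]; exact (hσu.mul hσu).mul (hx.a i))
  have hp' : ∀ i, P (iE i) (iF i) ∉ p := fun i => hnot _ (by rw [hPe]; exact (hσu.mul hσu).mul (hx.p i))
  have hdisc : ∀ i, disc i ∉ p := fun i => hnot _ (by
    simp only [disc, map_sub, map_mul, map_ofNat, hPe, hQe]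
    convert (((hσu.mul hσu).mul (hσu.mul hσu)).mul (hx.disc i)) using 1
    ring)
  have hkill : ∀ k l, ∃ t ∉ p, k ≠ l → ¬ Pair k l → t * P k l = 0 := fun k l => by
    by_cases h : k ≠ l ∧ ¬ Pair k l
    · obtain ⟨t, ht⟩ := (IsLocalization.eq_iff_exists p.primeCompl Rp).mp
        (show algebraMap R Rp (P k l) = algebraMap R Rp 0 by rw [hPe, hx.zero k l h.1 h.2, mul_zero, map_zero])
      exact ⟨t, t.2, fun _ _ => by rw [ht, mul_zero]⟩
    · exact ⟨1, fun h1 => (Ideal.IsPrime.ne_top ‹_›) ((Ideal.eq_top_iff_one p).mpr h1), fun h1 h2 => absurd ⟨h1, h2⟩ h⟩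
  choose t ht hte using hkill
  let T := D * Q (y 0) * (∏ i, Q (y (iE i))) * (∏ i, P (iE i) (iF i)) * (∏ i, disc i) * ∏ kl : Fin (2 * m + 1) × Fin (2 * m + 1), t kl.1 kl.2
  have hT : T ∉ p := by
    have hprod : ∀ {ι' : Type} [Fintype ι'] (g : ι' → R), (∀ i, g i ∉ p) → ∏ i, g i ∉ p := fun g hg hmem => by
      obtain ⟨i, -, h⟩ := (Ideal.IsPrime.prod_mem_iff (p := p)).mp hmem
      exact hg i h
    have hmul : ∀ {a c : R}, a ∉ p → c ∉ p → a * c ∉ p := fun ha hc h =>
      (Ideal.IsPrime.mem_or_mem ‹p.IsPrime› h).elim ha hc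
    exact hmul (hmul (hmul (hmul (hmul hD hv) (hprod _ ha)) (hprod _ hp')) (hprod _ hdisc))
      (hprod _ fun kl => ht kl.1 kl.2)
  refine ⟨T, hT, y, ?_⟩
  let A := Localization.Away T
  have hu : ∀ r, r ∣ T → IsUnit (algebraMap R A r) := fun r hr =>
    isUnit_of_dvd_unit (map_dvd _ hr) (IsLocalization.Away.algebraMap_isUnit T)
  have dD : D ∣ T := ((((dvd_mul_right _ _).mul_right _).mul_right _).mul_right _).mul_right _
  have dv : Q (y 0) ∣ T := ((((dvd_mul_left _ _).mul_right _).mul_right _).mul_right _).mul_right _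
  have dA : ∀ i, Q (y (iE i)) ∣ T := fun i =>
    ((((Finset.dvd_prod_of_mem _ (Finset.mem_univ i)).mul_left _).mul_right _).mul_right _).mul_right _
  have dP : ∀ i, P (iE i) (iF i) ∣ T := fun i =>
    (((Finset.dvd_prod_of_mem (fun i => P (iE i) (iF i)) (Finset.mem_univ i)).mul_left _).mul_right _).mul_right _
  have ddisc : ∀ i, disc i ∣ T := fun i =>
    ((Finset.dvd_prod_of_mem _ (Finset.mem_univ i)).mul_left _).mul_right _
  have dt : ∀ k l, t k l ∣ T := fun k l =>
    (Finset.dvd_prod_of_mem (fun kl : Fin (2 * m + 1) × Fin (2 * m + 1) => t kl.1 kl.2) (Finset.mem_univ (k, l))).mul_left _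
  refine ⟨?_, fun k l h1 h2 => ?_, ?_, fun i => ?_, fun i => ?_, fun i => ?_⟩
  · have hmat : ((Algebra.TensorProduct.basis A b).toMatrix fun k => (1 : A) ⊗ₜ[R] y k) =
        (b.toMatrix y).map (algebraMap R A) := by
      ext i k
      rw [Module.Basis.toMatrix_apply, Matrix.map_apply, Module.Basis.toMatrix_apply]
      simp [Algebra.smul_def]
    rw [hmat, ← RingHom.mapMatrix_apply, ← RingHom.map_det]
    exact hu _ dD
  · rw [polar_baseChangeForm_tmul, one_mul, one_mul]
    refine (hu _ (dt k l)).mul_right_eq_zero.mp ?_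
    rw [← map_mul, hte k l h1 h2, map_zero]
  · simpa only [baseChangeForm_tmul, one_mul] using hu _ dv
  · simpa only [baseChangeForm_tmul, one_mul] using hu _ (dA i)
  · simpa only [polar_baseChangeForm_tmul, one_mul] using hu _ (dP i)
  · simpa only [polar_baseChangeForm_tmul, baseChangeForm_tmul, one_mul, disc, P, map_sub, map_mul, map_ofNat]
      using hu _ (ddisc i)

lemma Block.map {A B : Type u} [CommRing A] [Algebra R A] [CommRing B] [Algebra R B] (φ : A →ₐ[R] B)
    {x : Fin (2 * m + 1) → A ⊗[R] M}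
    (h : Block (Algebra.TensorProduct.basis A b) (QuadGrp.baseChangeForm A Q) x) :
    Block (Algebra.TensorProduct.basis B b) (QuadGrp.baseChangeForm B Q)
      fun k => LinearMap.rTensor M φ.toLinearMap (x k) := by
  refine ⟨?_, fun k l h1 h2 => ?_, ?_, fun i => ?_, fun i => ?_, fun i => ?_⟩
  · have hmat : ((Algebra.TensorProduct.basis B b).toMatrix fun k => LinearMap.rTensor M φ.toLinearMap (x k)) =
        ((Algebra.TensorProduct.basis A b).toMatrix x).map φ.toRingHom := by
      ext i k
      rw [Module.Basis.toMatrix_apply, Matrix.map_apply, Module.Basis.toMatrix_apply, basis_repr_rTensor]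
      rfl
    rw [hmat, ← RingHom.mapMatrix_apply, ← RingHom.map_det]
    exact h.det.map _
  · rw [polar_rTensor, h.zero k l h1 h2, map_zero]
  · rw [baseChangeForm_rTensor]; exact h.v.map φ
  · rw [baseChangeForm_rTensor]; exact (h.a i).map φ
  · rw [polar_rTensor]; exact (h.p i).map φ
  · rw [polar_rTensor, baseChangeForm_rTensor, baseChangeForm_rTensor, ← map_mul, ← map_mul, ← map_ofNat φ 4,
      ← map_mul, ← map_sub]
    exact (h.disc i).map φ

include b in
/-- block data exists on a faithfully flat finitely presented algebra -/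
lemma exists_block_fppf (hQ : QuadGrp.IsSemiregular b (LinearEquiv.refl R R) Q) :
    ∃ (A : Type u) (_ : CommRing A) (_ : Algebra R A), Module.FaithfullyFlat R A ∧ Algebra.FinitePresentation R A ∧
      ∃ x : Fin (2 * m + 1) → A ⊗[R] M,
        Block (Algebra.TensorProduct.basis A b) (QuadGrp.baseChangeForm A Q) x := by
  classical
  choose T hT y hy using fun p : PrimeSpectrum R => exists_block_away b Q hQ p.asIdeal
  have hspan : Ideal.span (Set.range T) = ⊤ := by
    by_contra hne
    obtain ⟨p, hp, hle⟩ := Ideal.exists_le_maximal _ hne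
    exact hT ⟨p, hp.isPrime⟩ (hle (Ideal.subset_span ⟨_, rfl⟩))
  obtain ⟨S, hS, hone⟩ := Submodule.mem_span_finite_of_mem_span
    (show (1 : R) ∈ Submodule.span R (Set.range T) by
      change (1 : R) ∈ Ideal.span (Set.range T)
      rw [hspan]; trivial)
  let J := ↥S
  choose pj hpj using fun j : J => hS j.2
  let A := ∀ j : J, Localization.Away (T (pj j))
  let ev : ∀ j : J, A →ₐ[R] Localization.Away (T (pj j)) := fun j =>
    Pi.evalAlgHom R (fun j => Localization.Away (T (pj j))) j
  haveI : ∀ j : J, Module.Flat R (Localization.Away (T (pj j))) := fun j =>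
    IsLocalization.flat _ (Submonoid.powers (T (pj j)))
  haveI : Module.Flat R (Π₀ j : J, Localization.Away (T (pj j))) :=
    Module.Flat.dfinsupp
  haveI : Module.Flat R A :=
    Module.Flat.of_linearEquiv
      (DFinsupp.linearEquivFunOnFintype (R := R) (M := fun j : J => Localization.Away (T (pj j)))).symm
  have hsurj : Function.Surjective (PrimeSpectrum.comap (algebraMap R A)) := fun q => by
    obtain ⟨j, hj⟩ : ∃ j : J, T (pj j) ∉ q.asIdeal := by
      by_contra! hall
      refine q.isPrime.ne_top ((Ideal.eq_top_iff_one _).mpr ?_)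
      exact Submodule.span_le.mpr (fun r hr => by
        have := hall ⟨r, hr⟩
        rwa [hpj] at this) hone
    have hq : q ∈ Set.range (PrimeSpectrum.comap (algebraMap R (Localization.Away (T (pj j))))) := by
      rw [PrimeSpectrum.localization_away_comap_range (Localization.Away (T (pj j))) (T (pj j))]
      exact hj
    obtain ⟨q', hq'⟩ := hq
    exact ⟨PrimeSpectrum.comap (ev j).toRingHom q', by rw [← hq']; rfl⟩
  haveI hff : Module.FaithfullyFlat R A := Module.FaithfullyFlat.of_comap_surjective hsurj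
  haveI : ∀ j : J, Algebra.FinitePresentation R (Localization.Away (T (pj j))) := fun j =>
    IsLocalization.Away.finitePresentation (T (pj j))
  let X : Fin (2 * m + 1) → A ⊗[R] M := fun k =>
    ∑ i, (fun j => algebraMap R (Localization.Away (T (pj j))) (b.repr (y (pj j) k) i) : A) ⊗ₜ[R] b i
  have hX : ∀ j k, LinearMap.rTensor M (ev j).toLinearMap (X k) = 1 ⊗ₜ[R] y (pj j) k := fun j k => by
    simp only [X, map_sum, LinearMap.rTensor_tmul]
    conv_rhs => rw [← b.sum_repr (y (pj j) k), TensorProduct.tmul_sum]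
    refine Finset.sum_congr rfl fun i _ => ?_
    rw [TensorProduct.tmul_smul, TensorProduct.smul_tmul', Algebra.smul_def, mul_one]
    rfl
  have hunit : ∀ a : A, (∀ j, IsUnit (ev j a)) → IsUnit a := fun a h => Pi.isUnit_iff.mpr h
  refine ⟨A, inferInstance, inferInstance, hff, inferInstance, X, ?_, fun k l h1 h2 => funext fun j => ?_,
    hunit _ fun j => ?_, fun i => hunit _ fun j => ?_, fun i => hunit _ fun j => ?_, fun i => hunit _ fun j => ?_⟩
  · refine hunit _ fun j => ?_
    have hmat : ((Algebra.TensorProduct.basis A b).toMatrix X).map (ev j).toRingHom =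
        (Algebra.TensorProduct.basis (Localization.Away (T (pj j))) b).toMatrix fun k => 1 ⊗ₜ[R] y (pj j) k := by
      ext i k
      rw [Module.Basis.toMatrix_apply, Matrix.map_apply, Module.Basis.toMatrix_apply, ← hX, basis_repr_rTensor]
      rfl
    change IsUnit ((ev j).toRingHom _)
    rw [RingHom.map_det, RingHom.mapMatrix_apply, hmat]
    exact (hy (pj j)).det
  · have h := (hy (pj j)).zero k l h1 h2
    simp only [← hX, polar_rTensor] at h
    exact h
  · rw [← baseChangeForm_rTensor, hX]; exact (hy (pj j)).v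
  · rw [← baseChangeForm_rTensor, hX]; exact (hy (pj j)).a i
  · rw [← polar_rTensor, hX, hX]; exact (hy (pj j)).p i
  · rw [map_sub, map_mul, map_mul, map_mul, map_ofNat, ← polar_rTensor, ← baseChangeForm_rTensor,
      ← baseChangeForm_rTensor, hX, hX]
    exact (hy (pj j)).disc i

/-- pairs with roots give a split basis -/
lemma exists_isSplit_of_roots {B : Type u} [CommRing B] {N : Type u} [AddCommGroup N] [Module B N]
    (bB : Module.Basis (Fin (2 * m + 1)) B N) {Q' : QuadraticForm B N} {x : Fin (2 * m + 1) → N}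
    (hx : Block bB Q' x) (r : B) (hr : r * r * Q' (x 0) = 1) (t : Fin m → B)
    (ht : ∀ i, Q' (x (iE i)) * (t i * t i) + QuadraticMap.polar Q' (x (iE i)) (x (iF i)) * t i + Q' (x (iF i)) = 0) :
    ∃ d : Module.Basis (Fin (2 * m + 1)) B N, IsSplit d Q' := by
  haveI := Module.Finite.of_basis bB
  let a := fun i => Q' (x (iE i))
  let c := fun i => Q' (x (iF i))
  let β := fun i => QuadraticMap.polar Q' (x (iE i)) (x (iF i))
  let t' := fun i => -((↑(hx.a i).unit⁻¹ : B) * β i) - t i
  have ha : ∀ i, (↑(hx.a i).unit⁻¹ : B) * a i = 1 := fun i => (hx.a i).val_inv_mul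
  let u := fun i => t i • x (iE i) + x (iF i)
  let w := fun i => t' i • x (iE i) + x (iF i)
  have hQc : ∀ (i : Fin m) (s : B), Q' (s • x (iE i) + x (iF i)) = a i * (s * s) + β i * s + c i := fun i s => by
    rw [QuadraticMap.map_add Q', QuadraticMap.map_smul, QuadraticMap.polar_smul_left, smul_eq_mul, smul_eq_mul]
    ring
  have hQu : ∀ i, Q' (u i) = 0 := fun i => by rw [hQc]; exact ht i
  have hQw : ∀ i, Q' (w i) = 0 := fun i => by
    rw [hQc]
    simp only [t']
    linear_combination ht i + ((↑(hx.a i).unit⁻¹ : B) * β i * β i + 2 * β i * t i) * ha i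
  have hpair : ∀ i, QuadraticMap.polar Q' (u i) (w i) =
      -((↑(hx.a i).unit⁻¹ : B) * (β i * β i - 4 * (a i * c i))) := fun i => by
    simp only [u, w, QuadraticMap.polar_add_left, QuadraticMap.polar_add_right, QuadraticMap.polar_smul_left,
      QuadraticMap.polar_smul_right, QuadraticMap.polar_self, smul_eq_mul, nsmul_eq_mul, Nat.cast_ofNat,
      QuadraticMap.polar_comm Q' (x (iF i)) (x (iE i))]
    simp only [t']
    linear_combination (-2 : B) * ht i + (-(2 * β i * t i) - 4 * c i) * ha i
  have hpu : ∀ i, IsUnit (QuadraticMap.polar Q' (u i) (w i)) := fun i => by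
    rw [hpair]; exact ((Units.isUnit _).mul (hx.disc i)).neg
  let d : Fin (2 * m + 1) → N := fun k =>
    if h0 : (k : ℕ) = 0 then r • x 0
    else if h1 : (k : ℕ) % 2 = 1 then u ⟨((k : ℕ) - 1) / 2, by omega⟩
      else (↑(hpu ⟨((k : ℕ) - 2) / 2, by omega⟩).unit⁻¹ : B) • w ⟨((k : ℕ) - 2) / 2, by omega⟩
  have d0 : d 0 = r • x 0 := by simp [d]
  have dE : ∀ i, d (iE i) = u i := fun i => by
    simp only [d, iE]
    rw [dif_neg (by omega), dif_pos (by omega)]
    congr 1
    exact Fin.ext (by simp)
  have dF : ∀ i, d (iF i) = (↑(hpu i).unit⁻¹ : B) • w i := fun i => by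
    simp only [d, iF]
    rw [dif_neg (by omega), dif_neg (by omega)]
    have : (⟨(2 * (i : ℕ) + 2 - 2) / 2, by omega⟩ : Fin m) = i := Fin.ext (by simp)
    rw [this]
  have hspan : ∀ k, x k ∈ Submodule.span B (Set.range d) := fun k => by
    set S := Submodule.span B (Set.range d)
    have hu : ∀ i, u i ∈ S := fun i => Submodule.subset_span ⟨iE i, dE i⟩
    have hw : ∀ i, w i ∈ S := fun i => by
      have h := S.smul_mem (QuadraticMap.polar Q' (u i) (w i)) (Submodule.subset_span ⟨iF i, rfl⟩)
      rwa [dF, smul_smul, (hpu i).mul_val_inv, one_smul] at h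
    have hE : ∀ i, x (iE i) ∈ S := fun i => by
      have hsq : (t i - t' i) * (t i - t' i) =
          (↑(hx.a i).unit⁻¹ : B) * (↑(hx.a i).unit⁻¹ : B) * (β i * β i - 4 * (a i * c i)) := by
        simp only [t']
        linear_combination 4 * (↑(hx.a i).unit⁻¹ : B) * ht i + (4 * c i * (↑(hx.a i).unit⁻¹ : B) - 4 * (t i * t i)) * ha i
      have hunit : IsUnit (t i - t' i) := (IsUnit.mul_iff.mp
        (by rw [hsq]; exact (((Units.isUnit _).mul (Units.isUnit _)).mul (hx.disc i)))).1
      refine (Submodule.smul_mem_iff_of_isUnit S hunit).mp ?_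
      rw [show (t i - t' i) • x (iE i) = u i - w i by simp only [u, w, sub_smul]; abel]
      exact sub_mem (hu i) (hw i)
    rcases idx_cases k with rfl | ⟨i, rfl⟩ | ⟨i, rfl⟩
    · have h := S.smul_mem (r * Q' (x 0)) (Submodule.subset_span ⟨0, d0⟩)
      rwa [smul_smul, show r * Q' (x 0) * r = 1 by linear_combination hr, one_smul] at h
    · exact hE i
    · rw [show x (iF i) = u i - t i • x (iE i) by simp [u]]
      exact sub_mem (hu i) (S.smul_mem _ (hE i))
  obtain ⟨bx, hbx⟩ : ∃ bx : Module.Basis (Fin (2 * m + 1)) B N, ∀ k, bx k = x k := by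
    refine exists_basis_of_span bB x fun i => ?_
    haveI := Matrix.invertibleOfIsUnitDet _ hx.det
    have e : bB i = ∑ k, (⅟(bB.toMatrix x)) k i • x k := by
      refine bB.repr.injective (Finsupp.ext fun j => ?_)
      simp only [map_sum, map_smul, Finsupp.coe_finsetSum, Finset.sum_apply, Finsupp.smul_apply, smul_eq_mul]
      have h := congrFun (congrFun (mul_invOf_self (bB.toMatrix x)) j) i
      rw [Matrix.mul_apply] at h
      rw [Finset.sum_congr rfl fun k _ => mul_comm _ _, ← show (∑ k, bB.toMatrix x j k * ⅟(bB.toMatrix x) k i) =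
        ∑ k, (bB.repr (x k)) j * ⅟(bB.toMatrix x) k i from rfl, h]
      simp [Matrix.one_apply, Finsupp.single_apply, eq_comm]
    rw [e]
    exact Submodule.sum_mem _ fun k _ => Submodule.smul_mem _ _ (Submodule.subset_span ⟨k, rfl⟩)
  obtain ⟨db, hdb⟩ := exists_basis_of_span bx d fun k => by rw [hbx]; exact hspan k
  refine ⟨db, ⟨fun k l h1 h2 => ?_, ?_, fun i => ?_, fun i => ?_, fun i => ?_⟩⟩
  · rw [hdb, hdb]
    have hz : ∀ i j, i ≠ j → QuadraticMap.polar Q' (x (iE i)) (x (iE j)) = 0 ∧
        QuadraticMap.polar Q' (x (iE i)) (x (iF j)) = 0 ∧ QuadraticMap.polar Q' (x (iF i)) (x (iE j)) = 0 ∧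
        QuadraticMap.polar Q' (x (iF i)) (x (iF j)) = 0 := fun i j hij => by
      have hi : (i : ℕ) ≠ j := fun h => hij (Fin.ext h)
      refine ⟨hx.zero _ _ ?_ ?_, hx.zero _ _ ?_ ?_, hx.zero _ _ ?_ ?_, hx.zero _ _ ?_ ?_⟩
      all_goals first
        | (intro h; simp only [iE, iF, Fin.ext_iff] at h; omega)
        | (rintro ⟨l, ⟨h, h'⟩ | ⟨h, h'⟩⟩ <;> simp only [iE, iF, Fin.ext_iff] at h h' <;> omega)
    have h0 : ∀ j, QuadraticMap.polar Q' (x 0) (x (iE j)) = 0 ∧ QuadraticMap.polar Q' (x 0) (x (iF j)) = 0 :=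
      fun j => by
      refine ⟨hx.zero _ _ ?_ ?_, hx.zero _ _ ?_ ?_⟩
      all_goals first
        | (intro h; simp only [iE, iF, Fin.ext_iff, Fin.val_zero] at h; omega)
        | (rintro ⟨l, ⟨h, h'⟩ | ⟨h, h'⟩⟩ <;> simp only [iE, iF, Fin.ext_iff, Fin.val_zero] at h h' <;> omega)
    have g0 : ∀ j (s : B), QuadraticMap.polar Q' (x 0) (s • x (iE j) + x (iF j)) = 0 := fun j s => by
      simp [QuadraticMap.polar_add_right, QuadraticMap.polar_smul_right, (h0 j).1, (h0 j).2]
    have gg : ∀ i j (s s' : B), i ≠ j →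
        QuadraticMap.polar Q' (s • x (iE i) + x (iF i)) (s' • x (iE j) + x (iF j)) = 0 := fun i j s s' hij => by
      simp [QuadraticMap.polar_add_left, QuadraticMap.polar_add_right, QuadraticMap.polar_smul_left,
        QuadraticMap.polar_smul_right, hz i j hij]
    have g0u : ∀ j, QuadraticMap.polar Q' (x 0) (u j) = 0 := fun j => g0 j _
    have g0w : ∀ j, QuadraticMap.polar Q' (x 0) (w j) = 0 := fun j => g0 j _
    rcases idx_cases k with rfl | ⟨i, rfl⟩ | ⟨i, rfl⟩ <;> rcases idx_cases l with rfl | ⟨j, rfl⟩ | ⟨j, rfl⟩ <;>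
      simp only [d0, dE, dF, QuadraticMap.polar_smul_left, QuadraticMap.polar_smul_right, smul_eq_mul]
    · exact absurd rfl h1
    · rw [g0u, mul_zero]
    · rw [g0w, mul_zero, mul_zero]
    · rw [QuadraticMap.polar_comm Q' (u i) (x 0), g0u, mul_zero]
    · exact gg i j _ _ fun h => h1 (by rw [h])
    · rw [show QuadraticMap.polar Q' (u i) (w j) = 0 from gg i j _ _ fun h => h2 ⟨i, Or.inl ⟨rfl, by rw [h]⟩⟩, mul_zero]
    · rw [QuadraticMap.polar_comm Q' (w i) (x 0), g0w, mul_zero, mul_zero]
    · rw [show QuadraticMap.polar Q' (w i) (u j) = 0 from gg i j _ _ fun h => h2 ⟨i, Or.inr ⟨rfl, by rw [h]⟩⟩, mul_zero]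
    · rw [show QuadraticMap.polar Q' (w i) (w j) = 0 from gg i j _ _ fun h => h1 (by rw [h]), mul_zero, mul_zero]
  · rw [hdb, d0, QuadraticMap.map_smul, smul_eq_mul]; exact hr
  · rw [hdb, dE]; exact hQu i
  · rw [hdb, dF, QuadraticMap.map_smul, hQw, smul_zero]
  · rw [hdb, hdb, dE, dF, QuadraticMap.polar_smul_right, smul_eq_mul, (hpu i).val_inv_mul]

include b in
/-- fppf-locally a semiregular form of odd rank is split -/
theorem exists_split (hQ : QuadGrp.IsSemiregular b (LinearEquiv.refl R R) Q) :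
    ∃ (B : Type u) (_ : CommRing B) (_ : Algebra R B), Module.FaithfullyFlat R B ∧ Algebra.FinitePresentation R B ∧
      ∃ d : Module.Basis (Fin (2 * m + 1)) B (B ⊗[R] M), IsSplit d (QuadGrp.baseChangeForm B Q) := by
  obtain ⟨A, _, _, hff, hfp, x, hx⟩ := exists_block_fppf b Q hQ
  let Q' := QuadGrp.baseChangeForm A Q
  let cf : Fin (m + 1) → A × A := Fin.cons (0, -(↑hx.v.unit⁻¹ : A)) fun i =>
    ((↑(hx.a i).unit⁻¹ : A) * QuadraticMap.polar Q' (x (iE i)) (x (iF i)), (↑(hx.a i).unit⁻¹ : A) * Q' (x (iF i)))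
  obtain ⟨B, _, _, hff', hfp', hroots⟩ := exists_roots (m + 1) cf
  letI : Algebra R B := ((algebraMap A B).comp (algebraMap R A)).toAlgebra
  haveI : IsScalarTower R A B := IsScalarTower.of_algebraMap_eq fun _ => rfl
  let φ := IsScalarTower.toAlgHom R A B
  choose s hs using hroots
  refine ⟨B, inferInstance, inferInstance, Module.FaithfullyFlat.trans R A B,
    Algebra.FinitePresentation.trans R A B, exists_isSplit_of_roots
      (Algebra.TensorProduct.basis B b) (hx.map b Q φ) (s 0) ?_ (fun i => s i.succ) fun i => ?_⟩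
  · have h := hs 0
    simp only [cf, Fin.cons_zero, map_zero, zero_mul, add_zero, map_neg] at h
    have e : algebraMap A B ↑hx.v.unit⁻¹ * φ (Q' (x 0)) = 1 := by
      change φ _ * φ _ = 1
      rw [← map_mul, hx.v.val_inv_mul, map_one]
    rw [baseChangeForm_rTensor]
    linear_combination φ (Q' (x 0)) * h + e
  · have h := hs i.succ
    simp only [cf, Fin.cons_succ, map_mul] at h
    have e : algebraMap A B ↑(hx.a i).unit⁻¹ * φ (Q' (x (iE i))) = 1 := by
      change φ _ * φ _ = 1
      rw [← map_mul, (hx.a i).val_inv_mul, map_one]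
    rw [polar_rTensor, baseChangeForm_rTensor, baseChangeForm_rTensor]
    simp only [φ, IsScalarTower.coe_toAlgHom'] at e ⊢
    linear_combination algebraMap A B (Q' (x (iE i))) * h -
      (algebraMap A B (QuadraticMap.polar Q' (x (iE i)) (x (iF i))) * s i.succ + algebraMap A B (Q' (x (iF i)))) * e

end Global

end Groth.Agent.H21Clif
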