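import Groth.Agent.H21Clif.OrthScheme
import Mathlib.RingTheory.Flat.TorsionFree
import Mathlib.RingTheory.LocalProperties.Reduced
import Mathlib.LinearAlgebra.Matrix.SchurComplement

/-!
# Big cells of the orthogonal group of the even split form
-/

namespace Groth.Agent.H21Clif.SplitEven

open Matrix

set_option linter.unusedSectionVars false

section Alt

variable {N : Type} [Fintype N] [DecidableEq N] {A : Type*} [CommRing A]

/-- alternating matrices -/
def Alt (X : Matrix N N A) : Prop := (∀ i, X i i = 0) ∧ Xᵀ = -X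

lemma alt_sub_transpose (U : Matrix N N A) : Alt (U - Uᵀ) :=
  ⟨fun i => by simp, by simp⟩

lemma Alt.exists_sub {X : Matrix N N A} (h : Alt X) : ∃ U, X = U - Uᵀ := by
  classical
  let e := Fintype.equivFin N
  refine ⟨Matrix.of fun i j => if e i < e j then X i j else 0, ?_⟩
  ext i j
  have h2 : X j i = -X i j := congrFun (congrFun h.2 i) j
  simp only [Matrix.sub_apply, Matrix.transpose_apply, Matrix.of_apply]
  rcases lt_trichotomy (e i) (e j) with h1 | h1 | h1
  · rw [if_pos h1, if_neg (not_lt.mpr h1.le), sub_zero]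
  · rw [e.injective h1]
    simp [h.1]
  · rw [if_neg (not_lt.mpr h1.le), if_pos h1, h2, zero_sub, neg_neg]

lemma Alt.conj {X : Matrix N N A} (h : Alt X) {K : Type} [Fintype K] [DecidableEq K] (M : Matrix N K A) :
    Alt (Mᵀ * X * M) := by
  obtain ⟨U, rfl⟩ := h.exists_sub
  convert alt_sub_transpose (Mᵀ * U * M) using 1
  rw [Matrix.mul_sub, Matrix.sub_mul, Matrix.transpose_mul, Matrix.transpose_mul, Matrix.transpose_transpose,
    Matrix.mul_assoc Mᵀ Uᵀ]

lemma Alt.add {X Y : Matrix N N A} (h : Alt X) (h' : Alt Y) : Alt (X + Y) :=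
  ⟨fun i => by simp [h.1 i, h'.1 i], by rw [Matrix.transpose_add, h.2, h'.2, neg_add]⟩

lemma Alt.neg {X : Matrix N N A} (h : Alt X) : Alt (-X) :=
  ⟨fun i => by simp [h.1 i], by rw [Matrix.transpose_neg, h.2]⟩

lemma Alt.sub {X Y : Matrix N N A} (h : Alt X) (h' : Alt Y) : Alt (X - Y) := by
  rw [sub_eq_add_neg]; exact h.add h'.neg

lemma alt_submatrix_iff {K : Type} [Fintype K] [DecidableEq K] (e : K ≃ N) (X : Matrix N N A) :
    Alt (X.submatrix e e) ↔ Alt X := by
  constructor
  · intro h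
    refine ⟨fun i => by simpa using h.1 (e.symm i), ?_⟩
    ext i j
    have h2 := congrFun (congrFun h.2 (e.symm i)) (e.symm j)
    simpa using h2
  · intro h
    refine ⟨fun i => h.1 (e i), ?_⟩
    ext i j
    exact congrFun (congrFun h.2 (e i)) (e j)

lemma ofMat_eq_iff {n : ℕ} {X Y : Matrix (Fin n) (Fin n) A} : ofMat X = ofMat Y ↔ Alt (X - Y) := by
  constructor
  · intro h
    refine ⟨fun i => ?_, ?_⟩
    · have := congrFun h (Sym2.mk i i)
      rw [ofMat_mk, ofMat_mk, if_pos rfl, if_pos rfl] at this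
      simp [this]
    · have h1 := polar_of_ofMat h
      ext i j
      have := congrFun (congrFun h1 i) j
      simp only [Matrix.add_apply, Matrix.transpose_apply] at this
      simp only [Matrix.sub_apply, Matrix.transpose_apply, Matrix.neg_apply]
      linear_combination this
  · intro h
    refine funext fun p => Sym2.ind (fun i j => ?_) p
    rw [ofMat_mk, ofMat_mk]
    by_cases hd : i = j
    · subst hd
      simpa [sub_eq_zero] using h.1 i
    · rw [if_neg hd, if_neg hd]
      have := congrFun (congrFun h.2 i) j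
      simp only [Matrix.sub_apply, Matrix.transpose_apply, Matrix.neg_apply] at this
      linear_combination this

end Alt

variable {m : ℕ} {A : Type*} [CommRing A]

/-- index type -/
abbrev N (m : ℕ) := Fin m ⊕ Fin m

/-- interleaving -/
def eN (m : ℕ) : N m ≃ Fin (2 * m) where
  toFun := Sum.elim (fun i => ⟨2 * i, by omega⟩) (fun i => ⟨2 * i + 1, by omega⟩)
  invFun k := if (k : ℕ) % 2 = 0 then Sum.inl ⟨k / 2, by omega⟩ else Sum.inr ⟨k / 2, by omega⟩
  left_inv a := by
    rcases a with i | i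
    · simp
    · simp [Nat.add_mod, Fin.ext_iff]
      omega
  right_inv k := by
    by_cases h : (k : ℕ) % 2 = 0
    · simp [h, Fin.ext_iff]; omega
    · simp [h, Fin.ext_iff]; omega

/-- the upper Gram matrix of the split form -/
def J (m : ℕ) (A : Type*) [CommRing A] : Matrix (N m) (N m) A := Matrix.fromBlocks 0 1 0 0

/-- orthogonality -/
def IsOrth (M : Matrix (N m) (N m) A) : Prop := Alt (Mᵀ * J m A * M - J m A)

lemma isOrth_fromBlocks {P Q S T : Matrix (Fin m) (Fin m) A} :
    IsOrth (Matrix.fromBlocks P Q S T) ↔ Alt (Pᵀ * S) ∧ Alt (Qᵀ * T) ∧ Pᵀ * T + Sᵀ * Q = 1 := by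
  have h : (Matrix.fromBlocks P Q S T)ᵀ * J m A * Matrix.fromBlocks P Q S T - J m A =
      Matrix.fromBlocks (Pᵀ * S) (Pᵀ * T - 1) (Qᵀ * S) (Qᵀ * T) := by
    simp [J, Matrix.fromBlocks_transpose, Matrix.fromBlocks_multiply, sub_eq_add_neg, Matrix.fromBlocks_neg,
      Matrix.fromBlocks_add]
  rw [IsOrth, h, Alt, Matrix.fromBlocks_transpose, Matrix.fromBlocks_neg, Matrix.fromBlocks_inj]
  constructor
  · rintro ⟨hd, h1, h2, h3, h4⟩
    refine ⟨⟨fun i => hd (Sum.inl i), h1⟩, ⟨fun i => hd (Sum.inr i), h4⟩, ?_⟩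
    rw [Matrix.transpose_mul, Matrix.transpose_transpose] at h2
    rw [h2]; abel
  · rintro ⟨⟨a1, a2⟩, ⟨b1, b2⟩, h1⟩
    refine ⟨fun i => by rcases i with i | i <;> simp [a1, b1], a2, ?_, ?_, b2⟩
    · rw [Matrix.transpose_mul, Matrix.transpose_transpose, ← h1]; abel
    · rw [Matrix.transpose_sub, Matrix.transpose_mul, Matrix.transpose_transpose, Matrix.transpose_one]
      have h2 := congrArg Matrix.transpose h1
      rw [Matrix.transpose_add, Matrix.transpose_mul, Matrix.transpose_mul, Matrix.transpose_transpose,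
        Matrix.transpose_transpose, Matrix.transpose_one] at h2
      rw [← h2]; abel

/-- the big cell -/
def build (P Pi Y Z : Matrix (Fin m) (Fin m) A) : Matrix (N m) (N m) A :=
  Matrix.fromBlocks P (P * Z) (Y * P) (Piᵀ + Y * P * Z)

lemma build_eq_mul (P Pi Y Z : Matrix (Fin m) (Fin m) A) :
    build P Pi Y Z = Matrix.fromBlocks 1 0 Y 1 * Matrix.fromBlocks P (P * Z) 0 Piᵀ := by
  simp [build, Matrix.fromBlocks_multiply, add_comm, Matrix.mul_assoc]

lemma det_build {P Pi : Matrix (Fin m) (Fin m) A} (h : P * Pi = 1) (Y Z : Matrix (Fin m) (Fin m) A) :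
    (build P Pi Y Z).det = 1 := by
  rw [build_eq_mul, Matrix.det_mul, Matrix.det_fromBlocks_zero₁₂, Matrix.det_fromBlocks_zero₂₁, Matrix.det_one,
    _root_.one_mul, _root_.one_mul, Matrix.det_transpose, ← Matrix.det_mul, h, Matrix.det_one]

lemma isOrth_build {P Pi Y Z : Matrix (Fin m) (Fin m) A} (h : P * Pi = 1) (hY : Alt Y) (hZ : Alt Z) :
    IsOrth (build P Pi Y Z) := by
  rw [build, isOrth_fromBlocks]
  have h1 : Pi * P = 1 := mul_eq_one_comm.mp h
  have hPP : Pᵀ * Piᵀ = 1 := by rw [← Matrix.transpose_mul, h1, Matrix.transpose_one]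
  refine ⟨by rw [← Matrix.mul_assoc]; exact hY.conj P, ?_, ?_⟩
  · have e : (P * Z)ᵀ * (Piᵀ + Y * P * Z) = Zᵀ + (P * Z)ᵀ * Y * (P * Z) := by
      rw [Matrix.mul_add, Matrix.transpose_mul, Matrix.mul_assoc Zᵀ Pᵀ, hPP, Matrix.mul_one]
      simp only [Matrix.mul_assoc]
    rw [e, hZ.2]
    exact hZ.neg.add (hY.conj _)
  · rw [Matrix.mul_add, hPP, Matrix.transpose_mul, hY.2]
    simp only [Matrix.mul_neg, Matrix.neg_mul, Matrix.mul_assoc]
    abel

lemma exists_build_eq {M : Matrix (N m) (N m) A} (hM : IsOrth M) {Pi : Matrix (Fin m) (Fin m) A}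
    (hPi : M.toBlocks₁₁ * Pi = 1) :
    ∃ Y Z, Alt Y ∧ Alt Z ∧ M = build M.toBlocks₁₁ Pi Y Z := by
  obtain ⟨P, Q, S, T, rfl⟩ : ∃ P Q S T, M = Matrix.fromBlocks P Q S T :=
    ⟨_, _, _, _, (Matrix.fromBlocks_toBlocks M).symm⟩
  rw [Matrix.toBlocks_fromBlocks₁₁] at hPi ⊢
  obtain ⟨h1, h2, h3⟩ := isOrth_fromBlocks.mp hM
  have hPi' : Pi * P = 1 := mul_eq_one_comm.mp hPi
  have hPP : Piᵀ * Pᵀ = 1 := by rw [← Matrix.transpose_mul, hPi, Matrix.transpose_one]
  have hY : Alt (S * Pi) := by
    have := h1.conj Pi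
    rwa [← Matrix.mul_assoc, hPP, Matrix.one_mul] at this
  have hT : T = Piᵀ + S * Pi * P * (Pi * Q) := by
    have e1 : T = Piᵀ * (1 - Sᵀ * Q) := by
      rw [← h3, add_sub_cancel_right, ← Matrix.mul_assoc, hPP, Matrix.one_mul]
    have e2 : Piᵀ * Sᵀ = -(S * Pi) := by rw [← Matrix.transpose_mul, hY.2]
    rw [e1, Matrix.mul_sub, Matrix.mul_one, ← Matrix.mul_assoc, e2, Matrix.mul_assoc (S * Pi) P,
      ← Matrix.mul_assoc P Pi, hPi, Matrix.one_mul, Matrix.neg_mul, sub_neg_eq_add]
  have hQ : P * (Pi * Q) = Q := by rw [← Matrix.mul_assoc, hPi, Matrix.one_mul]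
  refine ⟨S * Pi, Pi * Q, hY, ?_, ?_⟩
  · have e : Qᵀ * T = (Pi * Q)ᵀ + Qᵀ * (S * Pi) * Q := by
      rw [hT, Matrix.mul_add, Matrix.transpose_mul, Matrix.mul_assoc (S * Pi) P, hQ, Matrix.mul_assoc Qᵀ]
    have e' : (Pi * Q)ᵀ = Qᵀ * T - Qᵀ * (S * Pi) * Q := by rw [e, add_sub_cancel_right]
    have h4 : Alt (Pi * Q)ᵀ := e' ▸ h2.sub (hY.conj Q)
    refine ⟨h4.1, ?_⟩
    conv_rhs => rw [← Matrix.transpose_transpose (Pi * Q), h4.2, neg_neg]
  · rw [build, hQ, Matrix.mul_assoc S Pi P, hPi', Matrix.mul_one]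
    congr 1
    rw [hT, Matrix.mul_assoc (S * Pi) P, hQ, Matrix.mul_assoc S Pi Q]

/-- coordinate flips -/
def flipFun (I : Finset (Fin m)) : N m → N m :=
  Sum.elim (fun i => if i ∈ I then Sum.inr i else Sum.inl i) (fun i => if i ∈ I then Sum.inl i else Sum.inr i)

lemma flipFun_involutive (I : Finset (Fin m)) : Function.Involutive (flipFun I) := by
  rintro (i | i) <;> by_cases h : i ∈ I <;> simp [flipFun, h]

/-- coordinate flip as a permutation -/
def flip (I : Finset (Fin m)) : Equiv.Perm (N m) := (flipFun_involutive I).toPerm _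

@[simp] lemma flip_inl (I : Finset (Fin m)) (i : Fin m) :
    flip I (Sum.inl i) = if i ∈ I then Sum.inr i else Sum.inl i := rfl

@[simp] lemma flip_inr (I : Finset (Fin m)) (i : Fin m) :
    flip I (Sum.inr i) = if i ∈ I then Sum.inl i else Sum.inr i := rfl

@[simp] lemma flip_flip (I : Finset (Fin m)) (a : N m) : flip I (flip I a) = a := flipFun_involutive I a

lemma flip_singleton (i : Fin m) : flip {i} = Equiv.swap (Sum.inl i) (Sum.inr i) := by
  refine Equiv.ext fun a => ?_
  rcases a with j | j <;> by_cases h : j = i <;> simp [h, Equiv.swap_apply_of_ne_of_ne]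

lemma alt_J_flip (I : Finset (Fin m)) : Alt ((J m A).submatrix (flip I) (flip I) - J m A) := by
  refine ⟨?_, ?_⟩
  · rintro (i | i) <;> by_cases h : i ∈ I <;> simp [J, h]
  · ext a b
    rcases a with i | i <;> rcases b with j | j <;> by_cases h : i ∈ I <;> by_cases h' : j ∈ I <;>
      simp [J, h, h', Matrix.one_apply] <;> first | (intro h2; subst h2; contradiction) | (simp only [eq_comm])

lemma IsOrth.flip {M : Matrix (N m) (N m) A} (hM : IsOrth M) (I : Finset (Fin m)) :
    IsOrth (M.submatrix (flip I) id) := by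
  have h : (M.submatrix (SplitEven.flip I) id)ᵀ * J m A * M.submatrix (SplitEven.flip I) id =
      Mᵀ * (J m A).submatrix (SplitEven.flip I) (SplitEven.flip I) * M := by
    have e : Function.LeftInverse (SplitEven.flip I) (SplitEven.flip I) := flip_flip I
    have hJ : J m A = ((J m A).submatrix (SplitEven.flip I) (SplitEven.flip I)).submatrix
        (SplitEven.flip I) (SplitEven.flip I) := by
      rw [Matrix.submatrix_submatrix, e.comp_eq_id, Matrix.submatrix_id_id]
    conv_lhs => rw [hJ, Matrix.transpose_submatrix, Matrix.submatrix_mul_equiv, Matrix.submatrix_mul_equiv,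
      Matrix.submatrix_id_id]
  rw [IsOrth, h]
  have h2 := ((alt_J_flip (A := A) I).conj M).add hM
  rwa [Matrix.mul_sub, Matrix.sub_mul, sub_add_sub_cancel] at h2

/-- the sign of a flip -/
def sgn (I : Finset (Fin m)) (A : Type*) [CommRing A] : A := ((Equiv.Perm.sign (flip I) : ℤ) : A)

lemma det_flip (I : Finset (Fin m)) (M : Matrix (N m) (N m) A) :
    (M.submatrix (flip I) id).det = sgn I A * M.det := Matrix.det_permute _ _

lemma flip_flip_submatrix (I : Finset (Fin m)) (M : Matrix (N m) (N m) A) :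
    (M.submatrix (flip I) id).submatrix (flip I) id = M := by
  ext a b
  simp

lemma IsOrth.mulVec_eq_zero {M : Matrix (N m) (N m) A} (hM : IsOrth M) {x : N m → A} (hx : M *ᵥ x = 0) :
    x = 0 := by
  let W := J m A + (J m A)ᵀ
  have hW : W * W = 1 := by
    simp [W, J, Matrix.fromBlocks_transpose, Matrix.fromBlocks_add, Matrix.fromBlocks_multiply,
      Matrix.fromBlocks_one]
  have h2 : Mᵀ * W * M = W := by
    have := hM.2
    simp only [Matrix.transpose_sub, Matrix.transpose_mul, Matrix.transpose_transpose] at this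
    simp only [W, Matrix.mul_add, Matrix.add_mul]
    rw [← Matrix.mul_assoc] at this
    rw [← sub_eq_zero]
    have e : Mᵀ * (J m A)ᵀ * M - (J m A)ᵀ + (Mᵀ * J m A * M - J m A) = 0 := by rw [this, neg_add_cancel]
    rw [← e]; abel
  have h3 : (W * (Mᵀ * W)) * M = 1 := by rw [Matrix.mul_assoc, h2, hW]
  have := congrArg (fun X => X *ᵥ x) h3
  simp only [← Matrix.mulVec_mulVec, hx, Matrix.mulVec_zero, Matrix.one_mulVec] at this
  exact this.symm

/-- over a field some flip makes the corner invertible -/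
lemma exists_flip_isUnit {K : Type*} [Field K] {M : Matrix (N m) (N m) K} (hM : IsOrth M) :
    ∃ I : Finset (Fin m), IsUnit (M.submatrix (flip I) id).toBlocks₁₁.det := by
  classical
  obtain ⟨P, Q, S, T, rfl⟩ : ∃ P Q S T, M = Matrix.fromBlocks P Q S T :=
    ⟨_, _, _, _, (Matrix.fromBlocks_toBlocks M).symm⟩
  obtain ⟨h1, -, -⟩ := isOrth_fromBlocks.mp hM
  obtain ⟨κ, a, ha, hsp, hli⟩ := exists_linearIndependent' K (fun i : Fin m => P i)
  haveI : Fintype κ := Fintype.ofInjective a ha
  let J₀ : Finset (Fin m) := Finset.univ.image a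
  refine ⟨J₀ᶜ, ?_⟩
  rw [← Matrix.isUnit_iff_isUnit_det, ← Matrix.mulVec_injective_iff_isUnit]
  refine (injective_iff_map_eq_zero (((Matrix.fromBlocks P Q S T).submatrix (flip J₀ᶜ) id).toBlocks₁₁.mulVecLin)).mpr fun x hx => ?_
  rw [Matrix.mulVecLin_apply] at hx
  have hin : ∀ i ∈ J₀, P i ⬝ᵥ x = 0 := fun i hi => by
    have := congrFun hx i
    simpa [Matrix.mulVec, Matrix.toBlocks₁₁, hi] using this
  have hout : ∀ i, i ∉ J₀ → S i ⬝ᵥ x = 0 := fun i hi => by
    have := congrFun hx i
    simpa [Matrix.mulVec, Matrix.toBlocks₁₁, hi] using this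
  have hP : P *ᵥ x = 0 := by
    funext i
    have hle : Submodule.span K (Set.range fun i : Fin m => P i) ≤
        LinearMap.ker ((dotProductBilin K K).flip x) := by
      rw [← hsp, Submodule.span_le]
      rintro _ ⟨k, rfl⟩
      exact hin _ (Finset.mem_image_of_mem a (Finset.mem_univ k))
    exact hle (Submodule.subset_span ⟨i, rfl⟩)
  have hPS : ∀ y, (P *ᵥ y) ⬝ᵥ (S *ᵥ x) = 0 := fun y => by
    have e : (Pᵀ * S) = -(Sᵀ * P) := by
      have := h1.2
      rw [Matrix.transpose_mul, Matrix.transpose_transpose] at this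
      rw [this, neg_neg]
    have := congrArg (fun X => y ⬝ᵥ X *ᵥ x) e
    simp only [Matrix.neg_mulVec, ← Matrix.mulVec_mulVec, hP, Matrix.mulVec_zero, neg_zero, dotProduct_zero,
      Matrix.dotProduct_mulVec, Matrix.vecMul_transpose] at this
    rw [Matrix.dotProduct_mulVec]
    exact this
  have hS : S *ᵥ x = 0 := by
    funext i
    by_cases hi : i ∈ J₀
    · obtain ⟨k, -, rfl⟩ := Finset.mem_image.mp hi
      refine Fintype.linearIndependent_iff.mp hli (fun k => (S *ᵥ x) (a k)) ?_ k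
      funext j
      have h5 := hPS (Pi.single j 1)
      rw [Matrix.mulVec_single_one, dotProduct] at h5
      rw [← Finset.sum_subset (Finset.subset_univ J₀) (fun i _ hi => by
        rw [show (S *ᵥ x) i = 0 from hout i hi, mul_zero]), Finset.sum_image ha.injOn] at h5
      simpa [Finset.sum_apply, mul_comm] using h5
    · exact hout i hi
  have hz : Matrix.fromBlocks P Q S T *ᵥ Sum.elim x 0 = 0 := by
    rw [Matrix.fromBlocks_mulVec]
    simp [hP, hS]
  funext i
  exact congrFun (hM.mulVec_eq_zero hz) (Sum.inl i)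

/-- strictly upper index pairs -/
abbrev UT (m : ℕ) := {p : Fin m × Fin m // p.1 < p.2}

/-- alternating matrix from strictly upper entries -/
def altOf (y : UT m → A) : Matrix (Fin m) (Fin m) A :=
  Matrix.of fun i j => if h : i < j then y ⟨(i, j), h⟩ else if h' : j < i then -y ⟨(j, i), h'⟩ else 0

lemma alt_altOf (y : UT m → A) : Alt (altOf y) := by
  refine ⟨fun i => by simp [altOf], ?_⟩
  ext i j
  rcases lt_trichotomy i j with h | rfl | h
  · simp [altOf, h, not_lt.mpr h.le]
  · simp [altOf]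
  · simp [altOf, h, not_lt.mpr h.le]

lemma altOf_eq {X : Matrix (Fin m) (Fin m) A} (h : Alt X) : altOf (fun p => X p.1.1 p.1.2) = X := by
  ext i j
  rcases lt_trichotomy i j with hij | rfl | hij
  · simp [altOf, hij]
  · simp [altOf, h.1]
  · have h2 : X i j = -X j i := congrFun (congrFun h.2 j) i
    simp [altOf, hij, not_lt.mpr hij.le, h2]

lemma altOf_map {B : Type*} [CommRing B] (f : A →+* B) (y : UT m → A) :
    (altOf y).map f = altOf (f ∘ y) := by
  ext i j
  simp only [altOf, Matrix.map_apply, Matrix.of_apply, Function.comp_apply]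
  split_ifs <;> simp

lemma build_map {B : Type*} [CommRing B] (f : A →+* B) (P Pi Y Z : Matrix (Fin m) (Fin m) A) :
    (build P Pi Y Z).map f = build (P.map f) (Pi.map f) (Y.map f) (Z.map f) := by
  simp only [build, Matrix.fromBlocks_map, Matrix.map_mul, Matrix.transpose_map,
    Matrix.map_add _ (map_add f)]

end Groth.Agent.H21Clif.SplitEven
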