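import Groth.Agent.H21Clif.EvenSO
import Groth.Agent.H21Clif.SplitEven
import Groth.Agent.H21Clif.Split
import Mathlib.RingTheory.Jacobson.Ring
import Mathlib.RingTheory.Spectrum.Prime.Topology

/-!
# Connectedness of the geometric fibres of `SO(q)` in even rank
-/

universe u

namespace Groth.Agent.H21Clif.EvenConn

open TensorProduct Matrix SplitEven

set_option linter.style.haveILetI false
set_option linter.unusedSectionVars false
set_option synthInstance.maxHeartbeats 100000
set_option maxHeartbeats 1000000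

variable {m : ℕ}

/-- block matrix of a point -/
def mt {A : Type*} (x : Fin (2 * m) × Fin (2 * m) → A) : Matrix (N m) (N m) A :=
  Matrix.of fun a b => x (eN m a, eN m b)

/-- point of a block matrix -/
def umt {A : Type*} (M : Matrix (N m) (N m) A) : Fin (2 * m) × Fin (2 * m) → A :=
  fun p => M ((eN m).symm p.1) ((eN m).symm p.2)

lemma mt_umt {A : Type*} (M : Matrix (N m) (N m) A) : mt (umt M) = M := by
  ext a b; simp [mt, umt]

lemma umt_mt {A : Type*} (x : Fin (2 * m) × Fin (2 * m) → A) : umt (mt x) = x := by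
  funext p; simp [mt, umt]

lemma comp_umt {A B : Type*} (f : A → B) (M : Matrix (N m) (N m) A) : f ∘ umt M = umt (M.map f) := rfl

section Conj

variable {A : Type*} [CommRing A]

/-- orthogonality for a Gram matrix -/
def OrthOf (C' : Matrix (N m) (N m) A) (g : Matrix (N m) (N m) A) : Prop := Alt (gᵀ * C' * g - C')

lemma orthOf_conj {C' G Gi M : Matrix (N m) (N m) A} (hD : Alt (Gᵀ * C' * G - J m A)) (h : G * Gi = 1)
    (hM : IsOrth M) : OrthOf C' (G * M * Gi) := by
  have h2 : C' = Giᵀ * (Gᵀ * C' * G) * Gi := by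
    rw [← Matrix.mul_assoc, ← Matrix.mul_assoc, ← Matrix.transpose_mul, h, Matrix.transpose_one, Matrix.one_mul,
      Matrix.mul_assoc, h, Matrix.mul_one]
  have e : (G * M * Gi)ᵀ * C' * (G * M * Gi) - C' =
      Giᵀ * (Mᵀ * (Gᵀ * C' * G - J m A) * M - (Gᵀ * C' * G - J m A) + (Mᵀ * J m A * M - J m A)) * Gi := by
    conv_lhs => rw [show C' = Giᵀ * (Gᵀ * C' * G) * Gi from h2]
    rw [show (G * M * Gi)ᵀ * (Giᵀ * (Gᵀ * C' * G) * Gi) * (G * M * Gi) =
      Giᵀ * (Mᵀ * (Gᵀ * C' * G) * M) * Gi by
        rw [← h2]; simp only [Matrix.transpose_mul, Matrix.mul_assoc]]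
    simp only [Matrix.mul_sub, Matrix.sub_mul, Matrix.mul_add, Matrix.add_mul]
    abel
  rw [OrthOf, e]
  exact ((hD.conj M).sub hD |>.add hM).conj Gi

lemma isOrth_conj {C' G g Gi : Matrix (N m) (N m) A} (hD : Alt (Gᵀ * C' * G - J m A)) (h : G * Gi = 1)
    (hg : OrthOf C' g) : IsOrth (Gi * g * G) := by
  have hGM : G * (Gi * g * G) = g * G := by rw [← Matrix.mul_assoc, ← Matrix.mul_assoc, h, Matrix.one_mul]
  have h1 : (Gi * g * G)ᵀ * (Gᵀ * C' * G) * (Gi * g * G) = Gᵀ * (gᵀ * C' * g) * G := by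
    rw [show (Gi * g * G)ᵀ * (Gᵀ * C' * G) * (Gi * g * G) = (G * (Gi * g * G))ᵀ * C' * (G * (Gi * g * G)) by
      simp only [Matrix.transpose_mul, Matrix.mul_assoc], hGM]
    simp only [Matrix.transpose_mul, Matrix.mul_assoc]
  have e : (Gi * g * G)ᵀ * J m A * (Gi * g * G) - J m A =
      Gᵀ * (gᵀ * C' * g - C') * G - ((Gi * g * G)ᵀ * (Gᵀ * C' * G - J m A) * (Gi * g * G) - (Gᵀ * C' * G - J m A)) := by
    simp only [Matrix.mul_sub, Matrix.sub_mul, h1]
    abel
  rw [IsOrth, e]
  exact (Alt.conj hg G).sub ((hD.conj _).sub hD)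

end Conj

section Sol

variable {R : Type u} [CommRing R] (C : Matrix (Fin (2 * m)) (Fin (2 * m)) R)

lemma orth_sol_iff (A : Type u) [CommRing A] [Algebra R A] (x : Fin (2 * m) × Fin (2 * m) → A) :
    (∀ k, (orthEqs C).F A x k = 0) ↔ OrthOf ((C.map (algebraMap R A)).submatrix (eN m) (eN m)) (mt x) := by
  rw [orthEqs_eq_zero_iff, ofMat_eq_iff, ← alt_submatrix_iff (eN m), OrthOf]
  refine iff_of_eq (congrArg Alt ?_)
  ext a b
  simp only [Matrix.submatrix_apply, Matrix.sub_apply, Matrix.mul_apply, Matrix.transpose_apply, Matrix.of_apply, mt]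
  rw [← (eN m).sum_comp]
  refine congrArg (· - _) (Finset.sum_congr rfl fun c _ => ?_)
  rw [← (eN m).sum_comp]

end Sol

section Hyperbolic

variable {K : Type u} [Field K] [IsAlgClosed K] {V : Type u} [AddCommGroup V] [Module K V]
variable {Q : QuadraticForm K V}

local notation "𝐁" => QuadraticMap.polarBilin

/-- an isotropic pair -/
lemma exists_isotropic_pair (e f : V) (he : IsUnit (Q e))
    (hd : IsUnit (𝐁 Q e f * 𝐁 Q e f - 4 * (Q e * Q f))) :
    ∃ u w, Q u = 0 ∧ Q w = 0 ∧ 𝐁 Q u w = 1 ∧ u ∈ Submodule.span K {e, f} ∧ w ∈ Submodule.span K {e, f} ∧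
      e ∈ Submodule.span K {u, w} ∧ f ∈ Submodule.span K {u, w} := by
  have hne := he.ne_zero
  obtain ⟨p, hp⟩ : ∃ p, p = 𝐁 Q e f := ⟨_, rfl⟩
  rw [← hp] at hd
  obtain ⟨t, ht⟩ := IsAlgClosed.exists_root
    (Polynomial.C (Q e) * Polynomial.X ^ 2 + Polynomial.C p * Polynomial.X + Polynomial.C (Q f))
    (by rw [Polynomial.degree_quadratic hne]; exact two_ne_zero)
  replace ht : Q e * t ^ 2 + p * t + Q f = 0 := by simpa using ht
  let t' : K := -p / Q e - t
  have hQ : ∀ s : K, Q (f + s • e) = Q e * s ^ 2 + p * s + Q f := fun s => by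
    rw [QuadraticMap.map_add Q, QuadraticMap.map_smul, QuadraticMap.polar_smul_right, QuadraticMap.polar_comm,
      ← QuadraticMap.polarBilin_apply_apply, ← hp, smul_eq_mul, smul_eq_mul]
    ring
  have hsum : Q e * t + Q e * t' = -p := by simp only [t']; field_simp; ring
  have ht' : Q e * t' ^ 2 + p * t' + Q f = 0 := by linear_combination ht + (t' - t) * hsum
  have hB : 𝐁 Q (f + t • e) (f + t' • e) = -(Q e) * (t - t') * (t - t') := by
    have hfe : 𝐁 Q f e = p := by
      rw [hp, QuadraticMap.polarBilin_apply_apply, QuadraticMap.polarBilin_apply_apply, QuadraticMap.polar_comm]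
    have hff : 𝐁 Q f f = 2 * Q f := by
      rw [QuadraticMap.polarBilin_apply_apply, QuadraticMap.polar_self, nsmul_eq_mul]; norm_num
    have hee : 𝐁 Q e e = 2 * Q e := by
      rw [QuadraticMap.polarBilin_apply_apply, QuadraticMap.polar_self, nsmul_eq_mul]; norm_num
    simp only [map_add, map_smul, LinearMap.add_apply, LinearMap.smul_apply, smul_eq_mul, hfe, hff, hee, ← hp]
    linear_combination ht + ht'
  have htt : t ≠ t' := fun h => by
    refine hd.ne_zero ?_
    rw [← h] at hsum
    linear_combination (-(4 : K) * Q e) * ht + (p + 2 * Q e * t) * hsum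
  have hB0 : 𝐁 Q (f + t • e) (f + t' • e) ≠ 0 := by
    rw [hB]
    exact mul_ne_zero (mul_ne_zero (neg_ne_zero.mpr hne) (sub_ne_zero.mpr htt)) (sub_ne_zero.mpr htt)
  set c := (𝐁 Q (f + t • e) (f + t' • e))⁻¹ with hc
  have hse : f + t • e ∈ Submodule.span K {e, f} :=
    add_mem (Submodule.subset_span (by simp)) (Submodule.smul_mem _ _ (Submodule.subset_span (by simp)))
  have hse' : f + t' • e ∈ Submodule.span K {e, f} :=
    add_mem (Submodule.subset_span (by simp)) (Submodule.smul_mem _ _ (Submodule.subset_span (by simp)))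
  have hc0 : c ≠ 0 := inv_ne_zero hB0
  have hu : f + t • e ∈ Submodule.span K {f + t • e, c • (f + t' • e)} := Submodule.subset_span (by simp)
  have hw : f + t' • e ∈ Submodule.span K {f + t • e, c • (f + t' • e)} := by
    have := Submodule.smul_mem (Submodule.span K {f + t • e, c • (f + t' • e)}) c⁻¹
      (Submodule.subset_span (Set.mem_insert_of_mem _ rfl))
    rwa [smul_smul, inv_mul_cancel₀ hc0, one_smul] at this
  have hee' : e ∈ Submodule.span K {f + t • e, c • (f + t' • e)} := by
    have := Submodule.smul_mem _ (t - t')⁻¹ (sub_mem hu hw)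
    rwa [add_sub_add_left_eq_sub, ← sub_smul, smul_smul, inv_mul_cancel₀ (sub_ne_zero.mpr htt), one_smul] at this
  refine ⟨f + t • e, c • (f + t' • e), (hQ t).trans ht, ?_, ?_, hse, Submodule.smul_mem _ _ hse', hee', ?_⟩
  · rw [QuadraticMap.map_smul, (hQ t').trans ht', smul_zero]
  · rw [map_smul, smul_eq_mul, inv_mul_cancel₀ hB0]
  · have h := sub_mem hu (Submodule.smul_mem _ t hee')
    rwa [add_sub_cancel_right] at h

lemma exists_hyperbolic (b : Module.Basis (Fin (2 * m)) K V) (hQ : QuadGrp.IsRegular Q) :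
    ∃ v : N m → V, (∀ a, Q (v a) = 0) ∧
      (∀ a c, a ≠ c → QuadraticMap.polar Q (v a) (v c) = (J m K + (J m K)ᵀ) a c) ∧
      Submodule.span K (Set.range v) = ⊤ := by
  classical
  haveI : Module.Finite K V := Module.Finite.of_basis b
  have hW : RegOn Q (⊤ : Submodule K V) := by
    refine ⟨fun w₁ w₂ h => Subtype.ext (hQ.1 (LinearMap.ext fun v => ?_)), fun φ => ?_⟩
    · exact LinearMap.congr_fun h ⟨v, trivial⟩
    · obtain ⟨w, hw⟩ := hQ.2 (φ ∘ₗ (LinearEquiv.ofTop ⊤ rfl).symm.toLinearMap)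
      refine ⟨⟨w, trivial⟩, LinearMap.ext fun v => ?_⟩
      exact (LinearMap.congr_fun hw (v : V)).trans (congrArg φ (Subtype.ext rfl))
  obtain ⟨e, f, -, hz, hu, hsp⟩ := exists_pairs (Q := Q) m (⊤ : Submodule K V)
    (by rw [finrank_top, Module.finrank_eq_card_basis b, Fintype.card_fin]) hW
  choose u w hQu hQw hB hmu hmw hme hmf using fun i => exists_isotropic_pair (e i) (f i) (hu i).1 (hu i).2.2
  have horth : ∀ i j, i ≠ j → ∀ x ∈ Submodule.span K {e i, f i}, ∀ y ∈ Submodule.span K {e j, f j},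
      𝐁 Q x y = 0 := by
    intro i j hij x hx y hy
    obtain ⟨a₁, a₂, rfl⟩ := Submodule.mem_span_pair.mp hx
    obtain ⟨c₁, c₂, rfl⟩ := Submodule.mem_span_pair.mp hy
    simp only [map_add, map_smul, LinearMap.add_apply, LinearMap.smul_apply, smul_eq_mul, (hz i j hij).1,
      (hz i j hij).2.1, (hz i j hij).2.2,
      show 𝐁 Q (f i) (e j) = 0 from (QuadraticMap.polar_comm Q _ _).trans (hz j i hij.symm).2.1]
    ring
  refine ⟨Sum.elim u w, fun a => by rcases a with i | i <;> simp [hQu, hQw], ?_, ?_⟩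
  · rintro (i | i) (j | j) hne <;>
      simp only [Sum.elim_inl, Sum.elim_inr, ← QuadraticMap.polarBilin_apply_apply, Matrix.add_apply,
        Matrix.transpose_apply, J, Matrix.fromBlocks_apply₁₁, Matrix.fromBlocks_apply₁₂, Matrix.fromBlocks_apply₂₁,
        Matrix.fromBlocks_apply₂₂, Matrix.zero_apply, add_zero, zero_add]
    · exact horth i j (fun h => hne (by rw [h])) _ (hmu i) _ (hmu j)
    · rcases eq_or_ne i j with rfl | hij
      · rw [Matrix.one_apply_eq]; exact hB i
      · rw [Matrix.one_apply_ne hij]; exact horth i j hij _ (hmu i) _ (hmw j)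
    · rcases eq_or_ne i j with rfl | hij
      · rw [Matrix.one_apply_eq]; exact (QuadraticMap.polar_comm Q _ _).trans (hB i)
      · rw [Matrix.one_apply_ne hij.symm]; exact horth i j hij _ (hmw i) _ (hmu j)
    · exact horth i j (fun h => hne (by rw [h])) _ (hmw i) _ (hmw j)
  · rw [eq_top_iff]
    refine hsp.trans (Submodule.span_le.mpr ?_)
    rintro x (⟨i, rfl⟩ | ⟨i, rfl⟩)
    · refine (Submodule.span_mono ?_) (hme i)
      rintro y (rfl | rfl)
      exacts [⟨Sum.inl i, rfl⟩, ⟨Sum.inr i, rfl⟩]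
    · refine (Submodule.span_mono ?_) (hmf i)
      rintro y (rfl | rfl)
      exacts [⟨Sum.inl i, rfl⟩, ⟨Sum.inr i, rfl⟩]

lemma exists_split_gram {R : Type u} [CommRing R] [Algebra R K] (Q : QuadraticForm R (Fin (2 * m) → R))
    (hQ : QuadGrp.IsRegular Q) :
    ∃ G0 : Matrix (N m) (N m) K, IsUnit G0.det ∧
      Alt (G0ᵀ * ((gramOf Q).map (algebraMap R K)).submatrix (eN m) (eN m) * G0 - J m K) := by
  classical
  let bR := Pi.basisFun R (Fin (2 * m))
  let bA := Algebra.TensorProduct.basis K bR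
  let CK := (gramOf Q).map (algebraMap R K)
  have hβ : (Matrix.toBilin bA CK).toQuadraticMap = QuadGrp.baseChangeForm K Q := by
    refine ext_coeffs bA ?_
    rw [coeffs_baseChange, coeffs_eq_ofMat bA (Matrix.toBilin bA CK).toQuadraticMap rfl, LinearMap.BilinForm.toMatrix_toBilin]
    rfl
  obtain ⟨v, hv0, hvp, hsp⟩ := exists_hyperbolic bA (isRegular_baseChange K Q bR hQ)
  let G0 : Matrix (N m) (N m) K := Matrix.of fun r a => bA.repr (v a) (eN m r)
  have hent : ∀ a c, (G0ᵀ * ((gramOf Q).map (algebraMap R K)).submatrix (eN m) (eN m) * G0) a c = Matrix.toBilin bA CK (v a) (v c) := fun a c => by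
    rw [Matrix.toBilin_apply, ← (eN m).sum_comp]
    simp only [Matrix.mul_apply, Matrix.transpose_apply, Matrix.submatrix_apply, Finset.sum_mul, G0, Matrix.of_apply]
    rw [Finset.sum_comm]
    refine Finset.sum_congr rfl fun r _ => ?_
    rw [← (eN m).sum_comp]
  refine ⟨G0, ?_, fun a => ?_, ?_⟩
  · rw [← Matrix.isUnit_iff_isUnit_det, ← Matrix.mulVec_surjective_iff_isUnit]
    intro y
    have : (bA.repr.symm (Finsupp.equivFunOnFinite.symm fun k => y ((eN m).symm k))) ∈ Submodule.span K (Set.range v) := by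
      rw [hsp]; trivial
    obtain ⟨c, hc⟩ := (Submodule.mem_span_range_iff_exists_fun K).mp this
    refine ⟨c, funext fun r => ?_⟩
    have h2 := congrArg (fun z => bA.repr z (eN m r)) hc
    simp only [map_sum, map_smul, Finsupp.coe_finsetSum, Finset.sum_apply, Finsupp.smul_apply, smul_eq_mul,
      LinearEquiv.apply_symm_apply, Finsupp.coe_equivFunOnFinite_symm, Equiv.symm_apply_apply] at h2
    rw [← h2]
    simp only [G0, Matrix.mulVec, dotProduct, Matrix.of_apply, mul_comm]
  · rw [Matrix.sub_apply, hent, show Matrix.toBilin bA CK (v a) (v a) = (Matrix.toBilin bA CK).toQuadraticMap (v a) from rfl, hβ, hv0]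
    rcases a with i | i <;> simp [J]
  · ext a c
    simp only [Matrix.transpose_apply, Matrix.sub_apply, Matrix.neg_apply, hent]
    rcases eq_or_ne a c with rfl | hne
    · rw [show Matrix.toBilin bA CK (v a) (v a) = (Matrix.toBilin bA CK).toQuadraticMap (v a) from rfl, hβ, hv0]
      rcases a with i | i <;> simp [J]
    · have h := hvp a c hne
      rw [← hβ, LinearMap.BilinMap.polar_toQuadraticMap, Matrix.add_apply, Matrix.transpose_apply] at h
      linear_combination h

end Hyperbolic

section Charts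

variable (K : Type u) [Field K]

/-- denominator of a chart -/
noncomputable def den (m : ℕ) : MvPolynomial ((Fin m × Fin m) ⊕ UT m ⊕ UT m) K :=
  (Matrix.of fun i j => MvPolynomial.X (Sum.inl (i, j)) :
    Matrix (Fin m) (Fin m) (MvPolynomial ((Fin m × Fin m) ⊕ UT m ⊕ UT m) K)).det

/-- chart ring -/
abbrev W (m : ℕ) := Localization.Away (den K m)

/-- the universal corner -/
noncomputable def PW (m : ℕ) : Matrix (Fin m) (Fin m) (W K m) :=
  Matrix.of fun i j => algebraMap (MvPolynomial ((Fin m × Fin m) ⊕ UT m ⊕ UT m) K) _ (MvPolynomial.X (Sum.inl (i, j)))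

lemma isUnit_det_PW (m : ℕ) : IsUnit (PW K m).det := by
  have : (PW K m).det = algebraMap _ (W K m) (den K m) :=
    (RingHom.map_det (algebraMap _ (W K m)) _).symm
  rw [this]
  exact IsLocalization.Away.algebraMap_isUnit _

lemma den_ne_zero (m : ℕ) : den K m ≠ 0 := fun h => by
  have h2 := congrArg (MvPolynomial.aeval (R := K)
    (Sum.elim (fun p : Fin m × Fin m => if p.1 = p.2 then (1 : K) else 0) 0)) h
  rw [den, AlgHom.map_det, map_zero] at h2
  rw [show AlgHom.mapMatrix _ (Matrix.of fun i j => MvPolynomial.X (Sum.inl (i, j))) =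
    (1 : Matrix (Fin m) (Fin m) K) by ext i j; simp [Matrix.one_apply], Matrix.det_one] at h2
  exact one_ne_zero h2

instance isDomain_W (m : ℕ) : IsDomain (W K m) :=
  IsLocalization.isDomain_localization (powers_le_nonZeroDivisors_of_noZeroDivisors (den_ne_zero K m))

/-- universal point of a chart -/
noncomputable def MW (I : Finset (Fin m)) : Matrix (N m) (N m) (W K m) :=
  (build (PW K m) (PW K m)⁻¹
    (altOf fun p => algebraMap (MvPolynomial ((Fin m × Fin m) ⊕ UT m ⊕ UT m) K) _ (MvPolynomial.X (Sum.inr (Sum.inl p))))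
    (altOf fun p => algebraMap (MvPolynomial ((Fin m × Fin m) ⊕ UT m ⊕ UT m) K) _ (MvPolynomial.X (Sum.inr (Sum.inr p))))).submatrix (flip I) id

lemma isOrth_MW (I : Finset (Fin m)) : IsOrth (MW K I) :=
  (isOrth_build (Matrix.mul_nonsing_inv _ (isUnit_det_PW K m)) (alt_altOf _) (alt_altOf _)).flip I

/-- every point with invertible corner comes from the chart -/
lemma exists_chart_point (I : Finset (Fin m)) {M : Matrix (N m) (N m) K} (hM : IsOrth M)
    (hu : IsUnit (M.submatrix (flip I) id).toBlocks₁₁.det) :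
    ∃ χ : W K m →ₐ[K] K, (MW K I).map χ = M := by
  obtain ⟨Y, Z, hY, hZ, hb⟩ := exists_build_eq (hM.flip I) (Matrix.mul_nonsing_inv _ hu)
  set P := (M.submatrix (flip I) id).toBlocks₁₁
  let χ₀ : MvPolynomial ((Fin m × Fin m) ⊕ UT m ⊕ UT m) K →ₐ[K] K :=
    MvPolynomial.aeval (Sum.elim (fun p => P p.1 p.2) (Sum.elim (fun p => Y p.1.1 p.1.2) fun p => Z p.1.1 p.1.2))
  have h0 : IsUnit (χ₀ (den K m)) := by
    rw [den, AlgHom.map_det, show χ₀.mapMatrix (Matrix.of fun i j => MvPolynomial.X (Sum.inl (i, j))) = P by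
      ext i j; simp [χ₀]]
    exact hu
  let χ : W K m →ₐ[K] K :=
    IsLocalization.liftAlgHom (M := Submonoid.powers (den K m)) (S := W K m) (f := χ₀) (by
      rintro ⟨_, k, rfl⟩
      exact (map_pow χ₀ _ k) ▸ h0.pow k)
  have hχ : ∀ a, χ (algebraMap _ _ a) = χ₀ a := fun a => IsLocalization.lift_eq _ a
  refine ⟨χ, ?_⟩
  have hP : (PW K m).map χ.toRingHom = P := by
    ext i j
    exact (hχ _).trans (by simp [χ₀])
  have hPi : ((PW K m)⁻¹).map χ.toRingHom = P⁻¹ := by
    refine (Matrix.inv_eq_right_inv ?_).symm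
    rw [← hP, ← Matrix.map_mul, Matrix.mul_nonsing_inv _ (isUnit_det_PW K m),
      Matrix.map_one _ (map_zero χ.toRingHom) (map_one χ.toRingHom)]
  change ((build _ _ _ _).map χ.toRingHom).submatrix (flip I) id = M
  rw [build_map, hP, hPi, altOf_map, altOf_map,
    show (χ.toRingHom ∘ fun p => algebraMap _ (W K m) (MvPolynomial.X (Sum.inr (Sum.inl p)))) =
      fun p : UT m => Y p.1.1 p.1.2 from funext fun p => (hχ _).trans (by simp [χ₀]),
    show (χ.toRingHom ∘ fun p => algebraMap _ (W K m) (MvPolynomial.X (Sum.inr (Sum.inr p)))) =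
      fun p : UT m => Z p.1.1 p.1.2 from funext fun p => (hχ _).trans (by simp [χ₀]),
    altOf_eq hY, altOf_eq hZ, ← hb, flip_flip_submatrix]

/-- neighbouring charts meet -/
lemma exists_common_point (I : Finset (Fin m)) {i j : Fin m} (hij : i ≠ j) :
    ∃ M : Matrix (N m) (N m) K, IsOrth M ∧ IsUnit (M.submatrix (flip I) id).toBlocks₁₁.det ∧
      IsUnit (M.submatrix (flip (symmDiff I {i, j})) id).toBlocks₁₁.det := by
  let Y : Matrix (Fin m) (Fin m) K := Matrix.single i j 1 - (Matrix.single i j 1)ᵀ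
  let B := build (1 : Matrix (Fin m) (Fin m) K) 1 Y 0
  have hB : IsOrth B := isOrth_build (Matrix.one_mul 1) (alt_sub_transpose _) ⟨fun _ => rfl, by simp⟩
  refine ⟨B.submatrix (flip I) id, hB.flip I, ?_, ?_⟩
  · rw [flip_flip_submatrix]; simp [B, build]
  · have hflip : ∀ a, flip I (flip (symmDiff I {i, j}) a) = flip {i, j} a := by
      rintro (k | k) <;> by_cases h1 : k ∈ I <;> by_cases h2 : k ∈ ({i, j} : Finset (Fin m)) <;>
        simp [Finset.mem_symmDiff, h1, h2]
    have e : (B.submatrix (flip I) id).submatrix (flip (symmDiff I {i, j})) id = B.submatrix (flip {i, j}) id := by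
      ext a c
      simp [hflip]
    rw [e, ← Matrix.isUnit_iff_isUnit_det, ← Matrix.mulVec_injective_iff_isUnit]
    refine (injective_iff_map_eq_zero ((B.submatrix (flip {i, j}) id).toBlocks₁₁.mulVecLin)).mpr fun x hx => ?_
    rw [Matrix.mulVecLin_apply] at hx
    have hY : Y *ᵥ x = fun k => (if k = i then x j else 0) - (if k = j then x i else 0) := by
      funext k
      simp [Y, Matrix.sub_mulVec, Matrix.transpose_single, Matrix.single_mulVec, Function.update_apply]
    have hk : ∀ k, (if k ∈ ({i, j} : Finset (Fin m)) then (Y *ᵥ x) k else x k) = 0 := fun k => by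
      have := congrFun hx k
      rw [Pi.zero_apply] at this
      by_cases h : k ∈ ({i, j} : Finset (Fin m))
      · rw [if_pos h, ← this]
        have hfl : flip {i, j} (Sum.inl k) = Sum.inr k := by rw [flip_inl, if_pos h]
        simp [B, build, Matrix.mulVec, Matrix.toBlocks₁₁, dotProduct, hfl, -flip_inl]
      · rw [if_neg h, ← this]
        have hfl : flip {i, j} (Sum.inl k) = Sum.inl k := by rw [flip_inl, if_neg h]
        simp [B, build, Matrix.mulVec, Matrix.toBlocks₁₁, dotProduct, hfl, -flip_inl, Matrix.one_apply]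
    funext k
    have hki := hk i
    have hkj := hk j
    rw [if_pos (by simp), hY] at hki hkj
    simp [hij, hij.symm] at hki hkj
    rcases eq_or_ne k i with rfl | hi
    · simpa using hkj
    rcases eq_or_ne k j with rfl | hj
    · simpa using hki
    simpa [hi, hj] using hk k

end Charts

/-- functions invariant under changing two elements depend on the parity only -/
lemma parity_const {β : Type*} (v : Finset (Fin m) → β)
    (hstep : ∀ I, ∀ i j : Fin m, i ≠ j → v (symmDiff I {i, j}) = v I) :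
    (∀ I : Finset (Fin m), Even I.card → v I = v ∅) ∧
      ∀ I J : Finset (Fin m), ¬ Even I.card → ¬ Even J.card → v I = v J := by
  have key : ∀ n, ∀ I : Finset (Fin m), I.card = n →
      (Even n → v I = v ∅) ∧ (¬ Even n → ∃ i, v I = v {i}) := by
    intro n
    induction n using Nat.strong_induction_on with
    | _ n ih =>
      intro I hI
      match n, hI with
      | 0, hI => exact ⟨fun _ => by rw [Finset.card_eq_zero.mp hI], fun h => absurd ⟨0, rfl⟩ h⟩
      | 1, hI =>
        obtain ⟨i, rfl⟩ := Finset.card_eq_one.mp hI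
        exact ⟨fun h => absurd h (by decide), fun _ => ⟨i, rfl⟩⟩
      | k + 2, hI =>
        obtain ⟨i, hi, j, hj, hij⟩ := Finset.one_lt_card.mp (by omega : 1 < I.card)
        have hsub : ({i, j} : Finset (Fin m)) ⊆ I := by simp [Finset.insert_subset_iff, hi, hj]
        have hv : v I = v (I \ {i, j}) := by
          rw [← hstep I i j hij]
          congr 1
          ext a
          simp only [Finset.mem_symmDiff, Finset.mem_sdiff]
          exact ⟨fun h => h.elim id fun h2 => absurd (hsub h2.1) h2.2, Or.inl⟩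
        have hcard : (I \ {i, j}).card = k := by
          rw [Finset.card_sdiff_of_subset hsub, hI, Finset.card_pair hij]; omega
        obtain ⟨h1, h2⟩ := ih k (by omega) _ hcard
        refine ⟨fun h => hv.trans (h1 ?_), fun h => ?_⟩
        · simpa [Nat.even_add] using h
        · obtain ⟨a, ha⟩ := h2 (by simpa [Nat.even_add] using h)
          exact ⟨a, hv.trans ha⟩
  refine ⟨fun I h => (key _ I rfl).1 h, fun I J hI hJ => ?_⟩
  obtain ⟨i, hi⟩ := (key _ I rfl).2 hI
  obtain ⟨j, hj⟩ := (key _ J rfl).2 hJ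
  rw [hi, hj]
  rcases eq_or_ne i j with rfl | hij
  · rfl
  · rw [← hstep {i} i j hij]
    congr 1
    ext a
    simp only [Finset.mem_symmDiff, Finset.mem_insert, Finset.mem_singleton]
    rcases eq_or_ne a i with rfl | ha <;> simp [*]

/-- an idempotent with constant value `0` or `1` at all rational points is trivial -/
lemma eq_zero_or_one_of_points (K : Type u) [Field K] [IsAlgClosed K] {S : Type u} [CommRing S] [Algebra K S]
    [Algebra.FiniteType K S] {a : S} (ha : IsIdempotentElem a) (c : K) (hc01 : c = 0 ∨ c = 1)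
    (hc : ∀ y : S →ₐ[K] K, y a = c) : a = 0 ∨ a = 1 := by
  haveI : IsJacobsonRing S := isJacobsonRing_of_finiteType (A := K)
  have hnil : IsNilpotent (a - algebraMap K S c) := by
    have hj : a - algebraMap K S c ∈ (⊥ : Ideal S).jacobson := by
      refine Ideal.mem_sInf.mpr fun M hM => ?_
      haveI := hM.2
      letI := Ideal.Quotient.field M
      haveI : Module.Finite K (S ⧸ M) := finite_of_finite_type_of_isJacobsonRing K (S ⧸ M)
      let e := AlgEquiv.ofBijective (Algebra.ofId K (S ⧸ M))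
        (IsAlgClosed.algebraMap_bijective_of_isIntegral (k := K) (K := S ⧸ M))
      have := hc (e.symm.toAlgHom.comp (Ideal.Quotient.mkₐ K M))
      rw [← Ideal.Quotient.eq_zero_iff_mem, map_sub, Ideal.Quotient.mk_algebraMap, sub_eq_zero]
      exact (e.symm_apply_eq.mp this).trans (e.commutes c)
    rw [← Ideal.radical_eq_jacobson] at hj
    exact mem_nilradical.mp hj
  rcases hc01 with rfl | rfl
  · rw [map_zero, sub_zero] at hnil
    exact Or.inl (ha.eq_zero_of_isNilpotent hnil)
  · rw [map_one] at hnil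
    refine Or.inr (sub_eq_zero.mp (ha.one_sub.eq_zero_of_isNilpotent ?_)).symm
    have h := hnil.neg
    rwa [neg_sub] at h

section Main

variable {R : Type u} [CommRing R]

set_option backward.isDefEq.respectTransparency false in
theorem connectedSpace_geomFibre (hm : 1 ≤ m) (Q : QuadraticForm R (Fin (2 * m) → R)) (hQ : QuadGrp.IsRegular Q)
    {P : MvPolynomial (Fin (2 * m) × Fin (2 * m)) R}
    (hP : ∀ (A : Type u) [CommRing A] [Algebra R A] (x : Fin (2 * m) × Fin (2 * m) → A),
      (∀ k, (orthEqs (gramOf Q)).F A x k = 0) → IsIdempotentElem (MvPolynomial.aeval x P))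
    (hP2 : ∀ (A : Type u) [CommRing A] [Algebra R A] (h : ↥(QuadGrp.orth Q A)),
      (h.1 ∈ QuadGrp.sorth Q A ↔ MvPolynomial.aeval (matCoord A h.1) P = 1))
    (K : Type u) [Field K] [IsAlgClosed K] [Algebra R K] :
    ConnectedSpace (PrimeSpectrum (K ⊗[R] (compEqs (gramOf Q) P).H)) := by
  classical
  let C := gramOf Q
  let CK := (C.map (algebraMap R K)).submatrix (eN m) (eN m)
  obtain ⟨G0, hG0, hD⟩ := exists_split_gram (K := K) Q hQ
  have hGi := Matrix.mul_nonsing_inv G0 hG0
  have hGi' := Matrix.nonsing_inv_mul G0 hG0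
  let pt : Matrix (N m) (N m) K → Fin (2 * m) × Fin (2 * m) → K := fun M => umt (G0 * M * G0⁻¹)
  have hpt : ∀ M, IsOrth M → ∀ k, (orthEqs C).F K (pt M) k = 0 := fun M hM => by
    rw [orth_sol_iff, mt_umt]
    exact orthOf_conj hD hGi hM
  have hback : ∀ x, (∀ k, (orthEqs C).F K x k = 0) → ∃ M, IsOrth M ∧ pt M = x := fun x hx => by
    refine ⟨G0⁻¹ * mt x * G0, isOrth_conj hD hGi ((orth_sol_iff C K x).mp hx), ?_⟩
    simp only [pt]
    rw [← Matrix.mul_assoc, ← Matrix.mul_assoc, hGi, Matrix.one_mul, Matrix.mul_assoc, hGi, Matrix.mul_one, umt_mt]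
  -- the charts as solutions
  let cK : K →+* W K m := algebraMap K (W K m)
  let xW : Finset (Fin m) → Fin (2 * m) × Fin (2 * m) → W K m := fun I =>
    umt (G0.map cK * MW K I * G0⁻¹.map cK)
  have hxW : ∀ I, ∀ k, (orthEqs C).F (W K m) (xW I) k = 0 := fun I => by
    rw [orth_sol_iff, mt_umt]
    have hC : (C.map (algebraMap R (W K m))).submatrix (eN m) (eN m) = CK.map cK := by
      ext a c
      simp [CK, cK, ← IsScalarTower.algebraMap_apply]
    have hJ : J m (W K m) = (J m K).map cK := by simp [J, Matrix.fromBlocks_map]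
    rw [hC]
    refine orthOf_conj ?_ ?_ (isOrth_MW K I)
    · rw [hJ, ← Matrix.transpose_map, ← Matrix.map_mul, ← Matrix.map_mul, ← Matrix.map_sub _ (map_sub cK)]
      exact ⟨fun a => by rw [Matrix.map_apply, hD.1 a, map_zero],
        by rw [← Matrix.transpose_map, hD.2]; ext a c; simp [CK, C]⟩
    · rw [← Matrix.map_mul, hGi, Matrix.map_one _ (map_zero cK) (map_one cK)]
  have hχ : ∀ I M, IsOrth M → IsUnit (M.submatrix (flip I) id).toBlocks₁₁.det →
      ∃ χ : W K m →ₐ[K] K, χ ∘ xW I = pt M := fun I M hM hu => by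
    obtain ⟨χ, hc⟩ := exists_chart_point K I hM hu
    refine ⟨χ, ?_⟩
    rw [comp_umt]
    change umt ((G0.map cK * MW K I * G0⁻¹.map cK).map χ.toRingHom) = umt (G0 * M * G0⁻¹)
    rw [Matrix.map_mul, Matrix.map_mul, Matrix.map_map, Matrix.map_map,
      show (MW K I).map χ.toRingHom = M from hc]
    congr 2
    · congr 1; ext a c; simp [cK]
    · ext a c; simp [cK]
  -- the Dickson function on charts
  let vP : Finset (Fin m) → Prop := fun I => MvPolynomial.aeval (xW I) P = 1
  have hvP : ∀ I M, IsOrth M → IsUnit (M.submatrix (flip I) id).toBlocks₁₁.det →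
      (vP I ↔ MvPolynomial.aeval (pt M) P = 1) := fun I M hM hu => by
    obtain ⟨χ, hc⟩ := hχ I M hM hu
    have hmap : MvPolynomial.aeval (pt M) P = χ (MvPolynomial.aeval (xW I) P) := by
      rw [← hc, ← AlgHom.restrictScalars_apply R χ, ← AlgHom.comp_apply, MvPolynomial.comp_aeval]
      rfl
    rcases IsIdempotentElem.iff_eq_zero_or_one.mp (hP _ _ (hxW I)) with h | h
    · simp [vP, hmap, h]
    · simp [vP, hmap, h]
  have hparP := parity_const vP fun I i j hij => by
    obtain ⟨M, hM, h1, h2⟩ := exists_common_point K I hij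
    exact propext ((hvP _ M hM h2).trans (hvP _ M hM h1).symm)
  have hone : IsOrth (1 : Matrix (N m) (N m) K) := by
    rw [IsOrth, Matrix.transpose_one, Matrix.one_mul, Matrix.mul_one, sub_self]
    exact ⟨fun _ => rfl, by simp⟩
  have hflip0 : ((1 : Matrix (N m) (N m) K).submatrix (flip (∅ : Finset (Fin m))) id).toBlocks₁₁ = 1 := by
    ext a c; simp [Matrix.toBlocks₁₁, Matrix.one_apply]
  have hP1 : MvPolynomial.aeval (pt 1) P = 1 := by
    have h := (hP2 K (1 : ↥(QuadGrp.orth Q K))).mp (Subgroup.one_mem _)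
    have e : pt 1 = matCoord K (1 : ↥(QuadGrp.orth Q K)).1 := by
      funext p
      simp only [pt, Matrix.mul_one, hGi, umt, matCoord, Matrix.one_apply, (eN m).symm.injective.eq_iff]
      exact ((congrFun (congrFun (LinearMap.toMatrix_id _) p.1) p.2).trans Matrix.one_apply).symm
    rw [e]
    exact h
  have hv0 : vP ∅ := (hvP ∅ 1 hone (by rw [hflip0]; simp)).mpr hP1
  let bA := Algebra.TensorProduct.basis K (Pi.basisFun R (Fin (2 * m)))
  obtain ⟨g, hg, hgS⟩ := exists_not_mem_SOeven bA (even_two_mul m) (by omega)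
    (isRegular_baseChange K Q (Pi.basisFun R (Fin (2 * m))) hQ)
  have hgo : g ∈ QuadGrp.orth Q K := (mem_orth_iff Q K).mpr hg
  obtain ⟨M₁, hM₁, hpt₁⟩ := hback (matCoord K g) ((mem_orth_iff_coord C Q rfl K g).mp hgo)
  have hg0 : ¬ MvPolynomial.aeval (pt M₁) P = 1 := fun h => hgS ((mem_sorth_iff Q rfl K g).mp
    ((hP2 K ⟨g, hgo⟩).mpr (by rw [← hpt₁]; exact h)))
  obtain ⟨I₁, hI₁⟩ := exists_flip_isUnit hM₁
  have hI₁o : ¬ Even I₁.card := fun he =>
    hg0 ((hvP I₁ M₁ hM₁ hI₁).mp ((hparP.1 I₁ he).symm ▸ hv0))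
  have heven : ∀ I, vP I ↔ Even I.card := fun I => by
    refine ⟨fun h => ?_, fun he => (hparP.1 I he).symm ▸ hv0⟩
    by_contra ho
    rw [hparP.2 I I₁ ho hI₁o] at h
    exact hg0 ((hvP I₁ M₁ hM₁ hI₁).mp h)
  -- homomorphisms from the coordinate ring of the fibre
  let E := compEqs C P
  have hext : ∀ (A : Type u) [CommRing A] [Algebra K A] [Algebra R A] [IsScalarTower R K A] (f f' : (K ⊗[R] E.H) →ₐ[K] A),
      (∀ p, f (1 ⊗ₜ E.univ p) = f' (1 ⊗ₜ E.univ p)) → f = f' := fun A _ _ _ _ f f' h => by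
    refine Algebra.TensorProduct.ext (Subsingleton.elim _ _) ?_
    exact E.hom_ext (funext fun p => h p)
  have hhom : ∀ (A : Type u) [CommRing A] [Algebra K A] [Algebra R A] [IsScalarTower R K A]
      (x : Fin (2 * m) × Fin (2 * m) → A), (∀ k, E.F A x k = 0) →
      ∃ f : (K ⊗[R] E.H) →ₐ[K] A, ∀ p, f (1 ⊗ₜ E.univ p) = x p := fun A _ _ _ _ x hx => by
    obtain ⟨φ, hφ⟩ := E.exists_hom x hx
    exact ⟨Algebra.TensorProduct.lift (Algebra.ofId K A) φ fun _ _ => Commute.all _ _, fun p => by
      rw [Algebra.TensorProduct.lift_tmul, map_one, _root_.one_mul]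
      exact congrFun hφ p⟩
  choose Φ hΦ using fun (I : {I : Finset (Fin m) // Even I.card}) =>
    hhom (W K m) (xW I.1) ((compEqs_iff _ _).mpr ⟨hxW I.1, (heven I.1).mpr I.2⟩)
  have hpoint : ∀ y : (K ⊗[R] E.H) →ₐ[K] K, ∃ (I : Finset (Fin m)) (hI : Even I.card) (χ : W K m →ₐ[K] K),
      y = χ.comp (Φ ⟨I, hI⟩) := fun y => by
    let x : Fin (2 * m) × Fin (2 * m) → K := fun p => y (1 ⊗ₜ E.univ p)
    have hx : ∀ k, E.F K x k = 0 :=
      E.sol_map ((y.restrictScalars R).comp Algebra.TensorProduct.includeRight) E.univ_spec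
    obtain ⟨hxo, hx1⟩ := (compEqs_iff _ _).mp hx
    obtain ⟨M, hM, hMx⟩ := hback x hxo
    obtain ⟨I, hI⟩ := exists_flip_isUnit hM
    have he : Even I.card := (heven I).mp ((hvP I M hM hI).mpr (by rw [hMx]; exact hx1))
    obtain ⟨χ, hc⟩ := hχ I M hM hI
    refine ⟨I, he, χ, hext K _ _ fun p => ?_⟩
    rw [AlgHom.comp_apply, hΦ, show χ (xW I p) = pt M p from congrFun hc p, hMx]
  haveI : Algebra.FinitePresentation R E.H := E.finitePresentation
  haveI : Algebra.FiniteType K (K ⊗[R] E.H) := inferInstance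
  haveI : IsJacobsonRing (K ⊗[R] E.H) := isJacobsonRing_of_finiteType (A := K)
  have htriv : ∀ a : (K ⊗[R] E.H), IsIdempotentElem a → a = 0 ∨ a = 1 := fun a ha => by
    let va : Finset (Fin m) → W K m := fun I => if h : Even I.card then Φ ⟨I, h⟩ a else 0
    have hpar : ∀ I, Even I.card → va I = va ∅ := by
      refine (parity_const va fun I i j hij => ?_).1
      by_cases he : Even I.card
      · have he' : Even (symmDiff I {i, j}).card := by
          rw [← heven]
          obtain ⟨M, hM, a1, a2⟩ := exists_common_point K I hij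
          exact (hvP _ M hM a2).mpr ((hvP _ M hM a1).mp ((heven I).mpr he))
        obtain ⟨M, hM, a1, a2⟩ := exists_common_point K I hij
        obtain ⟨χ, hc⟩ := hχ _ M hM a1
        obtain ⟨χ', hc'⟩ := hχ _ M hM a2
        have heq : χ.comp (Φ ⟨I, he⟩) = χ'.comp (Φ ⟨_, he'⟩) := hext K _ _ fun p => by
          rw [AlgHom.comp_apply, AlgHom.comp_apply, hΦ, hΦ, show χ (xW I p) = _ from congrFun hc p,
            show χ' (xW (symmDiff I {i, j}) p) = _ from congrFun hc' p]
        have hval : χ (va I) = χ' (va (symmDiff I {i, j})) := by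
          simp only [va, dif_pos he, dif_pos he']
          exact AlgHom.congr_fun heq a
        simp only [va, dif_pos he, dif_pos he'] at hval ⊢
        rcases IsIdempotentElem.iff_eq_zero_or_one.mp (ha.map (Φ ⟨I, he⟩)) with h | h <;>
          rcases IsIdempotentElem.iff_eq_zero_or_one.mp (ha.map (Φ ⟨_, he'⟩)) with h' | h' <;>
          simp [h, h'] at hval ⊢
      · have he' : ¬ Even (symmDiff I {i, j}).card := fun he' => he ((heven I).mp (by
          obtain ⟨M, hM, a1, a2⟩ := exists_common_point K I hij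
          exact (hvP _ M hM a1).mpr ((hvP _ M hM a2).mp ((heven _).mpr he'))))
        simp only [va, dif_neg he, dif_neg he']
    obtain ⟨c, hc01, hc⟩ : ∃ c : K, (c = 0 ∨ c = 1) ∧ ∀ y : (K ⊗[R] E.H) →ₐ[K] K, y a = c := by
      have hall : ∀ y : (K ⊗[R] E.H) →ₐ[K] K, ∃ χ : W K m →ₐ[K] K, y a = χ (va ∅) := fun y => by
        obtain ⟨I, hI, χ, rfl⟩ := hpoint y
        exact ⟨χ, by rw [← hpar I hI]; simp only [va, dif_pos hI]; rfl⟩
      have h0 : va ∅ = 0 ∨ va ∅ = 1 := by
        simp only [va, dif_pos (show Even (∅ : Finset (Fin m)).card by simp)]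
        exact IsIdempotentElem.iff_eq_zero_or_one.mp (ha.map _)
      rcases h0 with h | h
      · exact ⟨0, Or.inl rfl, fun y => by obtain ⟨χ, hy⟩ := hall y; rw [hy, h, map_zero]⟩
      · exact ⟨1, Or.inr rfl, fun y => by obtain ⟨χ, hy⟩ := hall y; rw [hy, h, map_one]⟩
    exact eq_zero_or_one_of_points K (S := K ⊗[R] E.H) ha c hc01 hc
  refine @ConnectedSpace.mk _ _ (preconnectedSpace_iff_clopen.mpr fun s hs => ?_) ?_
  · obtain ⟨e, he, rfl⟩ := PrimeSpectrum.exists_idempotent_basicOpen_eq_of_isClopen hs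
    rcases htriv e he with rfl | rfl <;> simp
  · obtain ⟨f, -⟩ := hhom K (pt 1) ((compEqs_iff _ _).mpr ⟨hpt 1 hone, hP1⟩)
    exact ⟨⟨RingHom.ker f.toRingHom, RingHom.ker_isPrime _⟩⟩

end Main

end Groth.Agent.H21Clif.EvenConn

namespace Groth.Agent.H21Clif.EvenConn

open CategoryTheory CategoryTheory.Limits AlgebraicGeometry TensorProduct

set_option synthInstance.maxHeartbeats 100000
set_option maxHeartbeats 1000000
set_option linter.style.haveILetI false

set_option backward.isDefEq.respectTransparency false in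
theorem connectedSpace_fiber {R : Type u} [CommRing R] {m : ℕ} (hm : 1 ≤ m)
    (Q : QuadraticForm R (Fin (2 * m) → R)) (hQ : QuadGrp.IsRegular Q)
    (G : Over (Spec (CommRingCat.of R))) [GrpObj G] (D : QuadGrp.SOrthRep Q G) (s : ↥(Spec (CommRingCat.of R))) :
    ConnectedSpace ↥(G.hom.fiber s) := by
  obtain ⟨P, hP, hP2, ξ, hξ⟩ := exists_model Q hm hQ G D
  haveI : IsIso ξ.left := inferInstanceAs (IsIso ((Over.forget _).map ξ))
  let p : Ideal R := (show PrimeSpectrum R from s).asIdeal
  let K := AlgebraicClosure p.ResidueField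
  letI : Algebra R K := ((algebraMap p.ResidueField K).comp (algebraMap R p.ResidueField)).toAlgebra
  let H := (compEqs (gramOf Q) P).H
  let a : Spec (CommRingCat.of K) ⟶ Spec (CommRingCat.of R) := Spec.map (CommRingCat.ofHom (algebraMap R K))
  let q : Spec (CommRingCat.of H) ⟶ Spec (CommRingCat.of R) := Spec.map (CommRingCat.ofHom (algebraMap R H))
  haveI : ConnectedSpace ↥(Spec (CommRingCat.of (K ⊗[R] H))) := connectedSpace_geomFibre hm Q hQ hP hP2 K
  haveI : ConnectedSpace ↥(pullback a q) :=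
    (pullbackSpecIso R K H).inv.surjective.connectedSpace (pullbackSpecIso R K H).inv.continuous
  have hrange : Set.range a.base = {s} := by
    haveI : Subsingleton ↥(Spec (CommRingCat.of K)) := inferInstanceAs (Subsingleton (PrimeSpectrum K))
    have h0 : ∀ x, a.base x = s := fun x => PrimeSpectrum.ext (by
      change Ideal.comap (algebraMap R K) (show PrimeSpectrum K from x).asIdeal = p
      rw [(Ideal.eq_bot_or_top (show PrimeSpectrum K from x).asIdeal).resolve_right
        (show PrimeSpectrum K from x).isPrime.ne_top]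
      ext r
      rw [Ideal.mem_comap, Ideal.mem_bot, RingHom.algebraMap_toAlgebra, RingHom.comp_apply, map_eq_zero,
        Ideal.algebraMap_residueField_eq_zero])
    ext y
    exact ⟨fun ⟨x, hx⟩ => hx.symm.trans (h0 x), fun hy => ⟨(⟨⊥, Ideal.isPrime_bot⟩ : PrimeSpectrum K),
      (h0 _).trans hy.symm⟩⟩
  have hw : ξ.left ≫ G.hom = q := Over.w ξ
  have hfib : G.hom.base ⁻¹' {s} = Set.range (pullback.snd a q ≫ ξ.left).base := by
    rw [Scheme.Hom.comp_base, TopCat.coe_comp, Set.range_comp, Scheme.Pullback.range_snd, hrange]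
    ext g
    constructor
    · intro hg
      refine ⟨(CategoryTheory.inv ξ.left).base g, ?_, ?_⟩
      · change q.base _ ∈ ({s} : Set _)
        have e : CategoryTheory.inv ξ.left ≫ q = G.hom := by rw [← hw, IsIso.inv_hom_id_assoc]
        exact (congrArg (fun f : G.left ⟶ _ => f.base g) e).trans hg
      · change ξ.left.base ((CategoryTheory.inv ξ.left).base g) = g
        exact congrArg (fun f : G.left ⟶ _ => f.base g) (IsIso.inv_hom_id ξ.left)
    · rintro ⟨z, hz, rfl⟩
      exact (congrArg (fun f : Spec (CommRingCat.of H) ⟶ _ => f.base z) hw).trans hz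
  have hc : _root_.IsConnected (G.hom.base ⁻¹' {s}) := by
    rw [hfib]
    exact isConnected_range (pullback.snd a q ≫ ξ.left).continuous
  haveI := isConnected_iff_connectedSpace.mp hc
  exact (G.hom.fiberHomeo s).symm.surjective.connectedSpace (G.hom.fiberHomeo s).symm.continuous

end Groth.Agent.H21Clif.EvenConn
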