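import Groth.Agent.H21Clif.EvenComponent
import Mathlib.AlgebraicGeometry.Morphisms.Smooth

/-!
# The special orthogonal group scheme of a regular form of even rank: model and smoothness
-/

universe u

namespace Groth.Agent.H21Clif

open CategoryTheory AlgebraicGeometry TensorProduct Matrix
open scoped MonObj

set_option linter.style.haveILetI false
set_option linter.unusedSectionVars false
set_option synthInstance.maxHeartbeats 100000

variable {R : Type u} [CommRing R] {n : ℕ}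

/-- equations of the component where `P = 1` -/
noncomputable def compEqs (C : Matrix (Fin n) (Fin n) R) (P : MvPolynomial (Fin n × Fin n) R) :
    H21Rep.Eqs R (Fin n × Fin n) (Sym2 (Fin n) ⊕ Unit) where
  F A _ _ x k := Sum.elim ((orthEqs C).F A x) (fun _ => MvPolynomial.aeval x P - 1) k
  map A B _ _ _ _ φ x k := by
    cases k with
    | inl k => exact (orthEqs C).map A B φ x k
    | inr k =>
      simp only [Sum.elim_inr, map_sub, map_one]
      rw [← AlgHom.comp_apply, MvPolynomial.comp_aeval]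
      rfl

variable {C : Matrix (Fin n) (Fin n) R} {P : MvPolynomial (Fin n × Fin n) R}

lemma compEqs_iff (A : Type u) [CommRing A] [Algebra R A] (x : Fin n × Fin n → A) :
    (∀ k, (compEqs C P).F A x k = 0) ↔ (∀ k, (orthEqs C).F A x k = 0) ∧ MvPolynomial.aeval x P = 1 := by
  rw [Sum.forall]
  exact and_congr Iff.rfl ⟨fun h => sub_eq_zero.mp (h ()), fun h _ => sub_eq_zero.mpr h⟩

variable (hP : ∀ (A : Type u) [CommRing A] [Algebra R A] (x : Fin n × Fin n → A),
  (∀ k, (orthEqs C).F A x k = 0) → IsIdempotentElem (MvPolynomial.aeval x P))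

include hP in
lemma aeval_eq_one_of_nilpotent {A B : Type u} [CommRing A] [Algebra R A] [CommRing B] [Algebra R B]
    (f : A →ₐ[R] B) (hf : ∀ a, f a = 0 → IsNilpotent a) {y : Fin n × Fin n → A}
    (hy : ∀ k, (orthEqs C).F A y k = 0) (h1 : MvPolynomial.aeval (f ∘ y) P = 1) :
    MvPolynomial.aeval y P = 1 := by
  have h2 : f (MvPolynomial.aeval y P) = 1 := by
    rw [← h1, ← AlgHom.comp_apply, MvPolynomial.comp_aeval]
    rfl
  refine (IsIdempotentElem.iff_eq_one_of_isUnit ?_).mp (hP A y hy)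
  have hn : IsNilpotent (MvPolynomial.aeval y P - 1) := hf _ (by rw [map_sub, h2, map_one, sub_self])
  have := hn.isUnit_one_add
  rwa [add_sub_cancel] at this

include hP in
lemma comp_lifts (hC : IsUnit (C + Cᵀ).det) : (compEqs C P).Lifts := by
  intro A _ _ I hI x hx
  obtain ⟨h1, h2⟩ := (compEqs_iff _ x).mp hx
  obtain ⟨y, hy, hyx⟩ := orth_lifts C hC A I hI x h1
  refine ⟨y, (compEqs_iff _ y).mpr ⟨hy, ?_⟩, hyx⟩
  refine aeval_eq_one_of_nilpotent hP (Ideal.Quotient.mkₐ R I) (fun a ha => ⟨2, ?_⟩) hy ?_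
  · rw [← Ideal.mem_bot, ← hI]
    exact Ideal.pow_mem_pow (Ideal.Quotient.eq_zero_iff_mem.mp ha) 2
  · rw [show (Ideal.Quotient.mkₐ R I : A → A ⧸ I) ∘ y = x from funext hyx, h2]

include hP in
lemma comp_isTangent_iff {k : Type u} [CommRing k] [Algebra R k] (x δ : Fin n × Fin n → k)
    (hx : ∀ a, (compEqs C P).F k x a = 0) :
    (compEqs C P).IsTangent x δ ↔ (orthEqs C).IsTangent x δ := by
  refine ⟨fun h a => h (Sum.inl a), fun h => (compEqs_iff _ _).mpr ⟨h, ?_⟩⟩
  refine aeval_eq_one_of_nilpotent hP ((TrivSqZeroExt.fstHom k k k).restrictScalars R) (fun a ha => ⟨2, ?_⟩) h ?_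
  · have ha' : a.fst = 0 := ha
    rw [pow_two]
    exact TrivSqZeroExt.ext (by simp [ha']) (by simp [ha'])
  · refine Eq.trans ?_ ((compEqs_iff _ x).mp hx).2
    congr 2
    funext i
    simp

section Main

variable {m : ℕ} (Q : QuadraticForm R (Fin (2 * m) → R))

/-- the Gram matrix -/
noncomputable def gramOf : Matrix (Fin (2 * m)) (Fin (2 * m)) R :=
  LinearMap.BilinForm.toMatrix (Pi.basisFun R (Fin (2 * m))) (Q.toBilin (Pi.basisFun R (Fin (2 * m))))

lemma isUnit_det_gramOf (hQ : QuadGrp.IsRegular Q) : IsUnit (gramOf Q + (gramOf Q)ᵀ).det :=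
  (gram_nondeg Q ⟨fun _ => hQ, fun h => absurd h (Nat.not_odd_iff_even.mpr (even_two_mul m))⟩).1 (even_two_mul m)

/-- a model of `SO(q)` -/
theorem exists_model (hm : 1 ≤ m) (hQ : QuadGrp.IsRegular Q)
    (G : Over (Spec (CommRingCat.of R))) [GrpObj G] (D : QuadGrp.SOrthRep Q G) :
    ∃ P : MvPolynomial (Fin (2 * m) × Fin (2 * m)) R,
      (∀ (A : Type u) [CommRing A] [Algebra R A] (x : Fin (2 * m) × Fin (2 * m) → A),
        (∀ k, (orthEqs (gramOf Q)).F A x k = 0) → IsIdempotentElem (MvPolynomial.aeval x P)) ∧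
      (∀ (A : Type u) [CommRing A] [Algebra R A] (h : ↥(QuadGrp.orth Q A)),
        (h.1 ∈ QuadGrp.sorth Q A ↔ MvPolynomial.aeval (matCoord A h.1) P = 1)) ∧
      ∃ ξ : QuadGrp.specOver R (compEqs (gramOf Q) P).H ⟶ G, IsIso ξ := by
  have hnd := isUnit_det_gramOf Q hQ
  obtain ⟨P, hP1, hP2⟩ := exists_dicksonPoly Q rfl hm hQ (gramOf Q) rfl hnd
  have hle : ∀ (A : Type u) [CommRing A] [Algebra R A], ∀ g ∈ QuadGrp.sorth Q A, g ∈ QuadGrp.orth Q A :=
    fun A _ _ g hg => by
      obtain ⟨hg', -⟩ := (mem_sorth_iff Q rfl A g).mp hg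
      exact (mem_orth_iff Q A).mpr hg'
  let e : ∀ (A : Type u) [CommRing A] [Algebra R A], ↥(QuadGrp.sorth Q A) ≃
      {x : Fin (2 * m) × Fin (2 * m) → A // ∀ k, (compEqs (gramOf Q) P).F A x k = 0} := fun A _ _ =>
    Equiv.ofBijective (fun g => ⟨matCoord A g.1, (compEqs_iff _ _).mpr
        ⟨(mem_orth_iff_coord (gramOf Q) Q rfl A g.1).mp (hle A _ g.2), (hP2 A ⟨g.1, hle A _ g.2⟩).mp g.2⟩⟩)
      ⟨fun _ _ heq => Subtype.ext (matCoord_injective A (Subtype.ext_iff.mp heq)), fun x => by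
        obtain ⟨h1, h2⟩ := (compEqs_iff _ x.1).mp x.2
        obtain ⟨h, hh⟩ := exists_coord (gramOf Q) Q rfl A (Or.inl hnd) x.1 h1
        have ho : h ∈ QuadGrp.orth Q A := (mem_orth_iff_coord (gramOf Q) Q rfl A h).mpr (by rw [hh]; exact h1)
        exact ⟨⟨h, (hP2 A ⟨h, ho⟩).mpr (by rw [hh]; exact h2)⟩, Subtype.ext hh⟩⟩
  exact ⟨P, hP1, hP2, H21Rep.exists_iso (compEqs (gramOf Q) P) G (fun A _ _ => (D.pts A).toEquiv.trans (e A))
    fun A B _ _ _ _ φ y => matCoord_natural φ _ _ (D.natural A B φ y)⟩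

theorem smoothOfRelativeDimension_sorth (hm : 1 ≤ m) (hQ : QuadGrp.IsRegular Q)
    (G : Over (Spec (CommRingCat.of R))) [GrpObj G] (D : QuadGrp.SOrthRep Q G) :
    SmoothOfRelativeDimension (m * (2 * m - 1)) G.hom := by
  obtain ⟨P, hP, -, ξ, hξ⟩ := exists_model Q hm hQ G D
  haveI : IsIso ξ.left := inferInstanceAs (IsIso ((Over.forget _).map ξ))
  have hn : (2 * m).choose 2 = m * (2 * m - 1) := by
    rw [Nat.choose_two_right, mul_assoc, Nat.mul_div_cancel_left _ two_pos]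
  have h1 : SmoothOfRelativeDimension (m * (2 * m - 1))
      (Spec.map (CommRingCat.ofHom (algebraMap R (compEqs (gramOf Q) P).H))) := by
    rw [HasRingHomProperty.Spec_iff (P := @SmoothOfRelativeDimension (m * (2 * m - 1))), CommRingCat.hom_ofHom, ← hn]
    refine H21Rep.locally_standardSmooth _ (comp_lifts hP (isUnit_det_gramOf Q hQ)) _ fun k _ _ x hx => ?_
    obtain ⟨T, hT, hTt⟩ := exists_tangent (gramOf Q) (isUnit_det_gramOf Q hQ) k x ((compEqs_iff _ x).mp hx).1
    exact ⟨T, hT, fun δ => (hTt δ).trans (comp_isTangent_iff hP x δ hx).symm⟩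
  have e1 : ξ.left ≫ G.hom = Spec.map (CommRingCat.ofHom (algebraMap R (compEqs (gramOf Q) P).H)) := Over.w ξ
  haveI := h1
  haveI : SmoothOfRelativeDimension 0 (CategoryTheory.inv ξ.left) := inferInstance
  rw [← IsIso.inv_hom_id_assoc ξ.left G.hom, e1, ← Nat.zero_add (m * (2 * m - 1))]
  exact smoothOfRelativeDimension_comp 0 (m * (2 * m - 1)) _ _ (hf := this) (hg := h1)

end Main

end Groth.Agent.H21Clif
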