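import Mathlib.LinearAlgebra.ExteriorAlgebra.Basis
import Mathlib.LinearAlgebra.CliffordAlgebra.Contraction
import Mathlib.LinearAlgebra.Finsupp.LinearCombination
import Mathlib.Tactic.NoncommRing

/-!
# Monomials of the exterior algebra of a finite free module and contractions
-/

universe u v

namespace Groth.Agent.H21Clif

open CliffordAlgebra

variable {R : Type u} [CommRing R] {M : Type v} [AddCommGroup M] [Module R M]
variable {n : ℕ} (b : Module.Basis (Fin n) R M)

set_option linter.style.haveILetI false

/-- the monomial of a finite set of indices -/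
noncomputable def mono (S : Finset (Fin n)) : ExteriorAlgebra R M :=
  ((S.sort).map fun i => ExteriorAlgebra.ι R (b i)).prod

lemma basis_eq_mono (S : Finset (Fin n)) : b.ExteriorAlgebra S = mono b S := by
  rw [ExteriorAlgebra.basis_apply_ofCard b (rfl : S.card = S.card)]
  change (List.ofFn fun i : Fin S.card => ExteriorAlgebra.ι R
    (b (S.orderEmbOfFin rfl i))).prod = ((S.sort).map fun i => ExteriorAlgebra.ι R (b i)).prod
  congr 1
  refine List.ext_getElem (by simp) fun i h1 h2 => ?_
  simp [Finset.orderEmbOfFin_apply]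

lemma contract_prod (l : List (Fin n)) (hl : l.Nodup) (i : Fin n) :
    contractLeft (Q := (0 : QuadraticForm R M)) (b.coord i)
      ((l.map fun j => ExteriorAlgebra.ι R (b j)).prod) =
      if i ∈ l then ((-1 : R) ^ l.idxOf i) •
        ((l.erase i).map fun j => ExteriorAlgebra.ι R (b j)).prod else 0 := by
  induction l with
  | nil =>
    rw [List.map_nil, List.prod_nil, if_neg (List.not_mem_nil)]
    exact contractLeft_one (Q := (0 : QuadraticForm R M)) (b.coord i)
  | cons a l ih =>
    obtain ⟨hal, hl'⟩ := List.nodup_cons.mp hl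
    rw [List.map_cons, List.prod_cons]
    refine (contractLeft_ι_mul (Q := (0 : QuadraticForm R M)) (b.coord i) (b a) _).trans ?_
    rw [ih hl']
    by_cases hia : a = i
    · subst hia
      simp [hal]
    · have : i ≠ a := fun h => hia h.symm
      by_cases hil : i ∈ l
      · simp only [hil, List.mem_cons, or_true, if_true, if_false, this,
          List.idxOf_cons_ne _ hia, List.erase_cons_tail (show ¬((a == i) = true) by simpa using hia),
          List.map_cons, List.prod_cons, Module.Basis.coord_apply, Module.Basis.repr_self,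
          Finsupp.single_eq_of_ne this, zero_smul, zero_sub, mul_smul_comm, pow_succ, mul_neg_one,
          neg_smul]
      · simp [hil, this, Module.Basis.coord_apply, Finsupp.single_eq_of_ne this]

lemma contract_mono (S : Finset (Fin n)) (i : Fin n) :
    contractLeft (Q := (0 : QuadraticForm R M)) (b.coord i) (mono b S) =
      if i ∈ S then ((-1 : R) ^ (S.sort).idxOf i) • mono b (S.erase i) else 0 := by
  rw [mono, contract_prod b _ (Finset.sort_nodup _ _) i]
  simp only [Finset.mem_sort]
  split_ifs with h
  · congr 3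
    refine List.Perm.eq_of_pairwise' ((S.pairwise_sort (· ≤ ·)).sublist List.erase_sublist)
      ((S.erase i).pairwise_sort (· ≤ ·)) ?_
    exact (List.perm_ext_iff_of_nodup ((Finset.sort_nodup _ _).erase i) (Finset.sort_nodup _ _)).mpr
      fun a => by simp [(Finset.sort_nodup S _).mem_erase_iff]
  · rfl

/-- coordinates in the monomial basis -/
noncomputable def coef (S : Finset (Fin n)) : ExteriorAlgebra R M →ₗ[R] R := b.ExteriorAlgebra.coord S

lemma coef_mono (S T : Finset (Fin n)) : coef b T (mono b S) = if S = T then 1 else 0 := by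
  rw [← basis_eq_mono, coef, Module.Basis.coord_apply, Module.Basis.repr_self, Finsupp.single_apply]

lemma sum_coef (x : ExteriorAlgebra R M) : ∑ S, coef b S x • mono b S = x := by
  simp only [← basis_eq_mono]
  exact b.ExteriorAlgebra.sum_repr x

lemma ext_on_mono {N : Type*} [AddCommMonoid N] [Module R N] {f g : ExteriorAlgebra R M →ₗ[R] N}
    (h : ∀ S, f (mono b S) = g (mono b S)) : f = g :=
  b.ExteriorAlgebra.ext fun S => by rw [basis_eq_mono]; exact h S

lemma coef_contract (T : Finset (Fin n)) (i : Fin n) (x : ExteriorAlgebra R M) :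
    coef b T (contractLeft (Q := (0 : QuadraticForm R M)) (b.coord i) x) =
      if i ∈ T then 0 else ((-1 : R) ^ ((insert i T).sort).idxOf i) * coef b (insert i T) x := by
  conv_lhs => rw [← sum_coef b x]
  simp only [map_sum, map_smul, smul_eq_mul, contract_mono]
  by_cases hT : i ∈ T
  · rw [if_pos hT]
    refine Finset.sum_eq_zero fun S _ => ?_
    split_ifs with h
    · rw [map_smul, coef_mono, if_neg, smul_zero, mul_zero]
      exact fun e => (Finset.notMem_erase i S) (e ▸ hT)
    · simp
  · rw [if_neg hT, Finset.sum_eq_single (insert i T)]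
    · rw [if_pos (Finset.mem_insert_self _ _), map_smul, coef_mono,
        if_pos (Finset.erase_insert hT), smul_eq_mul, mul_one, mul_comm]
    · intro S _ hS
      split_ifs with h
      · rw [map_smul, coef_mono, if_neg, smul_zero, mul_zero]
        exact fun e => hS (by rw [← e, Finset.insert_erase h])
      · simp
    · simp

lemma eq_algebraMap_of_contract_eq_zero (x : ExteriorAlgebra R M)
    (h : ∀ i, contractLeft (Q := (0 : QuadraticForm R M)) (b.coord i) x = 0) :
    x = algebraMap R _ (coef b ∅ x) := by
  have h0 : ∀ S : Finset (Fin n), S ≠ ∅ → coef b S x = 0 := fun S hS => by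
    obtain ⟨i, hi⟩ := Finset.nonempty_iff_ne_empty.mpr hS
    have := coef_contract b (S.erase i) i x
    rw [h i, map_zero, if_neg (Finset.notMem_erase i S), Finset.insert_erase hi] at this
    exact ((isUnit_one.neg.pow _).mul_right_eq_zero).mp this.symm
  conv_lhs => rw [← sum_coef b x]
  rw [Finset.sum_eq_single ∅ (fun S _ hS => by rw [h0 S hS, zero_smul]) (by simp),
    Algebra.algebraMap_eq_smul_one]
  simp [mono]

/-- the top coefficient -/
noncomputable def top : ExteriorAlgebra R M →ₗ[R] R := coef b Finset.univ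

lemma top_contract (d : Module.Dual R M) (x : ExteriorAlgebra R M) :
    top b (contractLeft (Q := (0 : QuadraticForm R M)) d x) = 0 := by
  have hd : d = ∑ i, d (b i) • b.coord i := b.ext fun j => by
    simp [Finsupp.single_apply]
  rw [hd, map_sum, LinearMap.sum_apply, map_sum]
  refine Finset.sum_eq_zero fun i _ => ?_
  rw [map_smul, LinearMap.smul_apply, map_smul, top, coef_contract, if_pos (Finset.mem_univ i),
    smul_zero]

lemma eq_smul_top {N : Type*} [AddCommGroup N] [Module R N] (f : ExteriorAlgebra R M →ₗ[R] N)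
    (hf : ∀ i x, f (contractLeft (Q := (0 : QuadraticForm R M)) (b.coord i) x) = 0)
    (x : ExteriorAlgebra R M) : f x = top b x • f (mono b Finset.univ) := by
  have h0 : ∀ S : Finset (Fin n), S ≠ Finset.univ → f (mono b S) = 0 := fun S hS => by
    obtain ⟨i, hi⟩ : ∃ i, i ∉ S := by
      by_contra! h
      exact hS (Finset.eq_univ_iff_forall.mpr h)
    have := hf i (mono b (insert i S))
    rw [contract_mono, if_pos (Finset.mem_insert_self _ _), map_smul, Finset.erase_insert hi] at this
    exact ((isUnit_one.neg.pow _).smul_eq_zero).mp this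
  conv_lhs => rw [← sum_coef b x]
  rw [map_sum, Finset.sum_eq_single Finset.univ (fun S _ hS => by rw [map_smul, h0 S hS, smul_zero])
    (by simp), map_smul]
  rfl

lemma mono_mul_mono_of_disjoint {S T : Finset (Fin n)} (hd : Disjoint S T) :
    ∃ ε : ℤˣ, mono b S * mono b T = ε • mono b (S ∪ T) := by
  let s := Set.powersetCard.ofCard (rfl : S.card = S.card)
  let t := Set.powersetCard.ofCard (rfl : T.card = T.card)
  refine ⟨_, (congrArg₂ (· * ·) (basis_eq_mono b S).symm (basis_eq_mono b T).symm).trans
    ((ExteriorAlgebra.basis_mul_of_disjoint b s t hd).trans (congrArg _ ?_))⟩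
  rw [basis_eq_mono]
  congr 1
  ext a
  simp [s, t, Set.powersetCard.disjUnion]

lemma mono_mul_mono_of_not_disjoint {S T : Finset (Fin n)} (hd : ¬Disjoint S T) :
    mono b S * mono b T = 0 :=
  (congrArg₂ (· * ·) (basis_eq_mono b S).symm (basis_eq_mono b T).symm).trans
    (ExteriorAlgebra.basis_mul_of_not_disjoint b (Set.powersetCard.ofCard (rfl : S.card = S.card))
      (Set.powersetCard.ofCard (rfl : T.card = T.card)) hd)

lemma mono_mul_compl (S : Finset (Fin n)) :
    IsUnit (coef b Finset.univ (mono b Sᶜ * mono b S)) ∧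
      ∀ T, T ≠ S → coef b Finset.univ (mono b Sᶜ * mono b T) = 0 := by
  refine ⟨?_, fun T hT => ?_⟩
  · obtain ⟨ε, hε⟩ := mono_mul_mono_of_disjoint b (S := Sᶜ) (T := S) disjoint_compl_left
    rw [hε, show Sᶜ ∪ S = Finset.univ by ext; simp [em'], Units.smul_def, map_zsmul, coef_mono,
      if_pos rfl, zsmul_eq_mul, mul_one]
    exact (Units.map (Int.castRingHom R).toMonoidHom ε).isUnit
  · by_cases hd : Disjoint Sᶜ T
    · obtain ⟨ε, hε⟩ := mono_mul_mono_of_disjoint b hd
      rw [hε, Units.smul_def, map_zsmul, coef_mono, if_neg, smul_zero]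
      intro he
      apply hT
      ext a
      have h1 := Finset.eq_univ_iff_forall.mp he a
      have h2 : a ∈ Sᶜ → a ∉ T := fun h => Finset.disjoint_left.mp hd h
      simp at h1 h2
      tauto
    · rw [mono_mul_mono_of_not_disjoint b hd, map_zero]

/-- contraction as an endomorphism -/
noncomputable def ctr (i : Fin n) : Module.End R (ExteriorAlgebra R M) :=
  contractLeft (Q := (0 : QuadraticForm R M)) (b.coord i)

lemma prod_ctr_mono (l : List (Fin n)) (hl : l.Nodup) (S : Finset (Fin n)) :
    ∃ ε : R, IsUnit ε ∧ (l.map (ctr b)).prod (mono b S) =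
      if l.toFinset ⊆ S then ε • mono b (S \ l.toFinset) else 0 := by
  induction l with
  | nil => exact ⟨1, isUnit_one, by simp⟩
  | cons a l ih =>
    obtain ⟨hal, hl'⟩ := List.nodup_cons.mp hl
    obtain ⟨ε, hε, he⟩ := ih hl'
    refine ⟨ε * (-1 : R) ^ ((S \ l.toFinset).sort).idxOf a, hε.mul (isUnit_one.neg.pow _), ?_⟩
    rw [List.map_cons, List.prod_cons, Module.End.mul_apply, he]
    by_cases hs : l.toFinset ⊆ S
    · rw [if_pos hs, map_smul, ctr, contract_mono]
      by_cases ha : a ∈ S
      · rw [if_pos (Finset.mem_sdiff.mpr ⟨ha, by simpa using hal⟩), if_pos (by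
          rw [List.toFinset_cons]; exact Finset.insert_subset ha hs), smul_smul]
        congr 2
        ext x
        simp only [List.toFinset_cons, Finset.mem_erase, Finset.mem_sdiff, Finset.mem_insert]
        tauto
      · rw [if_neg (fun h => ha (Finset.mem_sdiff.mp h).1), smul_zero, if_neg (fun h => ha (h (by simp)))]
    · rw [if_neg hs, map_zero, if_neg (fun h => hs (fun x hx => h (by simp_all)))]

/-- Left multiplications by vectors and contractions generate all endomorphisms. -/
lemma mem_of_mulLeft_of_ctr (A : Subalgebra R (Module.End R (ExteriorAlgebra R M)))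
    (hv : ∀ i, LinearMap.mulLeft R (ExteriorAlgebra.ι R (b i)) ∈ A) (hd : ∀ i, ctr b i ∈ A)
    (f : Module.End R (ExteriorAlgebra R M)) : f ∈ A := by
  classical
  have hL : ∀ S : Finset (Fin n), LinearMap.mulLeft R (mono b S) ∈ A := fun S => by
    rw [mono]
    change Algebra.lmul R (ExteriorAlgebra R M) _ ∈ A
    rw [map_list_prod, List.map_map]
    exact Subalgebra.list_prod_mem A fun x hx => by
      obtain ⟨i, -, rfl⟩ := List.mem_map.mp hx
      exact hv i
  set X := ((List.finRange n).map (ctr b)).prod with hX
  have hXA : X ∈ A := Subalgebra.list_prod_mem A fun x hx => by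
    obtain ⟨i, -, rfl⟩ := List.mem_map.mp hx
    exact hd i
  obtain ⟨ε, hε, he⟩ := prod_ctr_mono b _ (List.nodup_finRange n) (Finset.univ : Finset (Fin n))
  have hXapply : ∀ S, X (mono b S) = if S = Finset.univ then ε • (1 : ExteriorAlgebra R M) else 0 := fun S => by
    by_cases hS : S = Finset.univ
    · subst hS
      rw [if_pos rfl, hX, he, if_pos (Finset.subset_univ _)]
      simp [mono]
    · obtain ⟨ε', -, he'⟩ := prod_ctr_mono b _ (List.nodup_finRange n) S
      rw [if_neg hS, hX, he', if_neg]
      intro h
      exact hS (Finset.eq_univ_iff_forall.mpr fun x => h (by simp))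
  let E : Finset (Fin n) → Finset (Fin n) → Module.End R (ExteriorAlgebra R M) := fun S T =>
    (hε.unit⁻¹ : Rˣ).val • ((mono_mul_compl b S).1.unit⁻¹ : Rˣ).val •
      (LinearMap.mulLeft R (mono b T) * (X * LinearMap.mulLeft R (mono b Sᶜ)))
  have hE : ∀ S T S', E S T (mono b S') = if S' = S then mono b T else 0 := fun S T S' => by
    simp only [E, LinearMap.smul_apply, Module.End.mul_apply, LinearMap.mulLeft_apply]
    have hX' : ∀ y, X y = (ε * coef b Finset.univ y) • (1 : ExteriorAlgebra R M) := by
      refine LinearMap.congr_fun (f := X)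
        (g := ((ε : R) • coef b Finset.univ).smulRight (1 : ExteriorAlgebra R M)) ?_
      refine ext_on_mono b fun U => ?_
      rw [hXapply, LinearMap.smulRight_apply, LinearMap.smul_apply, coef_mono, smul_eq_mul]
      split_ifs <;> simp
    rw [hX', mul_smul_comm, mul_one]
    by_cases h : S' = S
    · subst h
      rw [if_pos rfl, smul_smul, smul_smul]
      conv_rhs => rw [← one_smul R (mono b T)]
      congr 1
      calc _ = ((hε.unit⁻¹ : Rˣ).val * ε) * (((mono_mul_compl b S').1.unit⁻¹ : Rˣ).val *
              coef b Finset.univ (mono b S'ᶜ * mono b S')) := by ring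
        _ = 1 := by rw [hε.val_inv_mul, IsUnit.val_inv_mul, one_mul]
    · rw [if_neg h, (mono_mul_compl b S).2 S' h, mul_zero, zero_smul, smul_zero, smul_zero]
  have hf : f = ∑ S, ∑ T, coef b T (f (mono b S)) • E S T := by
    refine ext_on_mono b fun S' => ?_
    simp only [LinearMap.sum_apply, LinearMap.smul_apply, hE, smul_ite, smul_zero]
    rw [Finset.sum_eq_single S' (fun S _ hS => by simp [Ne.symm hS]) (by simp)]
    simp only [if_true]
    exact (sum_coef b _).symm
  rw [hf]
  exact Subalgebra.sum_mem _ fun S _ => Subalgebra.sum_mem _ fun T _ =>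
    A.smul_mem (A.smul_mem (A.smul_mem (A.mul_mem (hL T) (A.mul_mem hXA (hL _))) _) _) _

/-- the span of the monomials of degree at most `k` -/
noncomputable def degLE (k : ℕ) : Submodule R (ExteriorAlgebra R M) :=
  Submodule.span R (mono b '' {S | S.card ≤ k})

lemma degLE_mono {k l : ℕ} (h : k ≤ l) : degLE b k ≤ degLE b l :=
  Submodule.span_mono (Set.image_mono fun _ hS => le_trans hS h)

lemma top_eq_zero_of_mem_degLE {k : ℕ} (hk : k < n) {x : ExteriorAlgebra R M} (hx : x ∈ degLE b k) :
    top b x = 0 := by
  refine Submodule.span_induction ?_ (map_zero _) (fun _ _ _ _ h h' => by rw [map_add, h, h', add_zero])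
    (fun c _ _ h => by rw [map_smul, h, smul_zero]) hx
  rintro _ ⟨S, hS, rfl⟩
  rw [top, coef_mono, if_neg]
  rintro rfl
  simp at hS
  omega

lemma contract_mem_degLE {k : ℕ} (d : Module.Dual R M) {x : ExteriorAlgebra R M} (hx : x ∈ degLE b k) :
    contractLeft (Q := (0 : QuadraticForm R M)) d x ∈ degLE b (k - 1) := by
  refine Submodule.span_induction ?_ (by simp) (fun _ _ _ _ h h' => by rw [map_add]; exact add_mem h h')
    (fun c _ _ h => by rw [map_smul]; exact Submodule.smul_mem _ _ h) hx
  rintro _ ⟨S, hS, rfl⟩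
  have hd : d = ∑ i, d (b i) • b.coord i := b.ext fun j => by simp [Finsupp.single_apply]
  rw [hd, map_sum, LinearMap.sum_apply]
  refine Submodule.sum_mem _ fun i _ => ?_
  rw [map_smul, LinearMap.smul_apply, contract_mono]
  split_ifs with h
  · refine Submodule.smul_mem _ _ (Submodule.smul_mem _ _ (Submodule.subset_span ⟨_, ?_, rfl⟩))
    simp only [Set.mem_ofPred, Finset.card_erase_of_mem h]
    exact Nat.sub_le_sub_right hS 1
  · simp

lemma ι_mul_mem_degLE {k : ℕ} (v : M) {x : ExteriorAlgebra R M} (hx : x ∈ degLE b k) :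
    ExteriorAlgebra.ι R v * x ∈ degLE b (k + 1) := by
  refine Submodule.span_induction ?_ (by simp) (fun _ _ _ _ h h' => by rw [mul_add]; exact add_mem h h')
    (fun c _ _ h => by rw [mul_smul_comm]; exact Submodule.smul_mem _ _ h) hx
  rintro _ ⟨S, hS, rfl⟩
  rw [← b.sum_repr v, map_sum, Finset.sum_mul]
  refine Submodule.sum_mem _ fun i _ => ?_
  rw [map_smul, smul_mul_assoc]
  refine Submodule.smul_mem _ _ ?_
  have hi : ExteriorAlgebra.ι R (b i) = mono b {i} := by simp [mono]
  rw [hi]
  by_cases h : Disjoint ({i} : Finset (Fin n)) S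
  · obtain ⟨ε, he⟩ := mono_mul_mono_of_disjoint b h
    rw [he, Units.smul_def]
    refine zsmul_mem (Submodule.subset_span (s := mono b '' {S | S.card ≤ k + 1}) ⟨_, ?_, rfl⟩) _
    simp only [Set.mem_ofPred, Finset.card_union_of_disjoint h, Finset.card_singleton]
    have : S.card ≤ k := hS
    omega
  · rw [mono_mul_mono_of_not_disjoint b h]
    exact Submodule.zero_mem _

lemma mono_univ : mono b Finset.univ = ExteriorAlgebra.ιMulti R n b := by
  rw [ExteriorAlgebra.ιMulti_apply, mono, Fin.sort_univ, List.ofFn_eq_map]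

end Groth.Agent.H21Clif
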