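import Groth.Agent.H21Clif.CliffLift

/-!
# Formal smoothness of the Clifford and Pin groups on points
-/

universe u

namespace Groth.Agent.H21Clif

open CliffordAlgebra TensorProduct Matrix

set_option linter.style.haveILetI false
set_option linter.unusedSectionVars false

variable {A : Type u} [CommRing A] {M : Type u} [AddCommGroup M] [Module A M] [Module.Free A M]
variable {n : ℕ} (b : Module.Basis (Fin n) A M) {Q : QuadraticForm A M} {I : Ideal A}

include b in
lemma isUnit_det_gram_of_regular {β : LinearMap.BilinForm A M} (hβ : β.toQuadraticMap = Q)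
    (hQ : QuadGrp.IsRegular Q) :
    IsUnit (LinearMap.BilinForm.toMatrix b β + (LinearMap.BilinForm.toMatrix b β)ᵀ).det := by
  let e := LinearEquiv.ofBijective (QuadraticMap.polarBilin Q) hQ
  have hu : IsUnit (LinearMap.toMatrix b b.dualBasis e.toLinearMap).det :=
    LinearEquiv.isUnit_det e b b.dualBasis
  convert hu using 2
  ext i j
  rw [Matrix.add_apply, Matrix.transpose_apply, LinearMap.BilinForm.toMatrix_apply,
    LinearMap.BilinForm.toMatrix_apply, LinearMap.toMatrix_apply, Module.Basis.dualBasis_repr]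
  change _ = QuadraticMap.polar Q (b j) (b i)
  rw [← hβ, LinearMap.BilinMap.polar_toQuadraticMap]
  exact add_comm _ _

include b in
/-- isometries lift along square-zero ideals -/
lemma exists_isometry_lift (hI : I * I = ⊥)
    (gq : ((A ⧸ I) ⊗[A] M) ≃ₗ[A ⧸ I] ((A ⧸ I) ⊗[A] M)) (hgq : gq ∈ QuadGrp.O (QuadGrp.baseChangeForm (A ⧸ I) Q))
    (hQ : (Even n ∧ QuadGrp.IsRegular Q) ∨
      (Odd n ∧ QuadGrp.IsSemiregular b (LinearEquiv.refl A A) Q ∧ LinearMap.det gq.toLinearMap = 1)) :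
    ∃ g : M ≃ₗ[A] M, g ∈ QuadGrp.O Q ∧ (∀ j, (1 : A ⧸ I) ⊗ₜ[A] g (b j) = gq (1 ⊗ₜ[A] b j)) ∧
      (Odd n → LinearMap.det g.toLinearMap = 1) := by
  let mk := Ideal.Quotient.mk I
  let bB := Algebra.TensorProduct.basis (A ⧸ I) b
  obtain ⟨β, hβ⟩ := exists_gram b Q
  let C := LinearMap.BilinForm.toMatrix b β
  have hCA : QuadGrp.coeffs b (LinearEquiv.refl A A) Q = ofMat C := coeffs_eq_ofMat b Q hβ
  have hcb : QuadGrp.coeffs bB (LinearEquiv.refl _ _) (QuadGrp.baseChangeForm (A ⧸ I) Q) = ofMat (C.map mk) := by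
    rw [← ofMat_map, ← hCA]
    refine funext fun p => Sym2.ind (fun i j => ?_) p
    rw [Function.comp_apply, QuadGrp.coeffs_mk, QuadGrp.coeffs_mk]
    simp only [bB, Algebra.TensorProduct.basis_apply, LinearEquiv.refl_apply, baseChangeForm_tmul,
      polar_baseChangeForm_tmul, one_mul]
    split_ifs <;> rfl
  let β' := Matrix.toBilin bB (C.map mk)
  have hβ' : β'.toQuadraticMap = QuadGrp.baseChangeForm (A ⧸ I) Q :=
    ext_coeffs bB (by rw [hcb, coeffs_eq_ofMat bB _ rfl, LinearMap.BilinForm.toMatrix_toBilin])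
  let Gq := LinearMap.toMatrix bB bB gq.toLinearMap
  choose g₀ hg₀ using fun p : Fin n × Fin n => Ideal.Quotient.mk_surjective (Gq p.1 p.2)
  let G₀ : Matrix (Fin n) (Fin n) A := Matrix.of fun i j => g₀ (i, j)
  have hG₀ : G₀.map mk = Gq := Matrix.ext fun i j => hg₀ (i, j)
  have hGq : ofMat (Gqᵀ * C.map mk * Gq) = ofMat (C.map mk) := by
    have hcomp : (β'.comp gq.toLinearMap gq.toLinearMap).toQuadraticMap = QuadGrp.baseChangeForm (A ⧸ I) Q := by
      rw [← hβ']; refine QuadraticMap.ext fun v => ?_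
      have := hgq v
      rw [← hβ'] at this
      simpa [LinearMap.BilinForm.comp] using this
    rw [← hcb, coeffs_eq_ofMat bB _ hcomp, LinearMap.BilinForm.toMatrix_comp bB bB, LinearMap.BilinForm.toMatrix_toBilin]
  have hG : ∀ p, ofMat (G₀ᵀ * C * G₀) p - ofMat C p ∈ I := fun p => by
    rw [← Ideal.Quotient.eq]
    have := congrFun hGq p
    rw [← hG₀, ← Matrix.transpose_map, ← Matrix.map_mul, ← Matrix.map_mul, ← ofMat_map, ← ofMat_map] at this
    exact this
  have finish : ∀ (G : Matrix (Fin n) (Fin n) A), (∀ i j, G i j - G₀ i j ∈ I) → ofMat (Gᵀ * C * G) = ofMat C →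
      IsUnit G.det → ∃ g : M ≃ₗ[A] M, g ∈ QuadGrp.O Q ∧
        (∀ j, (1 : A ⧸ I) ⊗ₜ[A] g (b j) = gq (1 ⊗ₜ[A] b j)) ∧ LinearMap.det g.toLinearMap = G.det := by
    intro G hGI hGC hu
    let g := Matrix.toLinearEquiv b G hu
    have hgm : LinearMap.toMatrix b b g.toLinearMap = G := by
      change LinearMap.toMatrix b b (Matrix.toLin b b G) = G
      rw [LinearMap.toMatrix_toLin]
    refine ⟨g, fun v => ?_, fun j => ?_, by rw [← LinearMap.det_toMatrix b, hgm]⟩
    · have h2 : (β.comp g.toLinearMap g.toLinearMap).toQuadraticMap = Q := ext_coeffs b (by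
        rw [coeffs_eq_ofMat b _ rfl, LinearMap.BilinForm.toMatrix_comp b b, hgm, hCA]; exact hGC)
      conv_rhs => rw [← h2]
      conv_lhs => rw [← hβ]
      simp [LinearMap.BilinForm.comp]
    · refine bB.repr.injective (Finsupp.ext fun i => ?_)
      have e1 : bB.repr (gq (1 ⊗ₜ[A] b j)) i = mk (G₀ i j) := by
        rw [show G₀ i j = g₀ (i, j) from rfl, hg₀ (i, j)]
        simp [Gq, LinearMap.toMatrix_apply, bB, Algebra.TensorProduct.basis_apply]
      rw [e1, Algebra.TensorProduct.basis_repr_tmul]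
      have e2 : b.repr (g (b j)) i = G i j := by
        rw [← hgm, LinearMap.toMatrix_apply]; rfl
      simp only [Finsupp.smul_apply, Finsupp.mapRange_apply, smul_eq_mul, one_mul, e2]
      exact Ideal.Quotient.eq.mpr (hGI i j)
  rcases hQ with ⟨hev, hreg⟩ | ⟨hn, hs, hdet⟩
  · have hu := isUnit_det_gram_of_regular b hβ hreg
    obtain ⟨G, hGI, hGC⟩ := exists_fix_regular hI C hu G₀ hG
    obtain ⟨g, h1, h2, -⟩ := finish G hGI hGC
      (IsUnit.of_pow_eq_one (det_sq_of_congr C G (Or.inl hu) hGC) two_ne_zero)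
    exact ⟨g, h1, h2, fun h => absurd hev (Nat.not_even_iff_odd.mpr h)⟩
  · obtain ⟨m, rfl⟩ := hn
    have hhd : IsUnit (hd (ofMat C)) := by
      rw [QuadGrp.IsSemiregular, halfDisc_eq_hd, hCA] at hs; exact hs
    obtain ⟨G, hGI, hGC, hGdet⟩ := exists_fix_odd (even_two_mul m) hI C hhd G₀ hG (by
      rw [← Ideal.Quotient.eq, RingHom.map_det, RingHom.mapMatrix_apply, hG₀, map_one, ← hdet,
        ← LinearMap.det_toMatrix bB])
    obtain ⟨g, h1, h2, h3⟩ := finish G hGI hGC (by rw [hGdet]; exact isUnit_one)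
    exact ⟨g, h1, h2, fun _ => h3.trans hGdet⟩

lemma exists_idem_lift (hI : I * I = ⊥) {ē : A ⧸ I} (hē : IsIdempotentElem ē) :
    ∃ e : A, IsIdempotentElem e ∧ Ideal.Quotient.mk I e = ē := by
  obtain ⟨a, rfl⟩ := Ideal.Quotient.mk_surjective ē
  have h : a * a - a ∈ I := Ideal.Quotient.eq.mp (by rw [map_mul]; exact hē)
  have h2 : (a * a - a) * (a * a - a) = 0 := by
    rw [← Ideal.mem_bot, ← hI]; exact Ideal.mul_mem_mul h h
  refine ⟨3 * (a * a) - 2 * (a * a * a), ?_, Ideal.Quotient.eq.mpr ?_⟩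
  · change _ * _ = _
    linear_combination (4 * (a * a) - 4 * a - 3) * h2
  · rw [show 3 * (a * a) - 2 * (a * a * a) - a = (1 - 2 * a) * (a * a - a) by ring]
    exact I.mul_mem_left _ h

include b in
/-- the centre of a regular form of even rank consists of scalars -/
lemma central_scalar_of_regular (hn : Even n) (hQ : QuadGrp.IsRegular Q) {x : CliffordAlgebra Q}
    (hc : ∀ v, x * ι Q v = ι Q v * x) : ∃ r : A, x = algebraMap A _ r := by
  haveI := Module.Finite.of_basis b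
  obtain ⟨x₀, h₀, x₁, h₁, rfl⟩ := exists_parts x
  have hsep : ∀ v, x₀ * ι Q v = ι Q v * x₀ ∧ x₁ * ι Q v = ι Q v * x₁ := fun v => by
    have hv := ι_mem_evenOdd_one Q v
    have h := parts_eq_zero (Q := Q) (x₀ := x₁ * ι Q v - ι Q v * x₁) (x₁ := x₀ * ι Q v - ι Q v * x₀)
      (sub_mem (by simpa [show (1 : ZMod 2) + 1 = 0 from rfl] using SetLike.mul_mem_graded h₁ hv)
        (by simpa [show (1 : ZMod 2) + 1 = 0 from rfl] using SetLike.mul_mem_graded hv h₁))
      (sub_mem (by simpa using SetLike.mul_mem_graded h₀ hv) (by simpa using SetLike.mul_mem_graded hv h₀))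
      (by have := hc v; rw [← sub_eq_zero] at this; rw [← this]; noncomm_ring)
    exact ⟨sub_eq_zero.mp h.2, sub_eq_zero.mp h.1⟩
  obtain ⟨r, hr⟩ := exists_scalar_of_comm b hQ x₀ h₀ fun v => (hsep v).1.symm
  suffices hx : x₁ = 0 by exact ⟨r, by rw [hx, add_zero, hr]⟩
  refine eq_zero_of_forall_prime (R := A) fun p _ => ?_
  obtain ⟨k, rfl⟩ := hn
  let bp := Algebra.TensorProduct.basis (Localization.AtPrime p) b
  obtain ⟨z, D, hz⟩ := exists_isDick (m := k)
    (by rw [Module.finrank_eq_card_basis bp, Fintype.card_fin, two_mul]) (isRegular_baseChange _ Q b hQ)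
  have hcp := central_baseChange (Localization.AtPrime p) fun v => (hsep v).2
  have hall : ∀ y, Ψp Q p x₁ * y = y * Ψp Q p x₁ := fun y => by
    induction y using CliffordAlgebra.induction with
    | algebraMap r => exact (Algebra.commutes r _).symm
    | ι v => exact hcp v
    | mul a c ha hc => rw [← mul_assoc, ha, mul_assoc, hc, mul_assoc]
    | add a c ha hc => rw [mul_add, add_mul, ha, hc]
  have h0 : Ψp Q p x₁ * (1 - 2 * z) = 0 := by
    have h := hz.odd_mul (Ψ_mem _ Q h₁)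
    rw [← hall z] at h
    rw [show Ψp Q p x₁ * (1 - 2 * z) = Ψp Q p x₁ * (1 - z) - Ψp Q p x₁ * z by noncomm_ring, ← h, sub_self]
  have h1 := congrArg (· * (1 - 2 * z)) h0
  simp only [zero_mul, mul_assoc, hz.sq, ← Algebra.commutes, ← Algebra.smul_def] at h1
  have h2 := congrArg ((↑D⁻¹ : Localization.AtPrime p) • ·) h1
  simp only [smul_smul, Units.inv_mul, one_smul, smul_zero] at h2
  obtain ⟨s, hs, hse⟩ := exists_smul_of_Ψp Q p (h2.trans (map_zero (Ψp Q p)).symm)
  exact ⟨s, hs, by rw [hse, smul_zero]⟩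

lemma homogeneous_of_isLocHomog [IsLocalRing A] {u : CliffordAlgebra Q} (h : QuadGrp.IsLocHomog Q u) :
    u ∈ evenOdd Q 0 ∨ u ∈ evenOdd Q 1 := by
  obtain ⟨e, he, h0, h1⟩ := h
  rcases eq_zero_or_one he with rfl | rfl
  · right; rwa [sub_zero, one_smul] at h1
  · left; rwa [one_smul] at h0

lemma isLocHomog_baseChange (B : Type u) [CommRing B] [Algebra A B] {u : CliffordAlgebra Q}
    (h : QuadGrp.IsLocHomog Q u) : QuadGrp.IsLocHomog (QuadGrp.baseChangeForm B Q) (Ψ B Q u) := by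
  obtain ⟨e, he, h0, h1⟩ := h
  refine ⟨algebraMap A B e, he.map (algebraMap A B), ?_, ?_⟩
  · rw [algebraMap_smul, ← map_smul]; exact Ψ_mem B Q h0
  · rw [← map_one (algebraMap A B), ← map_sub, algebraMap_smul, ← map_smul]; exact Ψ_mem B Q h1

/-- extend a commutation relation from `1 ⊗ v` to the base change -/
lemma comm_of_one_tmul (B : Type u) [CommRing B] [Algebra A B] {y : CliffordAlgebra (QuadGrp.baseChangeForm B Q)}
    (h : ∀ v : M, y * ι _ ((1 : B) ⊗ₜ[A] v) = ι _ ((1 : B) ⊗ₜ[A] v) * y) (w : B ⊗[A] M) :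
    y * ι _ w = ι _ w * y := by
  induction w using TensorProduct.induction_on with
  | zero => simp
  | add v w hv hw => rw [map_add, mul_add, add_mul, hv, hw]
  | tmul a v =>
    rw [show (a ⊗ₜ[A] v : B ⊗[A] M) = a • ((1 : B) ⊗ₜ v) by rw [smul_tmul', smul_eq_mul, mul_one],
      map_smul, mul_smul_comm, smul_mul_assoc, h]

include b in
/-- correcting a lift of an element of the Clifford group to an element of the Clifford group -/
lemma exists_gpin_of_lift (hI : I * I = ⊥) (hn0 : 0 < n)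
    (hQ : (Even n ∧ QuadGrp.IsRegular Q) ∨ (Odd n ∧ QuadGrp.IsSemiregular b (LinearEquiv.refl A A) Q))
    (u : (CliffordAlgebra Q)ˣ) (hLH : Odd n → QuadGrp.IsLocHomog Q (u : CliffordAlgebra Q))
    (g : M ≃ₗ[A] M) (hg : g ∈ QuadGrp.O Q) (hdet : Odd n → LinearMap.det g.toLinearMap = 1)
    (hu : ∀ v, Ψ (A ⧸ I) Q (ι Q (g v) * u) = Ψ (A ⧸ I) Q (u * ι Q v)) :
    ∃ u' ∈ QuadGrp.GPin Q, Ψ (A ⧸ I) Q (u' : CliffordAlgebra Q) = Ψ (A ⧸ I) Q u := by
  haveI := Module.Finite.of_basis b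
  obtain ⟨w, hw1, hw2, hw3⟩ := exists_correction b Q hI g.toLinearMap u (fun S => Odd n → par S = 0) fun p _ => by
    let Ap := Localization.AtPrime p
    let Qp := QuadGrp.baseChangeForm Ap Q
    let bp := Algebra.TensorProduct.basis Ap b
    let gp := g.baseChange A Ap M M
    have hgp : gp ∈ QuadGrp.O Qp := baseChange_mem_O Ap Q hg
    let Ip := I.map (algebraMap A Ap)
    have hIp : Ip * Ip = ⊥ := by rw [← Ideal.map_mul, hI, Ideal.map_bot]
    let up : (CliffordAlgebra Qp)ˣ := Units.map (Ψp Q p).toMonoidHom u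
    have hupv : (up : CliffordAlgebra Qp) = Ψp Q p u := rfl
    -- congruences descend
    have hcong : ∀ x y : CliffordAlgebra Q, Ψ (A ⧸ I) Q x = Ψ (A ⧸ I) Q y →
        Ψ (Ap ⧸ Ip) Qp (Ψp Q p x) = Ψ (Ap ⧸ Ip) Qp (Ψp Q p y) := fun x y hxy => by
      rw [← sub_eq_zero, ← map_sub, ← map_sub]
      rw [← sub_eq_zero, ← map_sub] at hxy
      have hc := (Ψ_eq_zero_iff b (A ⧸ I) _).mp hxy
      rw [← (cBasis b Q).sum_repr (x - y), map_sum, map_sum]
      refine Finset.sum_eq_zero fun S _ => ?_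
      rw [map_smul, ← algebraMap_smul Ap ((cBasis b Q).repr (x - y) S), map_smul,
        ← algebraMap_smul (Ap ⧸ Ip) (algebraMap A Ap _), Ideal.Quotient.algebraMap_eq,
        Ideal.Quotient.eq_zero_iff_mem.mpr (Ideal.mem_map_of_mem _ (Ideal.Quotient.eq_zero_iff_mem.mp (hc S)))]
      exact zero_smul (Ap ⧸ Ip) (Ψ (Ap ⧸ Ip) Qp (Ψp Q p (cBasis b Q S)))
    have hup : ∀ v, Ψ (Ap ⧸ Ip) Qp (ι Qp (gp v) * up) = Ψ (Ap ⧸ Ip) Qp (up * ι Qp v) := fun v => by
      induction v using TensorProduct.induction_on with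
      | zero => simp
      | add v w hv hw => simp only [map_add, add_mul, mul_add, hv, hw]
      | tmul a v =>
        have h := hcong _ _ (hu v)
        simp only [map_mul, Ψ_ι] at h
        rw [show (a ⊗ₜ[A] v : Ap ⊗[A] M) = a • ((1 : Ap) ⊗ₜ v) by rw [smul_tmul', smul_eq_mul, mul_one]]
        simp only [map_smul, smul_mul_assoc, mul_smul_comm, gp, LinearEquiv.baseChange_tmul, hupv, map_mul, Ψ_ι]
        erw [Ψ_ι, Ψ_ι] at h
        exact congrArg (a • ·) h
    suffices key : ∃ y : CliffordAlgebra Qp, Ψ (Ap ⧸ Ip) Qp y = 1 ∧ (Odd n → y ∈ evenOdd Qp 0) ∧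
        ∀ v, ι Qp (gp v) * up * y = up * y * ι Qp v by
      obtain ⟨y, h1, h2, h3⟩ := key
      refine ⟨y - 1, fun S => ?_, fun S hS => ?_, fun j => ?_⟩
      · have h0 : Ψ (Ap ⧸ Ip) Qp (y - 1) = 0 := by rw [map_sub, h1, map_one, sub_self]
        have hall : ∀ T, (cBasis bp Qp).repr (y - 1) T ∈ Ip := fun T =>
          Ideal.Quotient.eq_zero_iff_mem.mp ((Ψ_eq_zero_iff bp (Ap ⧸ Ip) _).mp h0 T)
        rw [← (cBasis bp Qp).sum_repr (y - 1), map_sum, Finsupp.coe_finsetSum, Finset.sum_apply]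
        refine Submodule.sum_mem _ fun T _ => ?_
        rw [map_smul, Finsupp.smul_apply, smul_eq_mul]
        exact Ideal.mul_mem_right _ _ (hall T)
      · obtain ⟨hn, hS'⟩ := Classical.not_imp.mp hS
        exact (mem_evenOdd_iff (cBA b Q Ap) par (cBA_mem b Q Ap) 0 _).mp
          (sub_mem (h2 hn) (SetLike.one_mem_graded _)) S hS'
      · have h := h3 (1 ⊗ₜ[A] b j)
        simp only [gp, LinearEquiv.baseChange_tmul, hupv] at h
        rw [add_sub_cancel, map_mul, Ψ_ι, Ψ_ι, LinearEquiv.coe_coe]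
        exact h
    rcases hQ with ⟨hn, hr⟩ | ⟨hn, hs⟩
    · have hrp := isRegular_baseChange Ap Q b hr
      obtain ⟨u'', hu'', -⟩ := exists_lift bp hn hn0 hrp gp hgp
      obtain ⟨c, hc1, hc2⟩ := exists_local bp Qp hIp gp.toLinearMap up u'' 1 (fun v => by rw [one_mul, mul_one])
        isUnit_one hup (fun v => by
          rw [LinearEquiv.coe_coe, ← hu'' v, mul_assoc, Units.inv_mul, mul_one])
        (fun y hy hyc => central_scalar_of_regular (Algebra.TensorProduct.basis (Ap ⧸ Ip) bp) hn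
          (isRegular_baseChange (Ap ⧸ Ip) Qp bp hrp)
          (comm_of_one_tmul (Ap ⧸ Ip) fun v => by rw [← Ψ_ι, ← map_mul, ← map_mul, hyc]))
      exact ⟨_, hc1, fun h => absurd hn (Nat.not_even_iff_odd.mpr h), hc2⟩
    · obtain ⟨k, rfl⟩ := hn
      have hsp := isSemiregular_baseChange b hs Ap
      obtain ⟨d⟩ := exists_oddData k bp hsp
      have hdetp : LinearMap.det gp.toLinearMap = 1 := by
        rw [det_baseChange, hdet ⟨k, rfl⟩, map_one]
      obtain ⟨u'', hu''e, -, hu''⟩ := d.exists_lift bp gp hgp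
      simp only [hdetp, one_smul] at hu''
      have hsq := isSemiregular_baseChange bp hsp (Ap ⧸ Ip)
      have hinv0 : (up : CliffordAlgebra Qp) ∈ evenOdd Qp 0 → (↑up⁻¹ : CliffordAlgebra Qp) ∈ evenOdd Qp 0 :=
        fun hi => (QuadGrp.evenUnits Qp).inv_mem hi
      have hinv1 : (up : CliffordAlgebra Qp) ∈ evenOdd Qp 1 → (↑up⁻¹ : CliffordAlgebra Qp) ∈ evenOdd Qp 1 :=
        fun hi => by
          have h := (QuadGrp.isLocHomog_inv_aux Qp up 0 (by rw [zero_smul]; exact Submodule.zero_mem _)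
            (by rw [sub_zero, one_smul]; exact hi)).2
          rw [sub_zero, one_smul] at h
          exact h
      have main : ∀ z : CliffordAlgebra Qp, (∀ v, z * ι Qp v = ι Qp v * z) → IsUnit z →
          (↑up⁻¹ : CliffordAlgebra Qp) * u'' * z ∈ evenOdd Qp 0 →
          ∃ y : CliffordAlgebra Qp, Ψ (Ap ⧸ Ip) Qp y = 1 ∧ (Odd (2 * k + 1) → y ∈ evenOdd Qp 0) ∧
            ∀ v, ι Qp (gp v) * up * y = up * y * ι Qp v := by
        intro z hzc hzu hev
        obtain ⟨c, hc1, hc2⟩ := exists_local bp Qp hIp gp.toLinearMap up u'' z hzc hzu hup hu''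
          (fun y hy hyc => even_central_scalar (Algebra.TensorProduct.basis (Ap ⧸ Ip) bp) hsq
            (Ψ_mem _ _ (by rw [hy]; exact hev))
            (comm_of_one_tmul (Ap ⧸ Ip) fun v => by rw [← Ψ_ι, ← map_mul, ← map_mul, hyc]))
        exact ⟨_, hc1, fun _ => Submodule.smul_mem _ _ hev, hc2⟩
      rcases homogeneous_of_isLocHomog (isLocHomog_baseChange Ap (hLH ⟨k, rfl⟩)) with he | ho
      · exact main 1 (fun v => by rw [one_mul, mul_one]) isUnit_one
          (by simpa using SetLike.mul_mem_graded (hinv0 he) hu''e)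
      · exact main d.ζ (fun v => d.ζ_comm _) d.unit_ζ
          (by simpa [show (1 : ZMod 2) + 1 = 0 from rfl] using
            SetLike.mul_mem_graded (SetLike.mul_mem_graded (hinv1 ho) hu''e) d.ζ_mem)
  have hΨw : Ψ (A ⧸ I) Q w = 0 := (Ψ_eq_zero_iff b _ w).mpr fun S => Ideal.Quotient.eq_zero_iff_mem.mpr (hw1 S)
  obtain ⟨U, hU⟩ := exists_unit_of_Ψ hI b (x := 1 + w) (y := 1)
    (by rw [mul_one, map_add, map_one, hΨw, add_zero]) (by rw [one_mul, map_add, map_one, hΨw, add_zero])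
  have hint : ∀ v, ((u * U : (CliffordAlgebra Q)ˣ) : CliffordAlgebra Q) * ι Q v *
      ↑(u * U : (CliffordAlgebra Q)ˣ)⁻¹ = ι Q (g v) := fun v => by
    rw [Units.val_mul, hU, ← hw3 v, mul_assoc (ι Q (g.toLinearMap v)), ← hU, ← Units.val_mul, mul_assoc,
      Units.mul_inv, mul_one]
    rfl
  refine ⟨u * U, ⟨mem_GPin'_of_intertwines hint, ?_⟩, by rw [Units.val_mul, hU, map_mul, map_add, map_one, hΨw, add_zero, mul_one]⟩
  rcases hQ with ⟨hn, hr⟩ | ⟨hn, hs⟩
  · exact GPin'_le_LH b hn hn0 hr (mem_GPin'_of_intertwines hint)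
  · obtain ⟨e, he, h0, h1⟩ := hLH hn
    have hwe : 1 + w ∈ evenOdd Q 0 := add_mem (SetLike.one_mem_graded _)
      ((mem_evenOdd_iff (cBasis b Q) par (cBasis_mem b Q) 0 w).mpr fun S hS => hw2 S fun h => hS (h hn))
    refine ⟨e, he, ?_, ?_⟩
    · rw [Units.val_mul, hU, ← smul_mul_assoc]; simpa using SetLike.mul_mem_graded h0 hwe
    · rw [Units.val_mul, hU, ← smul_mul_assoc]; simpa using SetLike.mul_mem_graded h1 hwe

include b in
/-- the Clifford group is formally smooth -/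
theorem exists_gpin_lift (hI : I * I = ⊥) (hn0 : 0 < n)
    (hQ : (Even n ∧ QuadGrp.IsRegular Q) ∨ (Odd n ∧ QuadGrp.IsSemiregular b (LinearEquiv.refl A A) Q))
    {ū : (CliffordAlgebra (QuadGrp.baseChangeForm (A ⧸ I) Q))ˣ}
    (hū : ū ∈ QuadGrp.GPin (QuadGrp.baseChangeForm (A ⧸ I) Q)) :
    ∃ u ∈ QuadGrp.GPin Q, Ψ (A ⧸ I) Q (u : CliffordAlgebra Q) = ū := by
  obtain ⟨hū', ē, hē, hē0, hē1⟩ := hū
  let bB := Algebra.TensorProduct.basis (A ⧸ I) b
  have hmk := Ideal.Quotient.mk_surjective (I := I)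
  obtain ⟨x, hx⟩ := Ψ_surjective b (Q := Q) (A ⧸ I) hmk ū
  obtain ⟨e, he, hee⟩ := exists_idem_lift hI hē
  obtain ⟨x₀, h₀, x₁, h₁, hsum⟩ := exists_parts x
  -- homogenise
  let x' := e • x₀ + (1 - e) • x₁
  have hx' : Ψ (A ⧸ I) Q x' = ū := by
    have hs : (ū : CliffordAlgebra (QuadGrp.baseChangeForm (A ⧸ I) Q)) = Ψ _ Q x₀ + Ψ _ Q x₁ := by
      rw [← map_add, ← hsum, hx]
    have hB1 : ē • Ψ (A ⧸ I) Q x₁ = 0 :=
      eq_zero_of_mem_of_mem (i := 0) (by
        rw [show ē • Ψ (A ⧸ I) Q x₁ = ē • (ū : CliffordAlgebra _) - ē • Ψ _ Q x₀ by rw [hs, smul_add]; abel]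
        exact sub_mem hē0 (Submodule.smul_mem _ _ (Ψ_mem _ Q h₀)))
        (Submodule.smul_mem _ _ (Ψ_mem _ Q h₁))
    have hB0 : (1 - ē) • Ψ (A ⧸ I) Q x₀ = 0 :=
      eq_zero_of_mem_of_mem (i := 0) (Submodule.smul_mem _ _ (Ψ_mem _ Q h₀)) (by
        rw [show (1 - ē) • Ψ (A ⧸ I) Q x₀ = (1 - ē) • (ū : CliffordAlgebra _) - (1 - ē) • Ψ _ Q x₁ by
          rw [hs, smul_add]; abel]
        exact sub_mem hē1 (Submodule.smul_mem _ _ (Ψ_mem _ Q h₁)))
    simp only [x', map_add, map_smul]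
    rw [← algebraMap_smul (A ⧸ I) e, ← algebraMap_smul (A ⧸ I) (1 - e), map_sub, map_one,
      Ideal.Quotient.algebraMap_eq, hee, hs]
    linear_combination (norm := module) -hB1 - hB0
  obtain ⟨y, hy⟩ := Ψ_surjective b (Q := Q) (A ⧸ I) hmk ↑ū⁻¹
  obtain ⟨u, hu⟩ := exists_unit_of_Ψ hI b (x := x') (y := y) (by rw [map_mul, hx', hy, Units.mul_inv])
    (by rw [map_mul, hx', hy, Units.inv_mul])
  have hLH : QuadGrp.IsLocHomog Q (u : CliffordAlgebra Q) := by
    refine ⟨e, he, ?_, ?_⟩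
    · rw [hu, smul_add, smul_smul, smul_smul, show e * (1 - e) = 0 by linear_combination -he.eq, zero_smul, add_zero]
      exact Submodule.smul_mem _ _ h₀
    · rw [hu, smul_add, smul_smul, smul_smul, show (1 - e) * e = 0 by linear_combination -he.eq, zero_smul, zero_add]
      exact Submodule.smul_mem _ _ h₁
  obtain ⟨gq, hgq, hconj⟩ := exists_isometry_of_mem_GPin' bB hū'
  have hdetgq : Odd n → LinearMap.det gq.toLinearMap = 1 := fun hn => by
    obtain ⟨k, rfl⟩ := hn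
    rcases hQ with ⟨hn, -⟩ | ⟨-, hs⟩
    · exact absurd hn (Nat.not_even_iff_odd.mpr ⟨k, rfl⟩)
    · exact det_eq_one_of_mem_GPin' bB (isSemiregular_baseChange b hs _) hgq hconj
  obtain ⟨g, hg, hggq, hgdet⟩ := exists_isometry_lift b hI gq hgq
    (hQ.imp id fun h => ⟨h.1, h.2, hdetgq h.1⟩)
  have hcongj : ∀ v, Ψ (A ⧸ I) Q (ι Q (g v) * u) = Ψ (A ⧸ I) Q (u * ι Q v) := fun v => by
    rw [← b.sum_repr v]
    simp only [map_sum, map_smul, Finset.sum_mul, smul_mul_assoc, Finset.mul_sum, mul_smul_comm]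
    refine Finset.sum_congr rfl fun j _ => ?_
    rw [map_mul, map_mul, Ψ_ι, Ψ_ι, hggq, hu, hx', ← hconj, mul_assoc, Units.inv_mul, mul_one]
  obtain ⟨u', hu', hΨ⟩ := exists_gpin_of_lift b hI hn0 hQ u (fun _ => hLH) g hg hgdet hcongj
  exact ⟨u', hu', by rw [hΨ, hu, hx']⟩

end Groth.Agent.H21Clif
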