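import Groth.Agent.H21Clif.Local
import Groth.Agent.H21Clif.BaseChange
import Mathlib.LinearAlgebra.Matrix.BilinearForm
import Mathlib.LinearAlgebra.Matrix.ToLinearEquiv
import Mathlib.RingTheory.LocalRing.ResidueField.Basic
import Mathlib.GroupTheory.Perm.Sign
import Mathlib.GroupTheory.Perm.Cycle.Type

/-!
# The half-discriminant of a form of odd rank
-/

universe u v

namespace Groth.Agent.H21Clif

open MvPolynomial Matrix

set_option linter.style.haveILetI false
set_option linter.unusedSectionVars false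

/-- a symmetric matrix of odd size with zero diagonal has even determinant -/
lemma det_eq_zero_of_charTwo {S : Type*} [CommRing S] [CharP S 2] {n : ℕ} (hn : Odd n)
    (P : Matrix (Fin n) (Fin n) S) (hsym : ∀ i j, P i j = P j i) (hd : ∀ i, P i i = 0) : P.det = 0 := by
  rw [Matrix.det_apply']
  have hsgn : ∀ σ : Equiv.Perm (Fin n), ((Equiv.Perm.sign σ : ℤ) : S) = 1 := fun σ => by
    rcases Int.units_eq_one_or (Equiv.Perm.sign σ) with h | h <;> rw [h]
    · simp
    · simp [CharTwo.neg_eq]
  have hinv : ∀ σ : Equiv.Perm (Fin n), ∏ i, P (σ⁻¹ i) i = ∏ i, P (σ i) i := fun σ => by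
    rw [← Equiv.prod_comp σ (fun i => P (σ⁻¹ i) i)]
    exact Finset.prod_congr rfl fun i _ => by
      change P (σ⁻¹ (σ i)) (σ i) = _
      rw [Equiv.Perm.inv_def, Equiv.symm_apply_apply, hsym]
  refine Finset.sum_involution (fun σ _ => σ⁻¹) (fun σ _ => ?_) (fun σ _ hne h => hne ?_)
    (fun σ _ => Finset.mem_univ _) (fun σ _ => inv_inv σ)
  · rw [hsgn, hsgn, one_mul, one_mul, hinv, CharTwo.add_self_eq_zero]
  · have hσ : σ ^ 2 ^ 1 = 1 := by
      rw [pow_one, pow_two]
      nth_rw 1 [← h]
      exact inv_mul_cancel σ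
    haveI : Fact (Nat.Prime 2) := ⟨Nat.prime_two⟩
    obtain ⟨a, ha⟩ := Equiv.Perm.exists_fixed_point_of_prime (p := 2) (n := 1)
      (by rw [Fintype.card_fin]; exact fun h2 => (Nat.not_even_iff_odd.mpr hn) (even_iff_two_dvd.mpr h2)) hσ
    rw [Finset.prod_eq_zero (Finset.mem_univ a) (by rw [ha, hd]), mul_zero]

lemma discUniv_eq_two_mul {n : ℕ} (hn : Odd n) : QuadGrp.discUniv n = 2 * QuadGrp.halfDiscUniv n := by
  have h0 : MvPolynomial.map (Int.castRingHom (ZMod 2)) (QuadGrp.discUniv n) = 0 := by
    rw [QuadGrp.discUniv, RingHom.map_det]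
    refine det_eq_zero_of_charTwo hn _ (fun i j => ?_) fun i => ?_
    · simp only [RingHom.mapMatrix_apply, Matrix.map_apply, QuadGrp.univPolarMat, Matrix.of_apply]
      by_cases h : i = j
      · subst h; rfl
      · rw [if_neg h, if_neg (Ne.symm h), Sym2.eq_swap]
    · simp only [RingHom.mapMatrix_apply, Matrix.map_apply, QuadGrp.univPolarMat, Matrix.of_apply,
        if_true, map_mul, map_ofNat]
      rw [show (2 : MvPolynomial (Sym2 (Fin n)) (ZMod 2)) = C 2 from (map_ofNat C 2).symm,
        show (2 : ZMod 2) = 0 from rfl, map_zero, zero_mul]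
  refine MvPolynomial.ext _ _ fun s => ?_
  have h2 : (2 : ℤ) ∣ MvPolynomial.coeff s (QuadGrp.discUniv n) := by
    have := congrArg (MvPolynomial.coeff s) h0
    rw [coeff_map, coeff_zero, eq_intCast] at this
    exact (ZMod.intCast_zmod_eq_zero_iff_dvd _ 2).mp this
  rw [show (2 : MvPolynomial (Sym2 (Fin n)) ℤ) = C 2 from (map_ofNat C 2).symm, coeff_C_mul,
    QuadGrp.coeff_halfDiscUniv, Int.mul_ediv_cancel' h2]

section Mat

variable {R : Type*} [CommRing R] {S : Type*} [CommRing S] {n : ℕ}

/-- the coefficient table of the form with Gram matrix `C` -/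
def ofMat (C : Matrix (Fin n) (Fin n) R) : Sym2 (Fin n) → R :=
  Sym2.lift ⟨fun i j => if i = j then C i i else C i j + C j i, fun i j => by
    by_cases h : i = j
    · subst h; rfl
    · dsimp only
      rw [if_neg h, if_neg (Ne.symm h), add_comm]⟩

lemma ofMat_mk (C : Matrix (Fin n) (Fin n) R) (i j : Fin n) :
    ofMat C (Sym2.mk i j) = if i = j then C i i else C i j + C j i := rfl

/-- the half-discriminant of a coefficient table -/
noncomputable def hd (a : Sym2 (Fin n) → R) : R :=
  eval₂ (Int.castRingHom R) a (QuadGrp.halfDiscUniv n)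

lemma map_hd (φ : R →+* S) (a : Sym2 (Fin n) → R) : φ (hd a) = hd (φ ∘ a) := by
  rw [hd, hd, eval₂_comp_left]
  congr 1
  exact RingHom.ext_int _ _

lemma ofMat_map (φ : R →+* S) (C : Matrix (Fin n) (Fin n) R) : φ ∘ ofMat C = ofMat (C.map φ) :=
  funext fun p => Sym2.ind (fun i j => by
    simp only [Function.comp_apply, ofMat_mk, Matrix.map_apply]
    split_ifs <;> simp) p

lemma two_mul_hd (hn : Odd n) (C : Matrix (Fin n) (Fin n) R) : 2 * hd (ofMat C) = (C + Cᵀ).det := by
  rw [hd, show (2 : R) = eval₂ (Int.castRingHom R) (ofMat C) (2 : MvPolynomial (Sym2 (Fin n)) ℤ) by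
    rw [← coe_eval₂Hom, map_ofNat], ← eval₂_mul, ← discUniv_eq_two_mul hn, QuadGrp.discUniv,
    ← coe_eval₂Hom, RingHom.map_det]
  congr 1
  ext i j
  simp only [RingHom.mapMatrix_apply, Matrix.map_apply, QuadGrp.univPolarMat, Matrix.of_apply,
    Matrix.add_apply, Matrix.transpose_apply]
  split_ifs with h
  · subst h; simp [ofMat_mk, two_mul]
  · simp [ofMat_mk, h]

lemma hd_congr (hn : Odd n) (C G : Matrix (Fin n) (Fin n) R) :
    hd (ofMat (Gᵀ * C * G)) = G.det ^ 2 * hd (ofMat C) := by
  let I := (Fin n × Fin n) ⊕ (Fin n × Fin n)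
  let C₀ : Matrix (Fin n) (Fin n) (MvPolynomial I ℤ) := Matrix.of fun i j => X (Sum.inl (i, j))
  let G₀ : Matrix (Fin n) (Fin n) (MvPolynomial I ℤ) := Matrix.of fun i j => X (Sum.inr (i, j))
  let φ : MvPolynomial I ℤ →+* R :=
    eval₂Hom (Int.castRingHom R) (Sum.elim (fun p => C p.1 p.2) (fun p => G p.1 p.2))
  have hC : C₀.map φ = C := by ext i j; simp [C₀, φ]
  have hG : G₀.map φ = G := by ext i j; simp [G₀, φ]
  have h : hd (ofMat (G₀ᵀ * C₀ * G₀)) = G₀.det ^ 2 * hd (ofMat C₀) := by
    refine mul_left_cancel₀ (two_ne_zero : (2 : MvPolynomial I ℤ) ≠ 0) ?_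
    rw [two_mul_hd hn, mul_left_comm, two_mul_hd hn,
      show G₀ᵀ * C₀ * G₀ + (G₀ᵀ * C₀ * G₀)ᵀ = G₀ᵀ * (C₀ + C₀ᵀ) * G₀ by
        rw [Matrix.transpose_mul, Matrix.transpose_mul, Matrix.transpose_transpose, Matrix.mul_add,
          Matrix.add_mul, Matrix.mul_assoc G₀ᵀ C₀ᵀ],
      Matrix.det_mul, Matrix.det_mul, Matrix.det_transpose]
    ring
  have := congrArg φ h
  rw [map_mul, map_pow, map_hd, map_hd, ofMat_map, ofMat_map, RingHom.map_det] at this
  rw [← hC, ← hG]
  simpa only [RingHom.mapMatrix_apply, Matrix.map_mul, Matrix.transpose_map] using this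

/-- block diagonal with one extra entry -/
def blk {r : ℕ} (C : Matrix (Fin r) (Fin r) R) (q : R) : Matrix (Fin (r + 1)) (Fin (r + 1)) R :=
  Matrix.reindex finSumFinEquiv finSumFinEquiv
    (Matrix.fromBlocks C 0 0 (Matrix.diagonal fun _ : Fin 1 => q))

lemma hd_blk {r : ℕ} (hr : Even r) (C : Matrix (Fin r) (Fin r) R) (q : R) :
    hd (ofMat (blk C q)) = q * (C + Cᵀ).det := by
  let I := Option (Fin r × Fin r)
  let C₀ : Matrix (Fin r) (Fin r) (MvPolynomial I ℤ) := Matrix.of fun i j => X (some (i, j))
  let φ : MvPolynomial I ℤ →+* R :=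
    eval₂Hom (Int.castRingHom R) (fun p => Option.elim p q fun p => C p.1 p.2)
  have hC : C₀.map φ = C := by ext i j; simp [C₀, φ]
  have hq : φ (X none) = q := by simp [φ]
  have h : hd (ofMat (blk C₀ (X none))) = X none * (C₀ + C₀ᵀ).det := by
    refine mul_left_cancel₀ (two_ne_zero : (2 : MvPolynomial I ℤ) ≠ 0) ?_
    rw [two_mul_hd hr.add_one, show blk C₀ (X none) + (blk C₀ (X none))ᵀ = Matrix.reindex finSumFinEquiv finSumFinEquiv
        (Matrix.fromBlocks (C₀ + C₀ᵀ) 0 0 (Matrix.diagonal fun _ : Fin 1 => 2 * (X none : MvPolynomial I ℤ))) by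
      simp only [blk, Matrix.reindex_apply, Matrix.transpose_submatrix, Matrix.fromBlocks_transpose,
        Matrix.transpose_zero, Matrix.diagonal_transpose]
      ext a c
      simp only [Matrix.add_apply, Matrix.submatrix_apply]
      rw [← Matrix.add_apply, Matrix.fromBlocks_add]
      simp [Matrix.diagonal_add, two_mul]]
    rw [Matrix.det_reindex_self, Matrix.det_fromBlocks_zero₂₁, Matrix.det_diagonal, Finset.prod_const,
      Finset.card_univ, Fintype.card_fin, pow_one]
    ring
  have := congrArg φ h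
  rw [map_mul, map_hd, ofMat_map, RingHom.map_det, hq] at this
  have hb : (blk C₀ (X none)).map φ = blk C q := by
    rw [← hC]
    simp only [blk, Matrix.reindex_apply, ← Matrix.submatrix_map, Matrix.fromBlocks_map]
    congr 2 <;> simp [hq]
  rw [hb] at this
  rw [this, RingHom.mapMatrix_apply, Matrix.map_add _ (map_add φ), Matrix.transpose_map, hC]

end Mat

section Form

variable {R : Type u} [CommRing R] {M : Type v} [AddCommGroup M] [Module R M]
variable {n : ℕ} (b : Module.Basis (Fin n) R M) (Q : QuadraticForm R M)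

/-- the polar matrix -/
def polarMat {ι' : Type*} (f : ι' → M) : Matrix ι' ι' R :=
  Matrix.of fun i j => QuadraticMap.polar Q (f i) (f j)

include b in
lemma exists_gram : ∃ β : LinearMap.BilinForm R M, β.toQuadraticMap = Q := by
  haveI := Module.Free.of_basis b
  exact LinearMap.BilinMap.toQuadraticMap_surjective _

lemma coeffs_eq_ofMat {β : LinearMap.BilinForm R M} (hβ : β.toQuadraticMap = Q) :
    QuadGrp.coeffs b (LinearEquiv.refl R R) Q = ofMat (LinearMap.BilinForm.toMatrix b β) :=
  funext fun p => Sym2.ind (fun i j => by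
    rw [QuadGrp.coeffs_mk, ofMat_mk, LinearMap.BilinForm.toMatrix_apply,
      LinearMap.BilinForm.toMatrix_apply, LinearMap.BilinForm.toMatrix_apply, ← hβ]
    by_cases h : i = j
    · subst h; simp
    · simp [h, LinearMap.BilinMap.polar_toQuadraticMap]) p

lemma halfDisc_eq_hd : QuadGrp.halfDisc b (LinearEquiv.refl R R) Q =
    hd (QuadGrp.coeffs b (LinearEquiv.refl R R) Q) := rfl

lemma two_mul_halfDisc (hn : Odd n) :
    2 * QuadGrp.halfDisc b (LinearEquiv.refl R R) Q = (polarMat Q b).det := by
  obtain ⟨β, hβ⟩ := exists_gram b Q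
  rw [halfDisc_eq_hd, coeffs_eq_ofMat b Q hβ, two_mul_hd hn]
  congr 1
  ext i j
  simp [polarMat, ← hβ, LinearMap.BilinMap.polar_toQuadraticMap, LinearMap.BilinForm.toMatrix_apply]

lemma halfDisc_comp (hn : Odd n) (g : M →ₗ[R] M) :
    QuadGrp.halfDisc b (LinearEquiv.refl R R) (Q.comp g) =
      LinearMap.det g ^ 2 * QuadGrp.halfDisc b (LinearEquiv.refl R R) Q := by
  obtain ⟨β, hβ⟩ := exists_gram b Q
  have hβ' : (β.comp g g).toQuadraticMap = Q.comp g := by
    ext x; simp [← hβ, LinearMap.BilinForm.comp]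
  rw [halfDisc_eq_hd, halfDisc_eq_hd, coeffs_eq_ofMat b Q hβ, coeffs_eq_ofMat b _ hβ',
    LinearMap.BilinForm.toMatrix_comp b b, hd_congr hn, LinearMap.det_toMatrix]

lemma halfDisc_basis (hn : Odd n) (c : Module.Basis (Fin n) R M) :
    QuadGrp.halfDisc c (LinearEquiv.refl R R) Q =
      (b.toMatrix c).det ^ 2 * QuadGrp.halfDisc b (LinearEquiv.refl R R) Q := by
  obtain ⟨β, hβ⟩ := exists_gram b Q
  rw [halfDisc_eq_hd, halfDisc_eq_hd, coeffs_eq_ofMat b Q hβ, coeffs_eq_ofMat c Q hβ,
    ← LinearMap.BilinForm.toMatrix_mul_basis_toMatrix b c, hd_congr hn]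

lemma isSemiregular_basis (hn : Odd n) (c : Module.Basis (Fin n) R M)
    (h : QuadGrp.IsSemiregular b (LinearEquiv.refl R R) Q) :
    QuadGrp.IsSemiregular c (LinearEquiv.refl R R) Q := by
  rw [QuadGrp.IsSemiregular, halfDisc_basis b Q hn c]
  haveI := b.invertibleToMatrix c
  exact ((Matrix.isUnit_det_of_invertible (b.toMatrix c)).pow 2).mul h

lemma halfDisc_baseChange [Module.Free R M] (A : Type*) [CommRing A] [Algebra R A] :
    QuadGrp.halfDisc (Algebra.TensorProduct.basis A b) (LinearEquiv.refl A A) (QuadGrp.baseChangeForm A Q) =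
      algebraMap R A (QuadGrp.halfDisc b (LinearEquiv.refl R R) Q) := by
  rw [halfDisc_eq_hd, halfDisc_eq_hd, map_hd]
  congr 1
  refine funext fun p => Sym2.ind (fun i j => ?_) p
  rw [Function.comp_apply, QuadGrp.coeffs_mk, QuadGrp.coeffs_mk]
  simp only [Algebra.TensorProduct.basis_apply, LinearEquiv.refl_apply, baseChangeForm_tmul,
    polar_baseChangeForm_tmul, one_mul]
  split_ifs <;> rfl

end Form

section Orth

variable {R : Type u} [CommRing R] {M : Type v} [AddCommGroup M] [Module R M] {r : ℕ}
variable (c : Module.Basis (Fin (r + 1)) R M) (Q : QuadraticForm R M)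

/-- the reduced half-discriminant when the last vector is orthogonal to the others modulo `I` -/
lemma halfDisc_mod (hr : Even r) {S : Type*} [CommRing S] (φ : R →+* S)
    (h : ∀ i : Fin r, φ (QuadraticMap.polar Q (c i.castSucc) (c (Fin.last r))) = 0) :
    φ (QuadGrp.halfDisc c (LinearEquiv.refl R R) Q) =
      φ (Q (c (Fin.last r)) * (polarMat Q fun i : Fin r => c i.castSucc).det) := by
  obtain ⟨β, hβ⟩ := exists_gram c Q
  let C : Matrix (Fin r) (Fin r) R := Matrix.of fun i j => β (c i.castSucc) (c j.castSucc)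
  have hC : C + Cᵀ = polarMat Q fun i : Fin r => c i.castSucc := by
    ext i j; simp [C, polarMat, ← hβ, LinearMap.BilinMap.polar_toQuadraticMap]
  have key : φ ∘ QuadGrp.coeffs c (LinearEquiv.refl R R) Q = ofMat (blk (C.map φ) (φ (Q (c (Fin.last r))))) := by
    refine funext fun p => Sym2.ind (fun i j => ?_) p
    rw [Function.comp_apply, QuadGrp.coeffs_mk, ofMat_mk]
    have e1 : ∀ k : Fin r, finSumFinEquiv.symm k.castSucc = Sum.inl k := fun k =>
      finSumFinEquiv_symm_apply_castAdd k
    have e2 : finSumFinEquiv.symm (Fin.last r) = Sum.inr (0 : Fin 1) := by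
      rw [Equiv.symm_apply_eq]; rfl
    have hpol : ∀ x y, QuadraticMap.polar Q x y = β x y + β y x := fun x y => by
      rw [← hβ]; exact LinearMap.BilinMap.polar_toQuadraticMap _ _
    induction i using Fin.lastCases with
    | last =>
      induction j using Fin.lastCases with
      | last => simp [blk, e2]
      | cast j =>
        rw [if_neg (Fin.castSucc_lt_last j).ne', if_neg (Fin.castSucc_lt_last j).ne',
          LinearEquiv.refl_apply, QuadraticMap.polar_comm, h j]
        simp [blk, e1, e2]
    | cast i =>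
      induction j using Fin.lastCases with
      | last =>
        rw [if_neg (Fin.castSucc_lt_last i).ne, if_neg (Fin.castSucc_lt_last i).ne,
          LinearEquiv.refl_apply, h i]
        simp [blk, e1, e2]
      | cast j =>
        by_cases hij : i = j
        · subst hij
          simp [blk, e1, C, ← hβ]
        · have hij' : i.castSucc ≠ j.castSucc := fun h => hij (Fin.castSucc_injective _ h)
          rw [if_neg hij', if_neg hij', LinearEquiv.refl_apply, hpol, map_add]
          simp [blk, e1, C]
  rw [halfDisc_eq_hd, map_hd, key, hd_blk hr, map_mul, ← hC, RingHom.map_det, RingHom.mapMatrix_apply,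
    Matrix.map_add _ (map_add φ), Matrix.transpose_map]

lemma halfDisc_orth (hr : Even r)
    (h : ∀ i : Fin r, QuadraticMap.polar Q (c i.castSucc) (c (Fin.last r)) = 0) :
    QuadGrp.halfDisc c (LinearEquiv.refl R R) Q =
      Q (c (Fin.last r)) * (polarMat Q fun i : Fin r => c i.castSucc).det :=
  halfDisc_mod c Q hr (RingHom.id R) h

lemma exists_basis_of_span {n : ℕ} (b : Module.Basis (Fin n) R M) (f : Fin n → M)
    (hf : ∀ i, b i ∈ Submodule.span R (Set.range f)) :
    ∃ d : Module.Basis (Fin n) R M, ∀ i, d i = f i := by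
  haveI := Module.Finite.of_basis b
  let T : M →ₗ[R] M := b.constr R f
  have hT : Function.Surjective T := LinearMap.range_eq_top.mp (by
    rw [Module.Basis.constr_range, eq_top_iff, ← b.span_eq, Submodule.span_le]
    rintro _ ⟨i, rfl⟩
    exact hf i)
  exact ⟨b.map (LinearEquiv.ofBijective T
    ⟨OrzechProperty.injective_of_surjective_endomorphism T hT, hT⟩),
    fun i => by rw [Module.Basis.map_apply]; exact b.constr_basis R f i⟩

lemma exists_basis_last (b : Module.Basis (Fin (r + 1)) R M) (v : M) (i : Fin (r + 1))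
    (hi : IsUnit (b.repr v i)) :
    ∃ d : Module.Basis (Fin (r + 1)) R M, d (Fin.last r) = v ∧
      ∀ j : Fin r, d j.castSucc = b (i.succAbove j) := by
  obtain ⟨d, hd⟩ := exists_basis_of_span b (Fin.snoc (fun j : Fin r => b (i.succAbove j)) v) fun k => by
    have hmem : ∀ j : Fin r, b (i.succAbove j) ∈
        Submodule.span R (Set.range (Fin.snoc (α := fun _ => M) (fun j : Fin r => b (i.succAbove j)) v)) :=
      fun j => Submodule.subset_span ⟨j.castSucc, by simp⟩
    rcases Fin.eq_self_or_eq_succAbove i k with rfl | ⟨j, rfl⟩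
    · have hv := Submodule.subset_span (R := R)
        (s := Set.range (Fin.snoc (α := fun _ => M) (fun j : Fin r => b (k.succAbove j)) v))
        ⟨Fin.last r, Fin.snoc_last (α := fun _ => M) _ _⟩
      replace hv : ∑ l, b.repr v l • b l ∈ Submodule.span R
          (Set.range (Fin.snoc (α := fun _ => M) (fun j : Fin r => b (k.succAbove j)) v)) := by
        rw [b.sum_repr]; exact hv
      rw [Fin.sum_univ_succAbove _ k] at hv
      have := (Submodule.add_mem_iff_left _ (Submodule.sum_mem _ fun j _ =>
        Submodule.smul_mem _ _ (hmem j))).mp hv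
      exact (Submodule.smul_mem_iff_of_isUnit _ hi).mp this
    · exact hmem j
  exact ⟨d, by rw [hd]; simp, fun j => by rw [hd]; simp⟩

variable [IsLocalRing R]

open IsLocalRing in
include c in
/-- Over a local ring a semiregular form has an orthogonal splitting `W ⊕ R v`. -/
lemma exists_orth_basis (hr : Even r) (hQ : QuadGrp.IsSemiregular c (LinearEquiv.refl R R) Q) :
    ∃ d : Module.Basis (Fin (r + 1)) R M,
      (∀ i : Fin r, QuadraticMap.polar Q (d i.castSucc) (d (Fin.last r)) = 0) ∧
      IsUnit (Q (d (Fin.last r))) ∧ IsUnit (polarMat Q fun i : Fin r => d i.castSucc).det := by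
  have hn : Odd (r + 1) := hr.add_one
  suffices h : ∃ d : Module.Basis (Fin (r + 1)) R M,
      ∀ i : Fin r, QuadraticMap.polar Q (d i.castSucc) (d (Fin.last r)) = 0 by
    obtain ⟨d, hd⟩ := h
    have := isSemiregular_basis c Q hn d hQ
    rw [QuadGrp.IsSemiregular, halfDisc_orth d Q hr hd] at this
    exact ⟨d, hd, IsUnit.mul_iff.mp this⟩
  have hpol : ∀ x y z : M, ∀ t : R, QuadraticMap.polar Q (x + t • y) z =
      QuadraticMap.polar Q x z + t * QuadraticMap.polar Q y z := fun x y z t => by
    rw [QuadraticMap.polar_add_left, QuadraticMap.polar_smul_left, smul_eq_mul]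
  by_cases h2 : IsUnit (2 : R)
  · -- a vector of unit value
    obtain ⟨v, i, hi, hv⟩ : ∃ v i, IsUnit (c.repr v i) ∧ IsUnit (Q v) := by
      by_contra! hno
      have hdiag : ∀ i, Q (c i) ∈ maximalIdeal R := fun i =>
        (mem_maximalIdeal _).mpr (hno (c i) i (by simp))
      have hP : (polarMat Q c).map (residue R) = 0 := by
        ext i j
        simp only [Matrix.map_apply, polarMat, Matrix.of_apply, Matrix.zero_apply, residue_eq_zero_iff]
        by_cases hij : i = j
        · subst hij
          rw [QuadraticMap.polar_self, nsmul_eq_mul]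
          exact Ideal.mul_mem_left _ _ (hdiag i)
        · exact sub_mem (sub_mem ((mem_maximalIdeal _).mpr (hno (c i + c j) i (by simp [Ne.symm hij])))
            (hdiag i)) (hdiag j)
      have hu : IsUnit ((polarMat Q c).det) := by
        rw [← two_mul_halfDisc c Q hn]; exact h2.mul hQ
      have := hu.map (residue R)
      rw [RingHom.map_det, RingHom.mapMatrix_apply, hP, Matrix.det_zero] at this
      exact not_isUnit_zero this
    obtain ⟨d, hdl, -⟩ := exists_basis_last c v i hi
    set u := (h2.mul hv).unit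
    let t : Fin r → R := fun j => -((↑u⁻¹ : R) * QuadraticMap.polar Q (d j.castSucc) v)
    obtain ⟨d', hd'⟩ := exists_basis_of_span d
      (Fin.snoc (fun j : Fin r => d j.castSucc + t j • v) v) fun k => by
      have hv' : v ∈ Submodule.span R (Set.range (Fin.snoc (α := fun _ => M) (fun j : Fin r => d j.castSucc + t j • v) v)) :=
        Submodule.subset_span ⟨Fin.last r, by simp⟩
      induction k using Fin.lastCases with
      | last => rwa [hdl]
      | cast j =>
        exact (Submodule.add_mem_iff_left _ (Submodule.smul_mem _ (t j) hv')).mp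
          (Submodule.subset_span ⟨j.castSucc, by simp⟩)
    refine ⟨d', fun j => ?_⟩
    rw [hd', hd', Fin.snoc_castSucc, Fin.snoc_last, hpol, QuadraticMap.polar_self, nsmul_eq_mul, Nat.cast_ofNat]
    have hu : (↑u⁻¹ : R) * (2 * Q v) = 1 := (h2.mul hv).val_inv_mul
    simp only [t]
    linear_combination -(QuadraticMap.polar Q (d j.castSucc) v) * hu
  · -- a vector in the radical modulo the maximal ideal
    have hdet : ((polarMat Q c).map (residue R)).det = 0 := by
      rw [← RingHom.mapMatrix_apply, ← RingHom.map_det, ← two_mul_halfDisc c Q hn, map_mul,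
        (residue_eq_zero_iff _).mpr ((mem_maximalIdeal _).mpr h2), zero_mul]
    obtain ⟨w, hw0, hw⟩ := Matrix.exists_mulVec_eq_zero_iff.mpr hdet
    choose w' hw' using fun i => residue_surjective (R := R) (w i)
    obtain ⟨i, hi⟩ := Function.ne_iff.mp hw0
    let v := ∑ j, w' j • c j
    have hrepr : ∀ k, c.repr v k = w' k := fun k => by simp [v, Finsupp.single_apply]
    obtain ⟨d, hdl, hdc⟩ := exists_basis_last c v i (by
      rw [hrepr, ← residue_ne_zero_iff_isUnit, hw']; exact hi)
    have hmem : ∀ j : Fin r, residue R (QuadraticMap.polar Q (d j.castSucc) (d (Fin.last r))) = 0 :=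
      fun j => by
      have := congrFun hw (i.succAbove j)
      rw [hdl, hdc, ← QuadraticMap.polarBilin_apply_apply, map_sum, map_sum]
      simp only [Matrix.mulVec, dotProduct, Matrix.map_apply, polarMat, Matrix.of_apply, Pi.zero_apply] at this
      refine Eq.trans (Finset.sum_congr rfl fun k _ => ?_) this
      rw [map_smul, smul_eq_mul, map_mul, hw', mul_comm, QuadraticMap.polarBilin_apply_apply]
    have hunit := (isSemiregular_basis c Q hn d hQ).map (residue R)
    rw [halfDisc_mod d Q hr (residue R) hmem, map_mul] at hunit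
    have hPu : IsUnit (polarMat Q fun i : Fin r => d i.castSucc).det := by
      have := (IsUnit.mul_iff.mp hunit).2
      exact isUnit_of_map_unit (residue R) _ this
    set P := polarMat Q fun i : Fin r => d i.castSucc
    let x : Fin r → R := fun j => QuadraticMap.polar Q (d j.castSucc) (d (Fin.last r))
    let t := P⁻¹ *ᵥ (-x)
    have hPt : P *ᵥ t = -x := by
      rw [Matrix.mulVec_mulVec, Matrix.mul_nonsing_inv _ hPu, Matrix.one_mulVec]
    obtain ⟨d', hd'⟩ := exists_basis_of_span d
      (Fin.snoc (fun j : Fin r => d j.castSucc) (d (Fin.last r) + ∑ k, t k • d k.castSucc)) fun k => by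
      set f : Fin (r + 1) → M := Fin.snoc (fun j : Fin r => d j.castSucc) (d (Fin.last r) + ∑ k, t k • d k.castSucc)
      have hj : ∀ j : Fin r, d j.castSucc ∈ Submodule.span R (Set.range f) :=
        fun j => Submodule.subset_span ⟨j.castSucc, by simp [f]⟩
      induction k using Fin.lastCases with
      | last =>
        exact (Submodule.add_mem_iff_left _ (Submodule.sum_mem (t := Finset.univ) _ fun k _ => Submodule.smul_mem _ (t k) (hj k))).mp
          (Submodule.subset_span ⟨Fin.last r, by simp [f]⟩)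
      | cast j => exact hj j
    refine ⟨d', fun j => ?_⟩
    have h := congrFun hPt j
    simp only [Matrix.mulVec, dotProduct, P, polarMat, Matrix.of_apply, Pi.neg_apply, x] at h
    rw [hd', hd', Fin.snoc_castSucc, Fin.snoc_last, QuadraticMap.polar_add_right,
      ← QuadraticMap.polarBilin_apply_apply Q (d j.castSucc) (∑ k, t k • d k.castSucc), map_sum]
    simp only [map_smul, smul_eq_mul, QuadraticMap.polarBilin_apply_apply]
    rw [show ∑ k, t k * QuadraticMap.polar Q (d j.castSucc) (d k.castSucc) =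
      -QuadraticMap.polar Q (d j.castSucc) (d (Fin.last r)) by
      rw [← h]; exact Finset.sum_congr rfl fun k _ => mul_comm _ _]
    exact add_neg_cancel _

end Orth

end Groth.Agent.H21Clif
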