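import Groth.Agent.H21Clif.Regular
import Mathlib.RingTheory.LocalRing.Basic
import Mathlib.RingTheory.LocalRing.MaximalIdeal.Basic
import Mathlib.RingTheory.TensorProduct.Basic
import Mathlib.RingTheory.FiniteType
import Mathlib.LinearAlgebra.FreeModule.Finite.Matrix
import Mathlib.LinearAlgebra.FiniteDimensional.Defs
import Mathlib.RingTheory.Finiteness.Prod

/-!
# The Clifford algebra of a regular form of even rank is Azumaya; Skolem–Noether
-/

universe u v

namespace Groth.Agent.H21Clif

open CliffordAlgebra IsLocalRing TensorProduct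

variable {R : Type u} [CommRing R] {M : Type v} [AddCommGroup M] [Module R M]
variable {n : ℕ} (b : Module.Basis (Fin n) R M) {Q : QuadraticForm R M}

set_option linter.style.haveILetI false

/-- `x ⊗ y ↦ (a ↦ x a y)` -/
noncomputable def sandwich (Q : QuadraticForm R M) :
    CliffordAlgebra Q ⊗[R] CliffordAlgebra Q →ₗ[R] Module.End R (CliffordAlgebra Q) :=
  TensorProduct.lift (LinearMap.mk₂ R
    (fun x y => LinearMap.mulLeft R x ∘ₗ LinearMap.mulRight R y)
    (fun x x' y => by ext a; simp [add_mul])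
    (fun c x y => by ext a; simp)
    (fun x y y' => by ext a; simp [mul_add])
    (fun c x y => by ext a; simp))

lemma sandwich_tmul (x y a : CliffordAlgebra Q) : sandwich Q (x ⊗ₜ[R] y) a = x * (a * y) := rfl

/-- the range of `sandwich`, as a subalgebra -/
noncomputable def sandwichAlg (Q : QuadraticForm R M) :
    Subalgebra R (Module.End R (CliffordAlgebra Q)) :=
  (LinearMap.range (sandwich Q)).toSubalgebra ⟨1 ⊗ₜ 1, by ext a; simp [sandwich_tmul]⟩ (by
    rintro _ _ ⟨s, rfl⟩ ⟨t, rfl⟩
    induction s using TensorProduct.induction_on with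
    | zero => rw [map_zero, zero_mul]; exact Submodule.zero_mem _
    | add s s' hs hs' => rw [map_add, add_mul]; exact add_mem hs hs'
    | tmul x y =>
      induction t using TensorProduct.induction_on with
      | zero => rw [map_zero, mul_zero]; exact Submodule.zero_mem _
      | add t t' ht ht' => rw [map_add, mul_add]; exact add_mem ht ht'
      | tmul x' y' =>
        exact ⟨(x * x') ⊗ₜ (y' * y), LinearMap.ext fun a => by
          simp [sandwich_tmul, mul_assoc]⟩)

lemma mem_sandwichAlg {f : Module.End R (CliffordAlgebra Q)} :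
    f ∈ sandwichAlg Q ↔ ∃ t, sandwich Q t = f := Iff.rfl

variable {z : CliffordAlgebra Q} {D : Rˣ}

lemma IsDick.conj_eq_involute (hz : IsDick Q z D) (a : CliffordAlgebra Q) :
    (1 - 2 * z) * a * (1 - 2 * z) = (D : R) • involute a := by
  induction a using CliffordAlgebra.left_induction with
  | algebraMap r =>
    rw [involute.commutes, ← Algebra.commutes, mul_assoc, hz.sq, ← map_mul, Algebra.smul_def,
      ← map_mul, mul_comm]
  | add x y hx hy => rw [mul_add, add_mul, hx, hy, map_add, smul_add]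
  | ι_mul x m hx =>
    rw [← mul_assoc, hz.anticomm, neg_mul, neg_mul, mul_assoc (ι Q m), mul_assoc (ι Q m), hx,
      map_mul, involute_ι, mul_smul_comm, neg_mul, smul_neg]

include b in
lemma sandwich_surjective (hQ : QuadGrp.IsRegular Q) (hz : IsDick Q z D) :
    Function.Surjective (sandwich Q) := by
  let T := toExt b Q
  let A : Subalgebra R (Module.End R (ExteriorAlgebra R M)) :=
    (sandwichAlg Q).map (T.conjAlgEquiv R).toAlgHom
  have hctr : ∀ d, (contractLeft d : Module.End R (CliffordAlgebra Q)) ∈ sandwichAlg Q := fun d => by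
    obtain ⟨v, hv⟩ := exists_polar_eq hQ d
    refine ⟨ι Q v ⊗ₜ 1 - (↑D⁻¹ : R) • ((1 - 2 * z) ⊗ₜ ((1 - 2 * z) * ι Q v)), LinearMap.ext fun a => ?_⟩
    rw [map_sub, map_smul, LinearMap.sub_apply, LinearMap.smul_apply, sandwich_tmul, sandwich_tmul,
      mul_one, ← mul_assoc a, ← mul_assoc, ← mul_assoc, hz.conj_eq_involute, smul_mul_assoc,
      smul_smul, Units.inv_mul, one_smul, supercomm, hv]
  have hctrA : ∀ d, (contractLeft (Q := (0 : QuadraticForm R M)) d :
      Module.End R (ExteriorAlgebra R M)) ∈ A := fun d => by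
    refine ⟨_, hctr d, LinearMap.ext fun x => ?_⟩
    change T (contractLeft d (T.symm x)) = _
    rw [toExt_contract, LinearEquiv.apply_symm_apply]
  have htop : ∀ f, f ∈ A := mem_of_mulLeft_of_ctr b A (fun i => by
    have h1 : (T.conjAlgEquiv R) (sandwich Q (ι Q (b i) ⊗ₜ 1)) ∈ A := ⟨_, ⟨_, rfl⟩, rfl⟩
    have h2 : LinearMap.mulLeft R (ExteriorAlgebra.ι R (b i)) =
        (T.conjAlgEquiv R) (sandwich Q (ι Q (b i) ⊗ₜ 1)) +
          contractLeft (Q := (0 : QuadraticForm R M)) ((exists_bilin b Q).choose (b i)) := by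
      refine LinearMap.ext fun x => ?_
      change ExteriorAlgebra.ι R (b i) * x = T (ι Q (b i) * (T.symm x * 1)) + _
      rw [mul_one, toExt_ι_mul, LinearEquiv.apply_symm_apply, sub_add_cancel]
    rw [h2]
    exact add_mem h1 (hctrA _)) fun i => hctrA _
  intro f
  obtain ⟨g, ⟨t, ht⟩, hg⟩ := htop ((T.conjAlgEquiv R) f)
  exact ⟨t, ht.trans ((T.conjAlgEquiv R).injective hg)⟩

include b in
lemma sandwich_bijective (hQ : QuadGrp.IsRegular Q) (hz : IsDick Q z D) :
    Function.Bijective (sandwich Q) := by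
  refine ⟨?_, sandwich_surjective b hQ hz⟩
  let c := cBasis b Q
  let e : Module.End R (CliffordAlgebra Q) ≃ₗ[R] CliffordAlgebra Q ⊗[R] CliffordAlgebra Q :=
    (LinearMap.toMatrix c c).trans (((Matrix.stdBasis R _ _).equiv (c.tensorProduct c) (Equiv.refl _)))
  haveI : Module.Finite R (CliffordAlgebra Q ⊗[R] CliffordAlgebra Q) :=
    Module.Finite.of_basis (c.tensorProduct c)
  have := OrzechProperty.injective_of_surjective_endomorphism (e.toLinearMap.comp (sandwich Q))
    (e.surjective.comp (sandwich_surjective b hQ hz))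
  exact fun x y h => this (congrArg e h)

lemma mem_maximalIdeal_smul_of_repr [IsLocalRing R] {ι' : Type*} [Fintype ι'] {N : Type*}
    [AddCommGroup N] [Module R N] (c : Module.Basis ι' R N) {x : N}
    (h : ∀ i, c.repr x i ∈ maximalIdeal R) : x ∈ maximalIdeal R • (⊤ : Submodule R N) := by
  rw [← c.sum_repr x]
  exact Submodule.sum_mem _ fun i _ => Submodule.smul_mem_smul (h i) Submodule.mem_top

lemma map_mem_maximalIdeal_smul [IsLocalRing R] {N N' : Type*} [AddCommGroup N] [Module R N]
    [AddCommGroup N'] [Module R N'] (f : N →ₗ[R] N') {x : N}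
    (h : x ∈ maximalIdeal R • (⊤ : Submodule R N)) : f x ∈ maximalIdeal R • (⊤ : Submodule R N') := by
  have := Submodule.mem_map_of_mem (f := f) h
  rw [Submodule.map_smul''] at this
  exact Submodule.smul_mono le_rfl le_top this

include b in
/-- Skolem–Noether -/
lemma exists_inner [IsLocalRing R] (hQ : QuadGrp.IsRegular Q) (hz : IsDick Q z D)
    (σ : CliffordAlgebra Q ≃ₐ[R] CliffordAlgebra Q) :
    ∃ u : (CliffordAlgebra Q)ˣ, ∀ x, σ x * u = u * x := by
  haveI := finite b Q
  let Φ := LinearEquiv.ofBijective (sandwich Q) (sandwich_bijective b hQ hz)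
  let E : Module.End R (CliffordAlgebra Q) := (tau b Q).smulRight (1 : CliffordAlgebra Q)
  let P := Φ.symm E
  have hP : sandwich Q P = E := Φ.apply_symm_apply E
  let P' := LinearMap.rTensor (CliffordAlgebra Q) σ.toLinearMap P
  let U := sandwich Q P'
  -- equivariance
  have hcomp1 : ∀ (x : CliffordAlgebra Q) t, sandwich Q (LinearMap.rTensor _ (LinearMap.mulLeft R x) t) =
      LinearMap.mulLeft R x ∘ₗ sandwich Q t := fun x t => by
    induction t using TensorProduct.induction_on with
    | zero => simp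
    | add s s' h h' => rw [map_add, map_add, h, h', map_add, LinearMap.comp_add]
    | tmul p q => exact LinearMap.ext fun a => by simp [sandwich_tmul, mul_assoc]
  have hcomp2 : ∀ (x : CliffordAlgebra Q) t, sandwich Q (LinearMap.lTensor _ (LinearMap.mulRight R x) t) =
      LinearMap.mulRight R x ∘ₗ sandwich Q t := fun x t => by
    induction t using TensorProduct.induction_on with
    | zero => simp
    | add s s' h h' => rw [map_add, map_add, h, h', map_add, LinearMap.comp_add]
    | tmul p q => exact LinearMap.ext fun a => by simp [sandwich_tmul, mul_assoc]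
  have hPeq : ∀ x, LinearMap.rTensor _ (LinearMap.mulLeft R x) P =
      LinearMap.lTensor _ (LinearMap.mulRight R x) P := fun x => by
    refine (sandwich_bijective b hQ hz).1 ?_
    rw [hcomp1, hcomp2, hP]
    exact LinearMap.ext fun a => by simp [E]
  have hU : ∀ a x, σ x * U a = U a * x := fun a x => by
    have h := congrArg (LinearMap.rTensor (CliffordAlgebra Q) σ.toLinearMap) (hPeq x)
    have h1 : σ.toLinearMap ∘ₗ LinearMap.mulLeft R x = LinearMap.mulLeft R (σ x) ∘ₗ σ.toLinearMap :=
      LinearMap.ext fun y => by simp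
    rw [← LinearMap.rTensor_comp_apply, h1, LinearMap.rTensor_comp_apply] at h
    rw [← LinearMap.comp_apply (g := LinearMap.lTensor _ _), LinearMap.rTensor_comp_lTensor,
      ← LinearMap.lTensor_comp_rTensor, LinearMap.comp_apply] at h
    have := LinearMap.congr_fun (congrArg (sandwich Q) h) a
    rw [hcomp1, hcomp2] at this
    exact this
  -- some value is nonzero modulo the maximal ideal
  let c := cBasis b Q
  obtain ⟨a, i, hai⟩ : ∃ a i, IsUnit (c.repr (U a) i) := by
    by_contra! hno
    have hUm : U ∈ maximalIdeal R • (⊤ : Submodule R (Module.End R (CliffordAlgebra Q))) := by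
      refine mem_maximalIdeal_smul_of_repr (Module.Basis.end c) fun p => ?_
      rw [show (Module.Basis.end c).repr U p = c.repr (U (c p.2)) p.1 by
        simp [Matrix.stdBasis, LinearMap.toMatrix_apply]]
      exact (mem_maximalIdeal _).mpr (hno _ _)
    have hP'm : P' ∈ maximalIdeal R • (⊤ : Submodule R (CliffordAlgebra Q ⊗[R] CliffordAlgebra Q)) := by
      have := map_mem_maximalIdeal_smul Φ.symm.toLinearMap hUm
      rwa [show Φ.symm.toLinearMap U = P' from Φ.symm_apply_apply P'] at this
    have hEm := map_mem_maximalIdeal_smul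
      ((LinearMap.applyₗ (topElt b Q)).comp ((sandwich Q).comp
        (LinearMap.rTensor (CliffordAlgebra Q) σ.symm.toLinearMap))) hP'm
    have hEq : ((LinearMap.applyₗ (topElt b Q)).comp ((sandwich Q).comp
        (LinearMap.rTensor (CliffordAlgebra Q) σ.symm.toLinearMap))) P' = 1 := by
      simp only [LinearMap.comp_apply, P']
      rw [← LinearMap.rTensor_comp_apply,
        show σ.symm.toLinearMap ∘ₗ σ.toLinearMap = LinearMap.id from
          LinearMap.ext fun y => σ.symm_apply_apply y, LinearMap.rTensor_id, LinearMap.id_apply, hP]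
      simp [E, tau_topElt]
    rw [hEq] at hEm
    have := map_mem_maximalIdeal_smul (coef b ∅ ∘ₗ (toExt b Q).toLinearMap) hEm
    simp only [LinearMap.comp_apply, LinearEquiv.coe_coe, toExt_one,
      show (1 : ExteriorAlgebra R M) = mono b ∅ by simp [mono], coef_mono, if_true, smul_eq_mul,
      Ideal.mul_top] at this
    exact (maximalIdeal.isMaximal R).ne_top ((Ideal.eq_top_iff_one _).mpr this)
  -- an element with a unimodular coordinate intertwining `σ` is a unit
  obtain ⟨t, ht⟩ := sandwich_surjective b hQ hz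
    (((hai.unit⁻¹ : Rˣ).val • c.coord i).smulRight (1 : CliffordAlgebra Q))
  have ht' : sandwich Q t (U a) = 1 := by
    rw [ht, LinearMap.smulRight_apply, LinearMap.smul_apply, Module.Basis.coord_apply, smul_eq_mul,
      hai.val_inv_mul, one_smul]
  have hmem : ∀ s, ∃ w, sandwich Q s (U a) = U a * w := fun s => by
    induction s using TensorProduct.induction_on with
    | zero => exact ⟨0, by simp⟩
    | add s s' h h' =>
      obtain ⟨w, hw⟩ := h
      obtain ⟨w', hw'⟩ := h'
      exact ⟨w + w', by rw [map_add, LinearMap.add_apply, hw, hw', mul_add]⟩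
    | tmul p q =>
      refine ⟨σ.symm p * q, ?_⟩
      rw [sandwich_tmul, ← mul_assoc, ← mul_assoc (U a), ← hU, σ.apply_symm_apply]
  obtain ⟨w, hw⟩ := hmem t
  rw [ht'] at hw
  have hinj := OrzechProperty.injective_of_surjective_endomorphism (LinearMap.mulLeft R (U a))
    fun y => ⟨w * y, by rw [LinearMap.mulLeft_apply, ← mul_assoc, ← hw, one_mul]⟩
  have hwu : w * U a = 1 := hinj (by
    simp only [LinearMap.mulLeft_apply]
    rw [← mul_assoc, ← hw, one_mul, mul_one])
  exact ⟨⟨U a, w, hw.symm, hwu⟩, fun x => hU a x⟩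

/-- the algebra automorphism induced by an isometry -/
noncomputable def autOf (Q : QuadraticForm R M) (g : M ≃ₗ[R] M) (hg : g ∈ QuadGrp.O Q) :
    CliffordAlgebra Q ≃ₐ[R] CliffordAlgebra Q :=
  AlgEquiv.ofAlgHom (CliffordAlgebra.map (QuadGrp.isometryOfMem Q g hg))
    (CliffordAlgebra.map (QuadGrp.isometryOfMem Q g⁻¹ ((QuadGrp.O Q).inv_mem hg)))
    (CliffordAlgebra.hom_ext (LinearMap.ext fun m => by
      simp [QuadGrp.isometryOfMem]))
    (CliffordAlgebra.hom_ext (LinearMap.ext fun m => by
      simp [QuadGrp.isometryOfMem]))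

lemma autOf_apply (g : M ≃ₗ[R] M) (hg : g ∈ QuadGrp.O Q) (x : CliffordAlgebra Q) :
    autOf Q g hg x = CliffordAlgebra.map (QuadGrp.isometryOfMem Q g hg) x := rfl

/-- even and odd components -/
lemma exists_parts (x : CliffordAlgebra Q) :
    ∃ x₀ ∈ evenOdd Q 0, ∃ x₁ ∈ evenOdd Q 1, x = x₀ + x₁ := by
  have h : x ∈ evenOdd Q 0 ⊔ evenOdd Q 1 := by
    rw [(evenOdd_isCompl Q).sup_eq_top]; trivial
  obtain ⟨a, ha, c, hc, rfl⟩ := Submodule.mem_sup.mp h
  exact ⟨a, ha, c, hc, rfl⟩

lemma parts_eq_zero {x₀ x₁ : CliffordAlgebra Q} (h₀ : x₀ ∈ evenOdd Q 0) (h₁ : x₁ ∈ evenOdd Q 1)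
    (h : x₀ + x₁ = 0) : x₀ = 0 ∧ x₁ = 0 := by
  have hx : x₀ = 0 := Submodule.disjoint_def.mp (evenOdd_isCompl Q).disjoint x₀ h₀ (by
    rw [eq_neg_of_add_eq_zero_left h]; exact neg_mem h₁)
  exact ⟨hx, by rwa [hx, zero_add] at h⟩

lemma IsDick.smul_parts (hz : IsDick Q z D) {u : CliffordAlgebra Q} {ε : R}
    (hu : (z + ε • (1 - 2 * z)) * u = u * z) {u₀ u₁ : CliffordAlgebra Q}
    (h₀ : u₀ ∈ evenOdd Q 0) (h₁ : u₁ ∈ evenOdd Q 1) (hsum : u = u₀ + u₁) :
    ε • u₀ = 0 ∧ (1 - ε) • u₁ = 0 := by
  set w := 1 - 2 * z with hw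
  have hmemzw : z + ε • w ∈ evenOdd Q 0 := add_mem hz.mem (Submodule.smul_mem _ _ hz.one_sub_mem)
  have hmem : ∀ {x y : CliffordAlgebra Q}, x ∈ evenOdd Q 0 → y ∈ evenOdd Q 1 →
      x * y ∈ evenOdd Q 1 ∧ y * x ∈ evenOdd Q 1 := fun hx hy =>
    ⟨by simpa using SetLike.mul_mem_graded hx hy, by simpa using SetLike.mul_mem_graded hy hx⟩
  obtain ⟨e₀, e₁⟩ := parts_eq_zero (x₀ := (z + ε • w) * u₀ - u₀ * z)
    (x₁ := (z + ε • w) * u₁ - u₁ * z) (sub_mem (even_mul hmemzw h₀) (even_mul h₀ hz.mem))
    (sub_mem (hmem hmemzw h₁).1 (hmem hz.mem h₁).2)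
    (by rw [← sub_eq_zero] at hu; rw [← hu, hsum]; noncomm_ring)
  have hcancel : ∀ x, w * x = 0 → x = 0 := fun x hx => by
    have := congrArg ((↑D⁻¹ : R) • ·) (congrArg (w * ·) hx)
    simp only [← mul_assoc, hw, hz.sq, mul_zero, smul_zero, ← Algebra.smul_def, smul_smul,
      Units.inv_mul, one_smul] at this
    exact this
  constructor
  · refine hcancel _ ?_
    rw [add_mul, hz.comm_even h₀, add_sub_cancel_left, smul_mul_assoc] at e₀
    rw [mul_smul_comm, e₀]
  · refine hcancel _ ?_
    have h := hz.odd_mul h₁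
    calc w * ((1 - ε) • u₁) = -((z + ε • w) * u₁ - u₁ * z) + (u₁ - u₁ * z - z * u₁) := by
          simp only [hw, sub_smul, one_smul, mul_sub, sub_mul, add_mul, mul_smul_comm, smul_mul_assoc,
            one_mul, two_mul, smul_sub, smul_add]
          abel
      _ = 0 := by rw [e₁, h, mul_sub, mul_one, neg_zero, zero_add, sub_self]

include b in
lemma tau_ι_mul_ι (v w : M) (y : CliffordAlgebra Q) :
    tau b Q (ι Q v * ι Q w * y) = tau b Q (y * (ι Q v * ι Q w)) := by
  calc tau b Q (ι Q v * ι Q w * y) = tau b Q (involute (ι Q w * y) * ι Q v) := by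
        rw [mul_assoc, tau_supertrace_ι]
    _ = -tau b Q (ι Q w * (involute y * ι Q v)) := by
        rw [map_mul (involute (Q := Q)), involute_ι, neg_mul, neg_mul, map_neg, mul_assoc]
    _ = -tau b Q (involute (involute y * ι Q v) * ι Q w) := by rw [tau_supertrace_ι]
    _ = _ := by
        rw [map_mul (involute (Q := Q)), involute_involute, involute_ι, mul_neg, neg_mul, map_neg, neg_neg, mul_assoc]

include b in
lemma tau_even_comm {x : CliffordAlgebra Q} (hx : x ∈ evenOdd Q 0) :
    ∀ y, tau b Q (x * y) = tau b Q (y * x) := by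
  induction x, hx using CliffordAlgebra.even_induction with
  | algebraMap r => intro y; rw [Algebra.commutes]
  | add x x' _ _ h h' => intro y; rw [add_mul, mul_add, map_add, map_add, h, h']
  | ι_mul_ι_mul m₁ m₂ x _ h =>
    intro y
    rw [mul_assoc, tau_ι_mul_ι, mul_assoc x y, h, mul_assoc y]

include b in
lemma tau_odd_comm {x : CliffordAlgebra Q} (hx : x ∈ evenOdd Q 1) :
    ∀ y, tau b Q (x * y) = tau b Q (involute y * x) := by
  induction x, hx using CliffordAlgebra.odd_induction with
  | ι v => intro y; exact tau_supertrace_ι b Q v y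
  | add x x' _ _ h h' => intro y; rw [add_mul, mul_add, map_add, map_add, h, h']
  | ι_mul_ι_mul m₁ m₂ x _ h =>
    intro y
    rw [mul_assoc, tau_ι_mul_ι, mul_assoc x y, h, map_mul (involute (Q := Q)), map_mul (involute (Q := Q)), involute_ι, involute_ι, neg_mul_neg,
      mul_assoc (involute y)]

lemma topElt_mem (hn : Even n) : topElt b Q ∈ evenOdd Q 0 := by
  have := SetLike.list_prod_ofFn_mem_graded (A := evenOdd Q) (fun _ : Fin n => (1 : ZMod 2))
    (fun i => ι Q (b i)) fun i => ι_mem_evenOdd_one Q (b i)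
  rw [show (List.ofFn fun _ : Fin n => (1 : ZMod 2)).sum = 0 by
    rw [List.sum_ofFn]; simp [hn.natCast_zmod_two]] at this
  exact this

include b in
/-- the determinant of an isometry from the idempotent and an intertwining unit -/
lemma det_eq_one_sub_two_mul (hn : Even n) (g : M ≃ₗ[R] M) (hg : g ∈ QuadGrp.O Q)
    (hz : IsDick Q z D) {ε : R} (hε : autOf Q g hg z = z + ε • (1 - 2 * z))
    (u : (CliffordAlgebra Q)ˣ) (hu : ∀ x, autOf Q g hg x * u = u * x) :
    LinearMap.det g.toLinearMap = 1 - 2 * ε := by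
  obtain ⟨u₀, h₀, u₁, h₁, hsum⟩ := exists_parts (u : CliffordAlgebra Q)
  obtain ⟨e₀, e₁⟩ := hz.smul_parts (by rw [← hε]; exact hu z) h₀ h₁ hsum
  rw [sub_smul, one_smul, sub_eq_zero] at e₁
  have hu₁ : u₁ = ε • (u : CliffordAlgebra Q) := by rw [hsum, smul_add, e₀, zero_add]; exact e₁
  have hu₀ : u₀ = (1 - ε) • (u : CliffordAlgebra Q) := by
    rw [hsum, smul_add, sub_smul, one_smul, e₀, sub_zero, sub_smul, one_smul, ← e₁, sub_self, add_zero]
  set E := topElt b Q
  have hE : autOf Q g hg E = u * E * (↑u⁻¹ : CliffordAlgebra Q) := by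
    rw [← hu, mul_assoc, Units.mul_inv, mul_one]
  have hinv : involute (↑u⁻¹ : CliffordAlgebra Q) * u₁ = (-ε) • 1 := by
    have h : involute u₁ = -u₁ := involute_eq_of_mem_odd h₁
    rw [← neg_neg u₁, ← h, mul_neg, ← map_mul, hu₁, mul_smul_comm, Units.inv_mul, map_smul, map_one,
      neg_smul]
  calc LinearMap.det g.toLinearMap
      = tau b Q (autOf Q g hg E) := by rw [autOf_apply, tau_map, tau_topElt, mul_one]
    _ = tau b Q (u₀ * (E * (↑u⁻¹ : CliffordAlgebra Q))) + tau b Q (u₁ * (E * (↑u⁻¹ : CliffordAlgebra Q))) := by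
        rw [hE, hsum, add_mul, add_mul, map_add, mul_assoc, mul_assoc]
    _ = tau b Q (E * ((↑u⁻¹ : CliffordAlgebra Q) * u₀)) +
          tau b Q (E * (involute (↑u⁻¹ : CliffordAlgebra Q) * u₁)) := by
        rw [tau_even_comm b h₀, tau_odd_comm b h₁, map_mul (involute (Q := Q)), involute_eq_of_mem_even (topElt_mem b hn),
          mul_assoc, mul_assoc]
    _ = _ := by
        rw [hinv, hu₀, mul_smul_comm, Units.inv_mul, mul_smul_comm, mul_smul_comm, map_smul, map_smul,
          mul_one, tau_topElt, smul_eq_mul, smul_eq_mul]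
        ring

end Groth.Agent.H21Clif
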