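import Groth.Agent.H21Clif.Decomp
import Groth.Agent.H21Clif.Skolem
import Mathlib.RingTheory.Idempotents
import Mathlib.LinearAlgebra.Dimension.Free

/-!
# Regular forms of even rank over a local ring: the Dickson invariant, reflections, Clifford lifts
-/

universe u v

namespace Groth.Agent.H21Clif

open CliffordAlgebra IsLocalRing

variable {R : Type u} [CommRing R] {M : Type v} [AddCommGroup M] [Module R M]
variable {n : ℕ} (b : Module.Basis (Fin n) R M) {Q : QuadraticForm R M}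

set_option linter.style.haveILetI false
set_option linter.unusedSectionVars false

include b in
lemma ι_injective : Function.Injective (ι Q) := fun v w h => by
  have key : ∀ m, toExt b Q (ι Q m) = ExteriorAlgebra.ι R m := fun m => by
    have := toExt_ι_mul b Q m 1
    rwa [mul_one, toExt_one, mul_one, contractLeft_one, sub_zero] at this
  have h' := congrArg (fun x => ExteriorAlgebra.ιInv (toExt b Q x)) h
  simpa [key, ExteriorAlgebra.ι_leftInverse _] using h'

/-- membership in the centre of the even part -/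
lemma mem_center_even_iff (x : ↥(CliffordAlgebra.even Q)) :
    x ∈ Subalgebra.center R ↥(CliffordAlgebra.even Q) ↔
      ∀ v w, (x : CliffordAlgebra Q) * (ι Q v * ι Q w) = ι Q v * ι Q w * x := by
  rw [Subalgebra.mem_center_iff]
  refine ⟨fun h v w => ?_, fun h y => Subtype.ext ?_⟩
  · exact (congrArg Subtype.val (h ⟨ι Q v * ι Q w, ι_mul_ι_mem_evenOdd_zero Q v w⟩)).symm
  · exact (comm_even_of_anticomm h y.2).symm

variable {z : CliffordAlgebra Q} {D : Rˣ}

include b in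
lemma IsDick.eq_zero_of_smul (hz : IsDick Q z D) {ε : R} (h : ε • (1 - 2 * z) = 0) : ε = 0 := by
  have h1 := congrArg (· * (1 - 2 * z)) h
  simp only [smul_mul_assoc, hz.sq, zero_mul] at h1
  rw [Algebra.smul_def, ← map_mul, ← map_zero (algebraMap R (CliffordAlgebra Q))] at h1
  exact D.mul_left_eq_zero.mp (algebraMap_injective b Q h1)

include b in
lemma IsDick.one_sub_ne [Nontrivial R] (hz : IsDick Q z D) : (1 - 2 * z) ≠ 0 := fun h =>
  one_ne_zero (hz.eq_zero_of_smul b (ε := 1) (by rw [h, smul_zero]))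

lemma mem_SOeven_iff {g : M ≃ₗ[R] M} (hg : g ∈ QuadGrp.O Q) :
    g ∈ QuadGrp.SOeven Q ↔ QuadGrp.IsDicksonTrivial Q g hg :=
  ⟨fun ⟨_, h⟩ => h, fun h => ⟨hg, h⟩⟩

include b in
lemma IsDick.mem_SOeven_iff (hQ : QuadGrp.IsRegular Q) (hz : IsDick Q z D) (hn : 0 < n)
    {g : M ≃ₗ[R] M} (hg : g ∈ QuadGrp.O Q) :
    g ∈ QuadGrp.SOeven Q ↔ autOf Q g hg z = z := by
  refine ⟨fun h => (Groth.Agent.H21Clif.mem_SOeven_iff hg).mp h ⟨z, hz.mem⟩ ?_,
    fun h => (Groth.Agent.H21Clif.mem_SOeven_iff hg).mpr fun x hx => ?_⟩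
  · exact (mem_center_even_iff _).mpr fun v w => hz.comm_even (ι_mul_ι_mem_evenOdd_zero Q v w)
  · obtain ⟨a, c, hac⟩ := hz.exists_eq_of_central b hQ hn x.2 ((mem_center_even_iff x).mp hx)
    rw [← autOf_apply, hac, map_add, AlgEquiv.commutes, map_smul, h]

lemma eq_zero_or_one [IsLocalRing R] {ε : R} (h : IsIdempotentElem ε) : ε = 0 ∨ ε = 1 := by
  rcases isUnit_or_isUnit_one_sub_self ε with hu | hu
  · exact Or.inr ((IsIdempotentElem.iff_eq_one_of_isUnit hu).mp h)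
  · refine Or.inl (hu.mul_left_eq_zero.mp ?_)
    rw [mul_sub, mul_one, (h : ε * ε = ε), sub_self]

include b in
/-- The Dickson invariant over a local ring: trivial with determinant one, or it swaps `z`, `1-z`. -/
lemma exists_dichotomy [IsLocalRing R] (hn : Even n) (hQ : QuadGrp.IsRegular Q) (g : M ≃ₗ[R] M)
    (hg : g ∈ QuadGrp.O Q) :
    ∃ (z : CliffordAlgebra Q) (D : Rˣ), IsDick Q z D ∧
      ((autOf Q g hg z = z ∧ LinearMap.det g.toLinearMap = 1) ∨
        (autOf Q g hg z = 1 - z ∧ LinearMap.det g.toLinearMap = -1)) := by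
  haveI := Module.Free.of_basis b
  haveI := Module.Finite.of_basis b
  obtain ⟨m, hm⟩ := hn
  obtain ⟨z, D, hz⟩ := exists_isDick (Q := Q) (m := m)
    (by rw [Module.finrank_eq_card_basis b, Fintype.card_fin, hm, two_mul]) hQ
  obtain ⟨ε, hε, hσ⟩ := hz.exists_idem hQ (autOf Q g hg).toAlgHom g
    (fun v => map_apply_ι _ _) b
  obtain ⟨u, hu⟩ := exists_inner b hQ hz (autOf Q g hg)
  have hdet := det_eq_one_sub_two_mul b ⟨m, hm⟩ g hg hz hσ u hu
  refine ⟨z, D, hz, ?_⟩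
  rcases eq_zero_or_one hε with rfl | rfl
  · left
    exact ⟨by simpa using hσ, by rw [hdet]; ring⟩
  · right
    refine ⟨?_, by rw [hdet]; ring⟩
    rw [show autOf Q g hg z = z + (1 : R) • (1 - 2 * z) from hσ, one_smul]
    noncomm_ring

include b in
lemma IsDick.ne_one_sub [Nontrivial R] (hz : IsDick Q z D) : z ≠ 1 - z := fun h => by
  refine hz.one_sub_ne b ?_
  rw [two_mul, ← sub_sub, ← h, sub_self]

include b in
/-- conjugation by an element of the naive Clifford group is an isometry -/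
lemma exists_isometry_of_mem_GPin' {u : (CliffordAlgebra Q)ˣ} (hu : u ∈ QuadGrp.GPin' Q) :
    ∃ g : M ≃ₗ[R] M, g ∈ QuadGrp.O Q ∧
      ∀ v, (u : CliffordAlgebra Q) * ι Q v * ↑u⁻¹ = ι Q (g v) := by
  have key : ∀ w ∈ QuadGrp.GPin' Q, ∀ v, ∃ v', (w : CliffordAlgebra Q) * ι Q v * ↑w⁻¹ = ι Q v' :=
    fun w hw v => by
    have : ConjAct.toConjAct w • ι Q v ∈ LinearMap.range (ι Q) := by
      rw [← (QuadGrp.mem_GPin' Q w).mp hw]
      exact Submodule.smul_mem_pointwise_smul _ _ _ ⟨v, rfl⟩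
    obtain ⟨v', hv'⟩ := this
    exact ⟨v', by rw [hv', ConjAct.units_smul_def, ConjAct.ofConjAct_toConjAct]⟩
  choose f hf using key u hu
  choose f' hf' using key u⁻¹ ((QuadGrp.GPin' Q).inv_mem hu)
  have hi := ι_injective b (Q := Q)
  let g : M ≃ₗ[R] M :=
    { toFun := f
      invFun := f'
      map_add' := fun x y => hi (by rw [map_add, ← hf, ← hf, ← hf, map_add, mul_add, add_mul])
      map_smul' := fun c x => hi (by
        rw [RingHom.id_apply, map_smul, ← hf, ← hf, map_smul, mul_smul_comm, smul_mul_assoc])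
      left_inv := fun x => hi (by rw [← hf', ← hf, inv_inv]; simp [mul_assoc])
      right_inv := fun x => hi (by rw [← hf, ← hf', inv_inv]; simp [mul_assoc]) }
  refine ⟨g, fun v => algebraMap_injective b Q ?_, hf⟩
  rw [← ι_sq_scalar, ← ι_sq_scalar, show g v = f v from rfl, ← hf, ι_sq_scalar]
  calc (u : CliffordAlgebra Q) * ι Q v * ↑u⁻¹ * (↑u * ι Q v * ↑u⁻¹)
      = ↑u * (ι Q v * ι Q v) * ↑u⁻¹ := by
        simp only [mul_assoc, Units.inv_mul_cancel_left]
    _ = _ := by rw [ι_sq_scalar, ← Algebra.commutes, mul_assoc, Units.mul_inv, mul_one]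

lemma intertwines {g : M ≃ₗ[R] M} (hg : g ∈ QuadGrp.O Q) {u : (CliffordAlgebra Q)ˣ}
    (h : ∀ v, (u : CliffordAlgebra Q) * ι Q v * ↑u⁻¹ = ι Q (g v)) (x : CliffordAlgebra Q) :
    autOf Q g hg x * u = u * x := by
  induction x using CliffordAlgebra.induction with
  | algebraMap r => rw [AlgEquiv.commutes, Algebra.commutes]
  | ι v =>
    rw [autOf_apply, map_apply_ι, QuadGrp.isometryOfMem_apply, ← h, mul_assoc, Units.inv_mul, mul_one]
  | mul a c ha hc => rw [map_mul, mul_assoc, hc, ← mul_assoc, ha, mul_assoc]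
  | add a c ha hc => rw [map_add, add_mul, ha, hc, mul_add]

lemma mem_GPin'_of_intertwines {g : M ≃ₗ[R] M} {u : (CliffordAlgebra Q)ˣ}
    (h : ∀ v, (u : CliffordAlgebra Q) * ι Q v * ↑u⁻¹ = ι Q (g v)) : u ∈ QuadGrp.GPin' Q := by
  rw [QuadGrp.mem_GPin']
  have hs : ∀ v, ConjAct.toConjAct u • ι Q v = ι Q (g v) := fun v => by
    rw [ConjAct.units_smul_def, ConjAct.ofConjAct_toConjAct, h]
  refine le_antisymm ?_ ?_
  · rintro _ ⟨_, ⟨v, rfl⟩, rfl⟩
    exact ⟨g v, (hs v).symm⟩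
  · rintro _ ⟨v, rfl⟩
    exact ⟨ι Q (g.symm v), ⟨_, rfl⟩, by
      change ConjAct.toConjAct u • ι Q (g.symm v) = _
      rw [hs, g.apply_symm_apply]⟩

include b in
/-- Isometries lift to the Clifford group over a local ring, evenly for trivial Dickson invariant. -/
lemma exists_lift [IsLocalRing R] (hn : Even n) (hn0 : 0 < n) (hQ : QuadGrp.IsRegular Q)
    (g : M ≃ₗ[R] M) (hg : g ∈ QuadGrp.O Q) :
    ∃ u : (CliffordAlgebra Q)ˣ, (∀ v, (u : CliffordAlgebra Q) * ι Q v * ↑u⁻¹ = ι Q (g v)) ∧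
      (g ∈ QuadGrp.SOeven Q → (u : CliffordAlgebra Q) ∈ evenOdd Q 0) := by
  obtain ⟨z, D, hz, h⟩ := exists_dichotomy b hn hQ g hg
  obtain ⟨u, hu⟩ := exists_inner b hQ hz (autOf Q g hg)
  refine ⟨u, fun v => ?_, fun hS => ?_⟩
  · rw [← hu, mul_assoc, Units.mul_inv, mul_one, autOf_apply, map_apply_ι, QuadGrp.isometryOfMem_apply]
  · obtain ⟨u₀, h₀, u₁, h₁, hsum⟩ := exists_parts (u : CliffordAlgebra Q)
    have hσ := (hz.mem_SOeven_iff b hQ hn0 hg).mp hS
    have := hz.smul_parts (ε := 0) (by rw [zero_smul, add_zero]; rw [← hu z, hσ]) h₀ h₁ hsum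
    rw [sub_zero, one_smul] at this
    rw [hsum, this.2, add_zero]
    exact h₀

include b in
lemma exists_isUnit_Q [IsLocalRing R] (hn : 0 < n) (hQ : QuadGrp.IsRegular Q) :
    ∃ v, IsUnit (Q v) := by
  by_contra! h
  have hmem : ∀ v, Q v ∈ maximalIdeal R := fun v => (mem_maximalIdeal _).mpr (h v)
  obtain ⟨f, hf⟩ := exists_polar_eq hQ (b.coord ⟨0, hn⟩)
  have h1 : QuadraticMap.polar Q f (b ⟨0, hn⟩) = 1 := by
    rw [← QuadraticMap.polarBilin_apply_apply, hf, Module.Basis.coord_apply,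
      Module.Basis.repr_self, Finsupp.single_eq_same]
  refine (maximalIdeal.isMaximal R).ne_top ((Ideal.eq_top_iff_one _).mpr ?_)
  rw [← h1]
  exact sub_mem (sub_mem (hmem _) (hmem _)) (hmem _)

include b in
/-- there is an isometry outside `SOeven` -/
lemma exists_not_mem_SOeven [IsLocalRing R] (hn : Even n) (hn0 : 0 < n) (hQ : QuadGrp.IsRegular Q) :
    ∃ g ∈ QuadGrp.O Q, g ∉ QuadGrp.SOeven Q := by
  haveI := Module.Free.of_basis b
  haveI := Module.Finite.of_basis b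
  obtain ⟨v, hv⟩ := exists_isUnit_Q b hn0 hQ
  let w : (CliffordAlgebra Q)ˣ :=
    ⟨ι Q v, (↑hv.unit⁻¹ : R) • ι Q v,
      by rw [mul_smul_comm, ι_sq_scalar, Algebra.smul_def, ← map_mul, hv.val_inv_mul, map_one],
      by rw [smul_mul_assoc, ι_sq_scalar, Algebra.smul_def, ← map_mul, hv.val_inv_mul, map_one]⟩
  have hw : w ∈ QuadGrp.GPin' Q := by
    have hc : ∀ x, ∃ y, (w : CliffordAlgebra Q) * ι Q x * ↑w⁻¹ = ι Q y := fun x => by
      refine ⟨((↑hv.unit⁻¹ : R) * QuadraticMap.polar Q v x) • v - x, ?_⟩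
      change ι Q v * ι Q x * ((↑hv.unit⁻¹ : R) • ι Q v) = _
      rw [eq_sub_of_add_eq (ι_mul_ι_add_swap (Q := Q) v x), mul_smul_comm, sub_mul, mul_assoc,
        ι_sq_scalar, smul_sub, ← Algebra.smul_def, smul_smul, ← Algebra.commutes, ← Algebra.smul_def,
        smul_smul, hv.val_inv_mul, one_smul, map_sub, map_smul]
    rw [QuadGrp.mem_GPin']
    refine le_antisymm ?_ ?_
    · rintro _ ⟨_, ⟨x, rfl⟩, rfl⟩
      obtain ⟨y, hy⟩ := hc x
      exact ⟨y, hy.symm⟩
    · rintro _ ⟨x, rfl⟩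
      obtain ⟨y, hy⟩ := hc x
      refine ⟨ι Q y, ⟨y, rfl⟩, ?_⟩
      change (w : CliffordAlgebra Q) * ι Q y * ↑w⁻¹ = ι Q x
      rw [← hy]
      have hww : (w : CliffordAlgebra Q) * w = algebraMap R _ (Q v) := ι_sq_scalar Q v
      calc (w : CliffordAlgebra Q) * (↑w * ι Q x * ↑w⁻¹) * ↑w⁻¹
          = (↑w * ↑w) * ι Q x * (↑w⁻¹ * ↑w⁻¹) := by simp only [mul_assoc]
        _ = ι Q x * (↑w * ↑w) * (↑w⁻¹ * ↑w⁻¹) := by rw [hww, Algebra.commutes]
        _ = ι Q x := by simp [mul_assoc]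
  obtain ⟨g, hg, hgv⟩ := exists_isometry_of_mem_GPin' b hw
  refine ⟨g, hg, fun hS => ?_⟩
  obtain ⟨z, D, hz, -⟩ := exists_dichotomy b hn hQ g hg
  have hσ := (hz.mem_SOeven_iff b hQ hn0 hg).mp hS
  have := intertwines hg hgv z
  rw [hσ] at this
  change z * ι Q v = ι Q v * z at this
  rw [hz.mul_ι] at this
  exact hz.ne_one_sub b (w.isUnit.mul_left_cancel this).symm

end Groth.Agent.H21Clif
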