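import Groth.Agent.H21Clif.HalfDisc
import Mathlib.LinearAlgebra.Matrix.Transvection
import Mathlib.RingTheory.Localization.Ideal
import Mathlib.RingTheory.Localization.Integer
import Mathlib.LinearAlgebra.Matrix.Trace

/-!
# Lifting isometries along square-zero ideals, in matrices
-/

universe u

namespace Groth.Agent.H21Clif

open Matrix

set_option linter.style.haveILetI false
set_option linter.unusedSectionVars false

variable {A : Type u} [CommRing A] {n : ℕ}

lemma ofMat_add (X Y : Matrix (Fin n) (Fin n) A) : ofMat (X + Y) = ofMat X + ofMat Y :=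
  funext fun p => Sym2.ind (fun i j => by
    simp only [Pi.add_apply, ofMat_mk, Matrix.add_apply]
    split_ifs <;> ring) p

lemma ofMat_neg (X : Matrix (Fin n) (Fin n) A) : ofMat (-X) = -ofMat X :=
  funext fun p => Sym2.ind (fun i j => by
    simp only [Pi.neg_apply, ofMat_mk, Matrix.neg_apply]
    split_ifs <;> ring) p

lemma ofMat_smul (c : A) (X : Matrix (Fin n) (Fin n) A) : ofMat (c • X) = c • ofMat X :=
  funext fun p => Sym2.ind (fun i j => by
    simp only [Pi.smul_apply, ofMat_mk, Matrix.smul_apply, smul_eq_mul]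
    split_ifs <;> ring) p

/-- upper triangular representative of a coefficient table -/
def upper (d : Sym2 (Fin n) → A) : Matrix (Fin n) (Fin n) A :=
  Matrix.of fun i j => if i ≤ j then d (Sym2.mk i j) else 0

lemma ofMat_upper (d : Sym2 (Fin n) → A) : ofMat (upper d) = d :=
  funext fun p => Sym2.ind (fun i j => by
    simp only [ofMat_mk, upper, Matrix.of_apply]
    rcases lt_trichotomy i j with h | rfl | h
    · rw [if_neg h.ne, if_pos h.le, if_neg (not_le.mpr h), add_zero]
    · simp
    · rw [if_neg h.ne', if_neg (not_le.mpr h), if_pos h.le, zero_add, Sym2.eq_swap]) p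

/-- congruence respects equality of coefficient tables -/
lemma ofMat_congr {X Y : Matrix (Fin n) (Fin n) A} (h : ofMat X = ofMat Y)
    (U : Matrix (Fin n) (Fin n) A) : ofMat (Uᵀ * X * U) = ofMat (Uᵀ * Y * U) := by
  have hq : (Matrix.toBilin' X).toQuadraticMap = (Matrix.toBilin' Y).toQuadraticMap := by
    refine QuadraticMap.ext fun x => ?_
    simp only [LinearMap.BilinMap.toQuadraticMap_apply, Matrix.toBilin'_apply]
    have hsum : ∀ Z : Matrix (Fin n) (Fin n) A, ∑ i, ∑ j, x i * Z i j * x j =
        ∑ i, ∑ j, if i < j then x i * (Z i j + Z j i) * x j else if i = j then x i * Z i i * x j else 0 :=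
      fun Z => by
      have h2 : ∑ i, ∑ j, (if j < i then x i * Z i j * x j else 0) =
          ∑ i, ∑ j, (if i < j then x i * Z j i * x j else 0) := by
        rw [Finset.sum_comm]
        refine Finset.sum_congr rfl fun i _ => Finset.sum_congr rfl fun j _ => ?_
        split_ifs <;> ring
      calc ∑ i, ∑ j, x i * Z i j * x j
          = ∑ i, ∑ j, ((if i < j then x i * Z i j * x j else 0) + (if i = j then x i * Z i j * x j else 0) +
              (if j < i then x i * Z i j * x j else 0)) := by
            refine Finset.sum_congr rfl fun i _ => Finset.sum_congr rfl fun j _ => ?_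
            rcases lt_trichotomy i j with h | rfl | h
            · simp [h, h.ne, not_lt.mpr h.le]
            · simp
            · simp [h, h.ne', not_lt.mpr h.le]
        _ = _ := by
            simp only [Finset.sum_add_distrib]
            rw [h2]
            simp only [← Finset.sum_add_distrib]
            refine Finset.sum_congr rfl fun i _ => Finset.sum_congr rfl fun j _ => ?_
            rcases lt_trichotomy i j with h | rfl | h
            · simp [h, h.ne, mul_add, add_mul]
            · simp
            · simp [h.ne', not_lt.mpr h.le]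
    rw [hsum X, hsum Y]
    refine Finset.sum_congr rfl fun i _ => Finset.sum_congr rfl fun j _ => ?_
    have hij := congrFun h (Sym2.mk i j)
    rw [ofMat_mk, ofMat_mk] at hij
    split_ifs with h1 h2
    · rw [if_neg h1.ne, if_neg h1.ne] at hij; rw [hij]
    · subst h2; rw [if_pos rfl, if_pos rfl] at hij; rw [hij]
    · rfl
  have key : ∀ Z : Matrix (Fin n) (Fin n) A,
      QuadGrp.coeffs (Pi.basisFun A (Fin n)) (LinearEquiv.refl A A)
        ((Matrix.toBilin' Z).toQuadraticMap.comp (Matrix.toLin' U)) = ofMat (Uᵀ * Z * U) := fun Z => by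
    rw [coeffs_eq_ofMat (Pi.basisFun A (Fin n)) _
      (β := LinearMap.BilinForm.comp (Matrix.toBilin' Z) (Matrix.toLin' U) (Matrix.toLin' U))
      (show (Matrix.toBilin' Z).toQuadraticMap.comp (Matrix.toLin' U) = _ from QuadraticMap.ext fun x => rfl), LinearMap.BilinForm.toMatrix_basisFun, ← Matrix.toBilin'_symm,
      Matrix.toBilin'_comp, LinearEquiv.symm_apply_apply]
  rw [← key X, ← key Y, hq]

lemma one_add_mul_one_add {J : Ideal A} (hJ : J * J = ⊥) {H H' : Matrix (Fin n) (Fin n) A}
    (hH : ∀ i j, H i j ∈ J) (hH' : ∀ i j, H' i j ∈ J) : (1 + H) * (1 + H') = 1 + (H + H') := by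
  have h0 : H * H' = 0 := by
    ext i j
    rw [Matrix.mul_apply, Matrix.zero_apply]
    refine Finset.sum_eq_zero fun k _ => ?_
    rw [← Ideal.mem_bot, ← hJ]
    exact Ideal.mul_mem_mul (hH i k) (hH' k j)
  rw [mul_add, add_mul, add_mul, h0, one_mul, one_mul, mul_one, add_zero]
  abel

lemma det_one_add {J : Ideal A} (hJ : J * J = ⊥) {H : Matrix (Fin n) (Fin n) A}
    (hH : ∀ i j, H i j ∈ J) : (1 + H).det = 1 + H.trace := by
  classical
  have hsingle : ∀ i j, (1 + Matrix.single i j (H i j)).det = 1 + (Matrix.single i j (H i j)).trace :=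
    fun i j => by
    by_cases hij : i = j
    · subst hij
      rw [Matrix.trace_single_eq_same,
        show (1 : Matrix (Fin n) (Fin n) A) + Matrix.single i i (H i i) =
          Matrix.diagonal fun k => if k = i then 1 + H i i else 1 by
        ext a c
        by_cases hac : a = c
        · subst hac; by_cases hai : a = i
          · subst hai; simp
          · simp [hai, Ne.symm hai]
        · have hne : ¬ (i = a ∧ i = c) := fun h => hac (h.1.symm.trans h.2)
          simp [hac, Matrix.single_apply, hne],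
        Matrix.det_diagonal, Finset.prod_ite_eq' Finset.univ i]
      simp
    · rw [Matrix.trace_single_eq_of_ne _ _ _ hij, add_zero]
      exact Matrix.det_transvection_of_ne i j hij _
  suffices key : ∀ s : Finset (Fin n × Fin n),
      (1 + ∑ p ∈ s, Matrix.single p.1 p.2 (H p.1 p.2)).det =
        1 + (∑ p ∈ s, Matrix.single p.1 p.2 (H p.1 p.2)).trace by
    have h := key Finset.univ
    rw [show (∑ p : Fin n × Fin n, Matrix.single p.1 p.2 (H p.1 p.2)) = H by
      rw [Fintype.sum_prod_type]; exact (Matrix.matrix_eq_sum_single H).symm] at h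
    exact h
  intro s
  have hmem : ∀ (s : Finset (Fin n × Fin n)) i j, (∑ p ∈ s, Matrix.single p.1 p.2 (H p.1 p.2)) i j ∈ J :=
    fun s i j => by
    rw [Matrix.sum_apply]
    refine Submodule.sum_mem _ fun p _ => ?_
    rw [Matrix.single_apply]
    split_ifs
    · exact hH _ _
    · exact J.zero_mem
  induction s using Finset.induction with
  | empty => simp
  | insert p s hp ih =>
    rw [Finset.sum_insert hp, ← one_add_mul_one_add hJ (H := Matrix.single p.1 p.2 (H p.1 p.2))
      (fun i j => by rw [Matrix.single_apply]; split_ifs; exacts [hH _ _, J.zero_mem]) (hmem s),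
      Matrix.det_mul, hsingle, ih, Matrix.trace_add]
    have h2 : (Matrix.single p.1 p.2 (H p.1 p.2)).trace * (∑ q ∈ s, Matrix.single q.1 q.2 (H q.1 q.2)).trace = 0 := by
      rw [← Ideal.mem_bot, ← hJ]
      exact Ideal.mul_mem_mul (Submodule.sum_mem _ fun i _ => by
          simp only [Matrix.diag_apply, Matrix.single_apply]; split_ifs; exacts [hH _ _, J.zero_mem])
        (Submodule.sum_mem _ fun i _ => hmem s i i)
    linear_combination h2

/-- first order expansion of a congruence -/
lemma ofMat_conj_one_add {J : Ideal A} (hJ : J * J = ⊥) (C G : Matrix (Fin n) (Fin n) A)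
    (hG : ∀ p, ofMat (Gᵀ * C * G) p - ofMat C p ∈ J) {H : Matrix (Fin n) (Fin n) A}
    (hH : ∀ i j, H i j ∈ J) :
    ofMat ((G * (1 + H))ᵀ * C * (G * (1 + H))) = ofMat (Gᵀ * C * G) + ofMat ((C + Cᵀ) * H) := by
  set E := Gᵀ * C * G with hE
  have hz : ∀ X Y : Matrix (Fin n) (Fin n) A, (∀ i j, X i j ∈ J) → (∀ i j, Y i j ∈ J) → X * Y = 0 :=
    fun X Y hX hY => by
    ext i j
    rw [Matrix.mul_apply, Matrix.zero_apply]
    refine Finset.sum_eq_zero fun k _ => ?_
    rw [← Ideal.mem_bot, ← hJ]
    exact Ideal.mul_mem_mul (hX i k) (hY k j)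
  have hexp : (G * (1 + H))ᵀ * C * (G * (1 + H)) = E + (Hᵀ * E + E * H) := by
    have h0 : Hᵀ * E * H = 0 := by
      rw [Matrix.mul_assoc]
      refine hz _ _ (fun i j => hH j i) fun i j => ?_
      rw [Matrix.mul_apply]
      exact Submodule.sum_mem _ fun k _ => J.mul_mem_left _ (hH k j)
    calc (G * (1 + H))ᵀ * C * (G * (1 + H)) = (1 + Hᵀ) * E * (1 + H) := by
          rw [hE, Matrix.transpose_mul, Matrix.transpose_add, Matrix.transpose_one]
          simp only [Matrix.mul_assoc]
      _ = E + (Hᵀ * E + E * H) + Hᵀ * E * H := by noncomm_ring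
      _ = _ := by rw [h0, add_zero]
  have hP : (E + Eᵀ) * H = (C + Cᵀ) * H := by
    refine sub_eq_zero.mp ?_
    rw [← Matrix.sub_mul]
    refine hz _ _ (fun i j => ?_) hH
    have h := hG (Sym2.mk i j)
    rw [ofMat_mk, ofMat_mk] at h
    simp only [Matrix.sub_apply, Matrix.add_apply, Matrix.transpose_apply]
    split_ifs at h with hij
    · subst hij
      have := J.mul_mem_left 2 h
      convert this using 1
      ring
    · convert h using 1
  rw [hexp, ofMat_add]
  congr 1
  rw [← hP]
  have hcomm : ∀ i j, (Hᵀ * E) i j = (Eᵀ * H) j i := fun i j => by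
    rw [← Matrix.transpose_apply (Eᵀ * H) i j, Matrix.transpose_mul, Matrix.transpose_transpose]
  refine funext fun p => Sym2.ind (fun i j => ?_) p
  rw [ofMat_mk, ofMat_mk, Matrix.add_mul]
  simp only [Matrix.add_apply, hcomm]
  split_ifs <;> ring

/-- block form: Gram matrices with the last vector orthogonal -/
lemma ofMat_add_corner {r : ℕ} (C : Matrix (Fin (r + 1)) (Fin (r + 1)) A) (c : A)
    (horth : ∀ i : Fin r, C i.castSucc (Fin.last r) + C (Fin.last r) i.castSucc = 0) :
    ofMat (C + Matrix.single (Fin.last r) (Fin.last r) c) =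
      ofMat (blk (C.submatrix Fin.castSucc Fin.castSucc) (C (Fin.last r) (Fin.last r) + c)) := by
  have e1 : ∀ k : Fin r, finSumFinEquiv.symm k.castSucc = Sum.inl k := fun k =>
    finSumFinEquiv_symm_apply_castAdd k
  have e2 : finSumFinEquiv.symm (Fin.last r) = Sum.inr (0 : Fin 1) := by
    rw [Equiv.symm_apply_eq]; rfl
  refine funext fun p => Sym2.ind (fun i j => ?_) p
  rw [ofMat_mk, ofMat_mk]
  induction i using Fin.lastCases with
  | last =>
    induction j using Fin.lastCases with
    | last => simp [blk, e2]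
    | cast j =>
      rw [if_neg (Fin.castSucc_lt_last j).ne', if_neg (Fin.castSucc_lt_last j).ne']
      have h := horth j
      simp [blk, e1, e2, (Fin.castSucc_lt_last j).ne, (Fin.castSucc_lt_last j).ne']
      linear_combination h
  | cast i =>
    induction j using Fin.lastCases with
    | last =>
      rw [if_neg (Fin.castSucc_lt_last i).ne, if_neg (Fin.castSucc_lt_last i).ne]
      have h := horth i
      simp [blk, e1, e2, (Fin.castSucc_lt_last i).ne, (Fin.castSucc_lt_last i).ne']
      linear_combination h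
    | cast j =>
      by_cases hij : i = j
      · subst hij
        simp [blk, e1, (Fin.castSucc_lt_last i).ne, (Fin.castSucc_lt_last i).ne']
      · simp [blk, e1, hij, (Fin.castSucc_lt_last i).ne', (Fin.castSucc_lt_last j).ne']

/-- lifting, orthogonal splitting coordinates -/
lemma exists_fix_orth {r : ℕ} (hr : Even r) {J : Ideal A} (hJ : J * J = ⊥)
    (C : Matrix (Fin (r + 1)) (Fin (r + 1)) A)
    (horth : ∀ i : Fin r, C i.castSucc (Fin.last r) + C (Fin.last r) i.castSucc = 0)
    (hP : IsUnit ((C + Cᵀ).submatrix Fin.castSucc Fin.castSucc).det)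
    (G : Matrix (Fin (r + 1)) (Fin (r + 1)) A) (hG : ∀ p, ofMat (Gᵀ * C * G) p - ofMat C p ∈ J)
    (hdet : G.det - 1 ∈ J) :
    ∃ G' : Matrix (Fin (r + 1)) (Fin (r + 1)) A, (∀ i j, G' i j - G i j ∈ J) ∧
      ofMat (G'ᵀ * C * G') = ofMat C ∧ G'.det = 1 := by
  let PW := (C + Cᵀ).submatrix Fin.castSucc Fin.castSucc
  let q := C (Fin.last r) (Fin.last r)
  let d : Sym2 (Fin (r + 1)) → A := ofMat (Gᵀ * C * G) - ofMat C
  let D := upper d
  have hD : ∀ i j, D i j ∈ J := fun i j => by
    simp only [D, upper, Matrix.of_apply]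
    split_ifs
    exacts [hG _, J.zero_mem]
  let Dtop : Matrix (Fin r) (Fin (r + 1)) A := D.submatrix Fin.castSucc id
  let Htop := -(PW⁻¹ * Dtop)
  let H : Matrix (Fin (r + 1)) (Fin (r + 1)) A :=
    Matrix.of fun i j => Fin.lastCases (motive := fun _ => A) 0 (fun k => Htop k j) i
  have hH : ∀ i j, H i j ∈ J := fun i j => by
    induction i using Fin.lastCases with
    | last => simp [H]
    | cast k =>
      simp only [H, Matrix.of_apply, Fin.lastCases_castSucc, Htop, Matrix.neg_apply, Matrix.mul_apply]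
      exact neg_mem (Submodule.sum_mem _ fun l _ => J.mul_mem_left _ (hD _ _))
  have hPH : ∀ i j, ((C + Cᵀ) * H) i j = if i = Fin.last r then 0 else -D i j := fun i j => by
    rw [Matrix.mul_apply, Fin.sum_univ_castSucc]
    induction i using Fin.lastCases with
    | last =>
      rw [if_pos rfl]
      simp only [Matrix.add_apply, Matrix.transpose_apply, H, Matrix.of_apply, Fin.lastCases_last, mul_zero,
        add_zero]
      refine Finset.sum_eq_zero fun l _ => ?_
      rw [add_comm, horth l, zero_mul]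
    | cast i =>
      rw [if_neg (Fin.castSucc_lt_last i).ne]
      simp only [H, Matrix.of_apply, Fin.lastCases_last, mul_zero, add_zero, Fin.lastCases_castSucc]
      have h := congrFun (congrFun (show PW * Htop = -Dtop by
        rw [Matrix.mul_neg, ← Matrix.mul_assoc, Matrix.mul_nonsing_inv _ hP, Matrix.one_mul]) i) j
      rw [Matrix.mul_apply] at h
      exact h
  set G₁ := G * (1 + H)
  set c := d (Sym2.mk (Fin.last r) (Fin.last r))
  have h1 : ofMat (G₁ᵀ * C * G₁) = ofMat (C + Matrix.single (Fin.last r) (Fin.last r) c) := by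
    rw [ofMat_conj_one_add hJ C G hG hH, ofMat_add,
      show (C + Cᵀ) * H = -D + Matrix.single (Fin.last r) (Fin.last r) c by
        ext i j
        rw [hPH, Matrix.add_apply, Matrix.neg_apply, Matrix.single_apply]
        by_cases hi : i = Fin.last r
        · subst hi
          rw [if_pos rfl]
          by_cases hj : j = Fin.last r
          · subst hj
            simp [D, upper, c]
          · have : ¬ Fin.last r ≤ j := fun hle => hj (Fin.last_le_iff.mp hle)
            simp [D, upper, this, Ne.symm hj]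
        · simp [hi, Ne.symm hi],
      ofMat_add, ofMat_neg, ofMat_upper]
    simp only [d]
    abel
  have hdetG₁ : G₁.det - 1 ∈ J := by
    rw [Matrix.det_mul, det_one_add hJ hH, mul_add, mul_one, add_sub_right_comm]
    exact add_mem hdet (J.mul_mem_left _ (Submodule.sum_mem _ fun i _ => hH i i))
  have hc : c = (G₁.det ^ 2 - 1) * q := by
    have h2 := hd_congr hr.add_one C G₁
    have e0 := ofMat_add_corner C 0 horth
    rw [Matrix.single_zero, add_zero, add_zero] at e0
    rw [h1, ofMat_add_corner C c horth, e0, hd_blk hr, hd_blk hr] at h2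
    refine hP.mul_right_cancel ?_
    rw [Matrix.submatrix_add, Matrix.transpose_submatrix] at *
    simp only [Pi.add_apply] at h2 ⊢
    linear_combination h2
  set x := G₁.det - 1 with hx
  let H₂ : Matrix (Fin (r + 1)) (Fin (r + 1)) A := Matrix.single (Fin.last r) (Fin.last r) (-x)
  have hH₂ : ∀ i j, H₂ i j ∈ J := fun i j => by
    simp only [H₂, Matrix.single_apply]
    split_ifs
    exacts [neg_mem hdetG₁, J.zero_mem]
  have hxx : x * x = 0 := by rw [← Ideal.mem_bot, ← hJ]; exact Ideal.mul_mem_mul hdetG₁ hdetG₁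
  have hG₁ : ∀ p, ofMat (G₁ᵀ * C * G₁) p - ofMat C p ∈ J := fun p => by
    rw [h1, ofMat_add, Pi.add_apply, add_sub_cancel_left]
    induction p using Sym2.ind with
    | h i j =>
      have hcJ : c ∈ J := hG _
      rw [ofMat_mk]
      simp only [Matrix.single_apply]
      split_ifs <;> first | exact hcJ | exact J.zero_mem | exact add_mem hcJ hcJ | simp [hcJ]
  refine ⟨G₁ * (1 + H₂), fun i j => ?_, ?_, ?_⟩
  · have e : G₁ * (1 + H₂) - G = G * H + G₁ * H₂ := by
      simp only [G₁]; noncomm_ring
    rw [← Matrix.sub_apply, e, Matrix.add_apply, Matrix.mul_apply, Matrix.mul_apply]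
    exact add_mem (Submodule.sum_mem _ fun k _ => J.mul_mem_left _ (hH k j))
      (Submodule.sum_mem _ fun k _ => J.mul_mem_left _ (hH₂ k j))
  · rw [ofMat_conj_one_add hJ C G₁ hG₁ hH₂, h1, ofMat_add, add_assoc, ← ofMat_add, add_eq_left]
    refine funext fun p => Sym2.ind (fun i j => ?_) p
    have hval : ∀ a b, ((C + Cᵀ) * H₂) a b =
        if b = Fin.last r then (C a (Fin.last r) + C (Fin.last r) a) * (-x) else 0 := fun a b => by
      by_cases hb : b = Fin.last r
      · subst hb; simp [H₂, Matrix.mul_single_apply_same]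
      · rw [if_neg hb]; exact Matrix.mul_single_apply_of_ne _ _ _ _ _ hb _
    have h2 : c + 2 * q * (-x) = 0 := by
      rw [hc]; linear_combination q * hxx
    rw [ofMat_mk, Pi.zero_apply]
    simp only [Matrix.add_apply, hval, Matrix.single_apply]
    induction i using Fin.lastCases with
    | last =>
      induction j using Fin.lastCases with
      | last => simp only [if_true, and_self, q] at h2 ⊢; linear_combination h2
      | cast j =>
        have h := horth j
        have hne := (Fin.castSucc_lt_last j).ne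
        simp [hne, Ne.symm hne]
        linear_combination x * h
    | cast i =>
      induction j using Fin.lastCases with
      | last =>
        have h := horth i
        have hne := (Fin.castSucc_lt_last i).ne
        simp [hne, Ne.symm hne]
        linear_combination x * h
      | cast j =>
        simp [(Fin.castSucc_lt_last i).ne, (Fin.castSucc_lt_last i).ne', (Fin.castSucc_lt_last j).ne]
  · rw [Matrix.det_mul, det_one_add hJ hH₂, Matrix.trace_single_eq_same]
    linear_combination (-(1 : A)) * hxx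

/-- lifting over a local ring -/
lemma exists_fix_local [IsLocalRing A] {r : ℕ} (hr : Even r) {J : Ideal A} (hJ : J * J = ⊥)
    (C : Matrix (Fin (r + 1)) (Fin (r + 1)) A) (hC : IsUnit (hd (ofMat C)))
    (G : Matrix (Fin (r + 1)) (Fin (r + 1)) A) (hG : ∀ p, ofMat (Gᵀ * C * G) p - ofMat C p ∈ J)
    (hdet : G.det - 1 ∈ J) :
    ∃ G' : Matrix (Fin (r + 1)) (Fin (r + 1)) A, (∀ i j, G' i j - G i j ∈ J) ∧
      ofMat (G'ᵀ * C * G') = ofMat C ∧ G'.det = 1 := by
  let β := Matrix.toBilin' C
  let bf := Pi.basisFun A (Fin (r + 1))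
  have hβ : LinearMap.BilinForm.toMatrix bf β = C := by
    rw [LinearMap.BilinForm.toMatrix_basisFun]; exact LinearMap.BilinForm.toMatrix'_toBilin' C
  obtain ⟨d, horth, -, hP⟩ := exists_orth_basis bf β.toQuadraticMap hr (by
    rw [QuadGrp.IsSemiregular, halfDisc_eq_hd, coeffs_eq_ofMat bf _ rfl, hβ]; exact hC)
  let U := bf.toMatrix d
  haveI := bf.invertibleToMatrix d
  have hU : IsUnit U.det := Matrix.isUnit_det_of_invertible (bf.toMatrix d)
  let C' := Uᵀ * C * U
  have hC' : C' = LinearMap.BilinForm.toMatrix d β := by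
    rw [← LinearMap.BilinForm.toMatrix_mul_basis_toMatrix bf d, hβ]
  have hpol : ∀ i j, C' i j + C' j i = QuadraticMap.polar β.toQuadraticMap (d i) (d j) := fun i j => by
    rw [hC', LinearMap.BilinForm.toMatrix_apply, LinearMap.BilinForm.toMatrix_apply,
      LinearMap.BilinMap.polar_toQuadraticMap]
  have hG' : ∀ p, ofMat ((U⁻¹ * G * U)ᵀ * C' * (U⁻¹ * G * U)) p - ofMat C' p ∈ J := fun p => by
    rw [show (U⁻¹ * G * U)ᵀ * C' * (U⁻¹ * G * U) = Uᵀ * (Gᵀ * C * G) * U by
      simp only [C', Matrix.transpose_mul, Matrix.transpose_nonsing_inv, Matrix.mul_assoc,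
        Matrix.nonsing_inv_mul_cancel_left Uᵀ _ (Matrix.isUnit_det_transpose U hU),
        Matrix.mul_nonsing_inv_cancel_left _ _ hU]]
    rw [← Ideal.Quotient.eq]
    have hq : ofMat ((Gᵀ * C * G).map (Ideal.Quotient.mk J)) = ofMat (C.map (Ideal.Quotient.mk J)) := by
      rw [← ofMat_map, ← ofMat_map]
      exact funext fun p => Ideal.Quotient.eq.mpr (hG p)
    have h := congrFun (ofMat_congr hq (U.map (Ideal.Quotient.mk J))) p
    simp only [← Matrix.transpose_map, ← Matrix.map_mul, ← ofMat_map, Function.comp_apply] at h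
    exact h
  have hdet' : (U⁻¹ * G * U).det - 1 ∈ J := by
    rw [Matrix.det_mul, Matrix.det_mul, mul_right_comm, ← Matrix.det_mul, Matrix.nonsing_inv_mul _ hU,
      Matrix.det_one, one_mul]
    exact hdet
  obtain ⟨X, hX, hXC, hXdet⟩ := exists_fix_orth hr hJ C' (fun i => by rw [hpol]; exact horth i)
    (by
      convert hP using 2
      ext i j
      simp [polarMat, ← hpol])
    (U⁻¹ * G * U) hG' hdet'
  refine ⟨U * X * U⁻¹, fun i j => ?_, ?_, ?_⟩
  · have e : U * X * U⁻¹ - G = U * (X - U⁻¹ * G * U) * U⁻¹ := by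
      rw [Matrix.mul_sub, Matrix.sub_mul]
      simp only [Matrix.mul_assoc, Matrix.mul_nonsing_inv _ hU, Matrix.mul_one,
        Matrix.mul_nonsing_inv_cancel_left _ _ hU]
    rw [← Matrix.sub_apply, e, Matrix.mul_apply]
    refine Submodule.sum_mem _ fun k _ => J.mul_mem_right _ ?_
    rw [Matrix.mul_apply]
    exact Submodule.sum_mem _ fun l _ => J.mul_mem_left _ (hX l k)
  · have h := ofMat_congr hXC U⁻¹
    rw [show U⁻¹ᵀ * C' * U⁻¹ = C by
        simp only [C', Matrix.transpose_nonsing_inv, Matrix.mul_assoc, Matrix.mul_nonsing_inv _ hU, Matrix.mul_one,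
          Matrix.nonsing_inv_mul_cancel_left Uᵀ _ (Matrix.isUnit_det_transpose U hU)]] at h
    rw [← h]
    congr 1
    simp only [C', Matrix.transpose_mul, Matrix.mul_assoc]
  · rw [Matrix.det_mul, Matrix.det_mul, mul_right_comm, ← Matrix.det_mul, Matrix.mul_nonsing_inv _ hU,
      Matrix.det_one, one_mul, hXdet]

/-- lifting to the naive special orthogonal group -/
theorem exists_fix_odd {r : ℕ} (hr : Even r) {J : Ideal A} (hJ : J * J = ⊥)
    (C : Matrix (Fin (r + 1)) (Fin (r + 1)) A) (hC : IsUnit (hd (ofMat C)))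
    (G : Matrix (Fin (r + 1)) (Fin (r + 1)) A) (hG : ∀ p, ofMat (Gᵀ * C * G) p - ofMat C p ∈ J)
    (hdet : G.det - 1 ∈ J) :
    ∃ G' : Matrix (Fin (r + 1)) (Fin (r + 1)) A, (∀ i j, G' i j - G i j ∈ J) ∧
      ofMat (G'ᵀ * C * G') = ofMat C ∧ G'.det = 1 := by
  have hzero : ∀ x ∈ J, (G.det - 1) * x = 0 := fun x hx => by
    rw [← Ideal.mem_bot, ← hJ]; exact Ideal.mul_mem_mul hdet hx
  let S : Ideal A :=
    { carrier := {s | ∃ H : Matrix (Fin (r + 1)) (Fin (r + 1)) A, (∀ i j, H i j ∈ J) ∧
        ofMat ((C + Cᵀ) * H) = s • (ofMat C - ofMat (Gᵀ * C * G)) ∧ H.trace = s * (1 - G.det)}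
      zero_mem' := ⟨0, fun _ _ => J.zero_mem, funext fun p => Sym2.ind (fun i j => by simp [ofMat_mk]) p, by simp⟩
      add_mem' := by
        rintro s t ⟨H, h1, h2, h3⟩ ⟨H', h1', h2', h3'⟩
        exact ⟨H + H', fun i j => add_mem (h1 i j) (h1' i j), by rw [Matrix.mul_add, ofMat_add, h2, h2', add_smul],
          by rw [Matrix.trace_add, h3, h3', add_mul]⟩
      smul_mem' := by
        rintro c s ⟨H, h1, h2, h3⟩
        exact ⟨c • H, fun i j => J.mul_mem_left c (h1 i j), by rw [Matrix.mul_smul, ofMat_smul, h2, smul_smul, smul_eq_mul],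
          by rw [Matrix.trace_smul, h3, smul_eq_mul, smul_eq_mul, mul_assoc]⟩ }
  have hS : (1 : A) ∈ S := by
    rw [← Ideal.eq_top_iff_one]
    by_contra hne
    obtain ⟨p, hp, hle⟩ := Ideal.exists_le_maximal S hne
    let φ := algebraMap A (Localization.AtPrime p)
    have hJ' : J.map φ * J.map φ = ⊥ := by rw [← Ideal.map_mul, hJ, Ideal.map_bot]
    have hof : ∀ X : Matrix (Fin (r + 1)) (Fin (r + 1)) A, ∀ q, ofMat (X.map φ) q = φ (ofMat X q) :=
      fun X q => (congrFun (ofMat_map φ X) q).symm
    obtain ⟨G', hG', hG'C, hG'det⟩ := exists_fix_local hr hJ' (C.map φ) (by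
        rw [← ofMat_map, ← map_hd]; exact hC.map φ) (G.map φ) (fun q => by
        rw [← Matrix.transpose_map, ← Matrix.map_mul, ← Matrix.map_mul, hof, hof, ← map_sub]
        exact Ideal.mem_map_of_mem φ (hG q))
      (by
        rw [← RingHom.mapMatrix_apply, ← RingHom.map_det, ← map_one φ, ← map_sub]
        exact Ideal.mem_map_of_mem φ hdet)
    -- back to `A`
    have hGu : IsUnit (G.map φ).det := by
      rw [← RingHom.mapMatrix_apply, ← RingHom.map_det]
      refine IsUnit.map φ ?_
      have hsq : (G.det - 1) * (G.det - 1) = 0 := hzero _ hdet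
      exact IsUnit.of_mul_eq_one (2 - G.det) (by linear_combination -hsq)
    let H' := (G.map φ)⁻¹ * (G' - G.map φ)
    have hH'mem : ∀ i j, H' i j ∈ J.map φ := fun i j => by
      simp only [H', Matrix.mul_apply]
      exact Submodule.sum_mem _ fun k _ => (J.map φ).mul_mem_left _ (hG' k j)
    have hG'eq : G' = G.map φ * (1 + H') := by
      simp only [H', Matrix.mul_add, Matrix.mul_one, Matrix.mul_nonsing_inv_cancel_left _ _ hGu, add_sub_cancel]
    choose a ha using fun ij : Fin (r + 1) × Fin (r + 1) =>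
      (IsLocalization.mem_map_algebraMap_iff p.primeCompl (Localization.AtPrime p)).mp (hH'mem ij.1 ij.2)
    let s := ∏ ij, ((a ij).2 : A)
    have hsp : s ∉ p := fun hmem => by
      obtain ⟨ij, -, h⟩ := (Ideal.IsPrime.prod_mem_iff (p := p)).mp hmem
      exact (a ij).2.2 h
    let H : Matrix (Fin (r + 1)) (Fin (r + 1)) A :=
      Matrix.of fun i j => ((a (i, j)).1 : A) * ∏ ij ∈ Finset.univ.erase (i, j), ((a ij).2 : A)
    have hH : ∀ i j, H i j ∈ J := fun i j => J.mul_mem_right _ (a (i, j)).1.2
    have hHφ : H.map φ = φ s • H' := by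
      ext i j
      simp only [H, Matrix.map_apply, Matrix.of_apply, Matrix.smul_apply, smul_eq_mul, map_mul, s]
      rw [show φ ((a (i, j)).1 : A) = H' i j * φ ((a (i, j)).2 : A) from (ha (i, j)).symm, ← Finset.mul_prod_erase Finset.univ _ (Finset.mem_univ (i, j)), map_mul]
      ring
    rw [hG'eq, ofMat_conj_one_add hJ' (C.map φ) (G.map φ) (fun q => by
      rw [← Matrix.transpose_map, ← Matrix.map_mul, ← Matrix.map_mul, hof, hof, ← map_sub]
      exact Ideal.mem_map_of_mem φ (hG q)) hH'mem] at hG'C
    rw [hG'eq, Matrix.det_mul, det_one_add hJ' hH'mem, ← RingHom.mapMatrix_apply, ← RingHom.map_det] at hG'det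
    have htr : H'.trace ∈ J.map φ := Submodule.sum_mem _ fun i _ => hH'mem i i
    have hz2 : (φ G.det - 1) * H'.trace = 0 := by
      rw [← Ideal.mem_bot, ← hJ']
      exact Ideal.mul_mem_mul (by rw [← map_one φ, ← map_sub]; exact Ideal.mem_map_of_mem φ hdet) htr
    have e1 : ∀ q, ∃ t ∈ p.primeCompl, t * ofMat ((C + Cᵀ) * H) q =
        t * (s * (ofMat C q - ofMat (Gᵀ * C * G) q)) := fun q => by
      obtain ⟨t, ht⟩ := (IsLocalization.eq_iff_exists p.primeCompl (Localization.AtPrime p)).mp
        (show φ (ofMat ((C + Cᵀ) * H) q) = φ (s * (ofMat C q - ofMat (Gᵀ * C * G) q)) by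
          rw [← hof, Matrix.map_mul, Matrix.map_add φ (map_add φ), Matrix.transpose_map, hHφ, Matrix.mul_smul,
            ofMat_smul, Pi.smul_apply, smul_eq_mul, map_mul, map_sub, ← hof, ← hof, Matrix.map_mul, Matrix.map_mul,
            Matrix.transpose_map]
          congr 1
          have := congrFun hG'C q
          rw [Pi.add_apply] at this
          linear_combination this)
      exact ⟨t, t.2, ht⟩
    obtain ⟨t', ht'⟩ := (IsLocalization.eq_iff_exists p.primeCompl (Localization.AtPrime p)).mp
      (show φ H.trace = φ (s * (1 - G.det)) by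
        rw [show φ H.trace = (H.map φ).trace from AddMonoidHom.map_trace φ.toAddMonoidHom H, hHφ, Matrix.trace_smul, smul_eq_mul,
          map_mul, map_sub, map_one]
        congr 1
        linear_combination hG'det - hz2)
    choose t ht hte using e1
    let T := (t' : A) * ∏ q, t q
    have hTp : T ∉ p := fun hmem => (Ideal.IsPrime.mem_or_mem hp.isPrime hmem).elim t'.2 fun h => by
      obtain ⟨q, -, hq⟩ := (Ideal.IsPrime.prod_mem_iff (p := p)).mp h
      exact ht q hq
    refine (Ideal.IsPrime.mem_or_mem hp.isPrime (hle (show T * s ∈ S from ⟨T • H, fun i j => J.mul_mem_left T (hH i j),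
      ?_, ?_⟩))).elim hTp hsp
    · rw [Matrix.mul_smul, ofMat_smul]
      refine funext fun q => ?_
      simp only [Pi.smul_apply, Pi.sub_apply, smul_eq_mul, T]
      rw [← Finset.mul_prod_erase Finset.univ _ (Finset.mem_univ q)]
      linear_combination ((t' : A) * ∏ x ∈ Finset.univ.erase q, t x) * hte q
    · rw [Matrix.trace_smul, smul_eq_mul]
      simp only [T]
      linear_combination (∏ q, t q) * ht'
  obtain ⟨H, hH, h2, h3⟩ := hS
  rw [one_smul] at h2
  rw [one_mul] at h3
  refine ⟨G * (1 + H), fun i j => ?_, ?_, ?_⟩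
  · rw [Matrix.mul_add, Matrix.mul_one, Matrix.add_apply, add_sub_cancel_left, Matrix.mul_apply]
    exact Submodule.sum_mem _ fun k _ => J.mul_mem_left _ (hH k j)
  · rw [ofMat_conj_one_add hJ C G hG hH, h2, add_sub_cancel]
  · rw [Matrix.det_mul, det_one_add hJ hH, h3]
    have := hzero _ hdet
    linear_combination -this

/-- lifting for an invertible polar matrix -/
theorem exists_fix_regular {J : Ideal A} (hJ : J * J = ⊥)
    (C : Matrix (Fin n) (Fin n) A) (hC : IsUnit (C + Cᵀ).det)
    (G : Matrix (Fin n) (Fin n) A) (hG : ∀ p, ofMat (Gᵀ * C * G) p - ofMat C p ∈ J) :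
    ∃ G' : Matrix (Fin n) (Fin n) A, (∀ i j, G' i j - G i j ∈ J) ∧ ofMat (G'ᵀ * C * G') = ofMat C := by
  let D := upper (ofMat C - ofMat (Gᵀ * C * G))
  have hD : ∀ i j, D i j ∈ J := fun i j => by
    simp only [D, upper, Matrix.of_apply, Pi.sub_apply]
    split_ifs
    · exact J.neg_mem_iff.mp (by rw [neg_sub]; exact hG _)
    · exact J.zero_mem
  let H := (C + Cᵀ)⁻¹ * D
  have hH : ∀ i j, H i j ∈ J := fun i j => by
    simp only [H, Matrix.mul_apply]
    exact Submodule.sum_mem _ fun k _ => J.mul_mem_left _ (hD k j)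
  refine ⟨G * (1 + H), fun i j => ?_, ?_⟩
  · rw [Matrix.mul_add, Matrix.mul_one, Matrix.add_apply, add_sub_cancel_left, Matrix.mul_apply]
    exact Submodule.sum_mem _ fun k _ => J.mul_mem_left _ (hH k j)
  · rw [ofMat_conj_one_add hJ C G hG hH, ← Matrix.mul_assoc, Matrix.mul_nonsing_inv _ hC, Matrix.one_mul,
      ofMat_upper, add_sub_cancel]

end Groth.Agent.H21Clif
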