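import Groth.Agent.H21Clif.SplitEven
import Mathlib.LinearAlgebra.Matrix.SchurComplement
import Mathlib.Data.Matrix.ColumnRowPartitioned

/-!
# Big cells of the special orthogonal group of the odd split form
-/

namespace Groth.Agent.H21Clif.SplitOdd

open Matrix SplitEven

set_option linter.unusedSectionVars false

variable {m : ℕ} {A : Type*} [CommRing A]

/-- index type -/
abbrev NO (m : ℕ) := N m ⊕ Unit

/-- nine blocks -/
def mk3 (P Q : Matrix (Fin m) (Fin m) A) (p : Matrix (Fin m) Unit A) (S T : Matrix (Fin m) (Fin m) A)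
    (s : Matrix (Fin m) Unit A) (a c : Matrix Unit (Fin m) A) (e : Matrix Unit Unit A) :
    Matrix (NO m) (NO m) A :=
  Matrix.fromBlocks (Matrix.fromBlocks P Q S T) (Matrix.fromRows p s) (Matrix.fromCols a c) e

lemma exists_mk3 (M : Matrix (NO m) (NO m) A) : ∃ P Q p S T s a c e, M = mk3 P Q p S T s a c e := by
  refine ⟨M.toBlocks₁₁.toBlocks₁₁, M.toBlocks₁₁.toBlocks₁₂, M.toBlocks₁₂.toRows₁, M.toBlocks₁₁.toBlocks₂₁,
    M.toBlocks₁₁.toBlocks₂₂, M.toBlocks₁₂.toRows₂, M.toBlocks₂₁.toCols₁, M.toBlocks₂₁.toCols₂, M.toBlocks₂₂, ?_⟩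
  rw [mk3, Matrix.fromBlocks_toBlocks, Matrix.fromRows_toRows, Matrix.fromCols_toCols, Matrix.fromBlocks_toBlocks]

lemma mk3_mul (P Q : Matrix (Fin m) (Fin m) A) (p : Matrix (Fin m) Unit A) (S T : Matrix (Fin m) (Fin m) A)
    (s : Matrix (Fin m) Unit A) (a c : Matrix Unit (Fin m) A) (e : Matrix Unit Unit A)
    (P' Q' : Matrix (Fin m) (Fin m) A) (p' : Matrix (Fin m) Unit A) (S' T' : Matrix (Fin m) (Fin m) A)
    (s' : Matrix (Fin m) Unit A) (a' c' : Matrix Unit (Fin m) A) (e' : Matrix Unit Unit A) :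
    mk3 P Q p S T s a c e * mk3 P' Q' p' S' T' s' a' c' e' =
      mk3 (P * P' + Q * S' + p * a') (P * Q' + Q * T' + p * c') (P * p' + Q * s' + p * e')
        (S * P' + T * S' + s * a') (S * Q' + T * T' + s * c') (S * p' + T * s' + s * e')
        (a * P' + c * S' + e * a') (a * Q' + c * T' + e * c') (a * p' + c * s' + e * e') := by
  ext x y
  rcases x with (i | i) | u <;> rcases y with (j | j) | v <;>
    simp [mk3, Matrix.mul_apply, Fintype.sum_sum_type]

/-- Gram matrix of the odd split form -/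
def JO (m : ℕ) (A : Type*) [CommRing A] : Matrix (NO m) (NO m) A := mk3 0 1 0 0 0 0 0 0 1

/-- orthogonality -/
def IsOrtho (M : Matrix (NO m) (NO m) A) : Prop := Alt (Mᵀ * JO m A * M - JO m A)

lemma IsOrtho.mul {M M' : Matrix (NO m) (NO m) A} (h : IsOrtho M) (h' : IsOrtho M') : IsOrtho (M * M') := by
  have e : (M * M')ᵀ * JO m A * (M * M') - JO m A =
      M'ᵀ * (Mᵀ * JO m A * M - JO m A) * M' + (M'ᵀ * JO m A * M' - JO m A) := by
    rw [Matrix.mul_sub, Matrix.sub_mul, Matrix.transpose_mul]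
    simp only [Matrix.mul_assoc]
    abel
  rw [IsOrtho, e]
  exact (h.conj M').add h'

lemma mk3_transpose (P Q : Matrix (Fin m) (Fin m) A) (p : Matrix (Fin m) Unit A) (S T : Matrix (Fin m) (Fin m) A)
    (s : Matrix (Fin m) Unit A) (a c : Matrix Unit (Fin m) A) (e : Matrix Unit Unit A) :
    (mk3 P Q p S T s a c e)ᵀ = mk3 Pᵀ Sᵀ aᵀ Qᵀ Tᵀ cᵀ pᵀ sᵀ eᵀ := by
  ext x y
  rcases x with (i | i) | u <;> rcases y with (j | j) | v <;> simp [mk3]

lemma mk3_inj {P Q : Matrix (Fin m) (Fin m) A} {p : Matrix (Fin m) Unit A} {S T : Matrix (Fin m) (Fin m) A}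
    {s : Matrix (Fin m) Unit A} {a c : Matrix Unit (Fin m) A} {e : Matrix Unit Unit A}
    {P' Q' : Matrix (Fin m) (Fin m) A} {p' : Matrix (Fin m) Unit A} {S' T' : Matrix (Fin m) (Fin m) A}
    {s' : Matrix (Fin m) Unit A} {a' c' : Matrix Unit (Fin m) A} {e' : Matrix Unit Unit A} :
    mk3 P Q p S T s a c e = mk3 P' Q' p' S' T' s' a' c' e' ↔
      P = P' ∧ Q = Q' ∧ p = p' ∧ S = S' ∧ T = T' ∧ s = s' ∧ a = a' ∧ c = c' ∧ e = e' := by
  simp only [mk3, Matrix.fromBlocks_inj, Matrix.fromRows_inj.eq_iff, Matrix.fromCols_inj.eq_iff]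
  tauto

lemma mk3_sub (P Q : Matrix (Fin m) (Fin m) A) (p : Matrix (Fin m) Unit A) (S T : Matrix (Fin m) (Fin m) A)
    (s : Matrix (Fin m) Unit A) (a c : Matrix Unit (Fin m) A) (e : Matrix Unit Unit A)
    (P' Q' : Matrix (Fin m) (Fin m) A) (p' : Matrix (Fin m) Unit A) (S' T' : Matrix (Fin m) (Fin m) A)
    (s' : Matrix (Fin m) Unit A) (a' c' : Matrix Unit (Fin m) A) (e' : Matrix Unit Unit A) :
    mk3 P Q p S T s a c e - mk3 P' Q' p' S' T' s' a' c' e' =
      mk3 (P - P') (Q - Q') (p - p') (S - S') (T - T') (s - s') (a - a') (c - c') (e - e') := by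
  ext x y
  rcases x with (i | i) | u <;> rcases y with (j | j) | v <;> simp [mk3]

lemma alt_mk3 {P Q : Matrix (Fin m) (Fin m) A} {p : Matrix (Fin m) Unit A} {S T : Matrix (Fin m) (Fin m) A}
    {s : Matrix (Fin m) Unit A} {a c : Matrix Unit (Fin m) A} {e : Matrix Unit Unit A} :
    Alt (mk3 P Q p S T s a c e) ↔
      Alt P ∧ Alt T ∧ e = 0 ∧ S = -Qᵀ ∧ a = -pᵀ ∧ c = -sᵀ := by
  constructor
  · rintro ⟨hd, ht⟩
    rw [mk3_transpose] at ht
    have hneg : -mk3 P Q p S T s a c e = mk3 (-P) (-Q) (-p) (-S) (-T) (-s) (-a) (-c) (-e) := by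
      ext x y; rcases x with (i | i) | u <;> rcases y with (j | j) | v <;> simp [mk3]
    rw [hneg, mk3_inj] at ht
    obtain ⟨hP, -, -, hS, hT, -, ha, hc, -⟩ := ht
    refine ⟨⟨fun i => by simpa [mk3] using hd (Sum.inl (Sum.inl i)), hP⟩,
      ⟨fun i => by simpa [mk3] using hd (Sum.inl (Sum.inr i)), hT⟩, ?_, ?_, ?_, ?_⟩
    · ext u v
      simpa [mk3] using hd (Sum.inr u)
    · rw [hS, neg_neg]
    · rw [ha, neg_neg]
    · rw [hc, neg_neg]
  · rintro ⟨hP, hT, rfl, rfl, rfl, rfl⟩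
    refine ⟨?_, ?_⟩
    · rintro ((i | i) | u) <;> simp [mk3, hP.1, hT.1]
    · ext x y
      rcases x with (i | i) | u <;> rcases y with (j | j) | v <;> simp [mk3]
      all_goals first
        | exact congrFun (congrFun hP.2 _) _
        | exact congrFun (congrFun hT.2 _) _

@[simp] lemma alt_zero {K : Type} [Fintype K] [DecidableEq K] : Alt (0 : Matrix K K A) :=
  ⟨fun _ => rfl, by simp⟩

lemma alt_transpose {K : Type} [Fintype K] [DecidableEq K] {X : Matrix K K A} (h : Alt X) : Alt Xᵀ := by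
  rw [h.2]; exact h.neg

lemma isOrtho_mk3 {P Q : Matrix (Fin m) (Fin m) A} {p : Matrix (Fin m) Unit A} {S T : Matrix (Fin m) (Fin m) A}
    {s : Matrix (Fin m) Unit A} {a c : Matrix Unit (Fin m) A} {e : Matrix Unit Unit A} :
    IsOrtho (mk3 P Q p S T s a c e) ↔
      Alt (Pᵀ * S + aᵀ * a) ∧ Alt (Qᵀ * T + cᵀ * c) ∧ pᵀ * s + eᵀ * e = 1 ∧
        Pᵀ * T + Sᵀ * Q + (2 : A) • (aᵀ * c) = 1 ∧ Pᵀ * s + Sᵀ * p + (2 : A) • (aᵀ * e) = 0 ∧
        Qᵀ * s + Tᵀ * p + (2 : A) • (cᵀ * e) = 0 := by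
  rw [IsOrtho, JO, mk3_transpose, mk3_mul, mk3_mul, mk3_sub, alt_mk3]
  simp only [Matrix.mul_zero, Matrix.mul_one, add_zero, zero_add, Matrix.zero_mul, sub_zero, two_smul]
  refine and_congr Iff.rfl (and_congr Iff.rfl (and_congr sub_eq_zero (and_congr ?_ (and_congr ?_ ?_))))
  · simp only [Matrix.transpose_sub, Matrix.transpose_add, Matrix.transpose_mul, Matrix.transpose_transpose,
      Matrix.transpose_one]
    constructor
    · intro h
      have h2 := congrArg Matrix.transpose h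
      simp only [Matrix.transpose_add, Matrix.transpose_mul, Matrix.transpose_transpose, Matrix.transpose_neg,
        Matrix.transpose_sub, Matrix.transpose_one] at h2
      rw [← sub_eq_zero] at h2 ⊢
      rw [← h2]; abel
    · intro h
      have h2 := congrArg Matrix.transpose h
      simp only [Matrix.transpose_add, Matrix.transpose_mul, Matrix.transpose_transpose, Matrix.transpose_one] at h2
      rw [← sub_eq_zero]
      rw [← sub_eq_zero] at h2
      rw [← h2]; abel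
  all_goals
    constructor
    · intro h
      have h2 := congrArg Matrix.transpose h
      simp only [Matrix.transpose_add, Matrix.transpose_mul, Matrix.transpose_transpose, Matrix.transpose_neg] at h2
      rw [← sub_eq_zero] at h2
      rw [← h2]; abel
    · intro h
      have h2 := congrArg Matrix.transpose h
      simp only [Matrix.transpose_add, Matrix.transpose_mul, Matrix.transpose_transpose, Matrix.transpose_zero] at h2
      simp only [Matrix.transpose_add, Matrix.transpose_mul, Matrix.transpose_transpose]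
      rw [← sub_eq_zero, ← h2]; abel

/-- lower unipotent -/
def Um (Y : Matrix (Fin m) (Fin m) A) (W : Matrix (Fin m) Unit A) : Matrix (NO m) (NO m) A :=
  mk3 1 0 0 Y 1 ((-2 : A) • W) Wᵀ 0 1

/-- upper unipotent -/
def Up (Z : Matrix (Fin m) (Fin m) A) (V : Matrix (Fin m) Unit A) : Matrix (NO m) (NO m) A :=
  mk3 1 Z ((-2 : A) • V) 0 1 0 0 Vᵀ 1

/-- Levi part -/
def Lv (P Pi : Matrix (Fin m) (Fin m) A) : Matrix (NO m) (NO m) A := mk3 P 0 0 0 Piᵀ 0 0 0 1

lemma isOrtho_Um {Y : Matrix (Fin m) (Fin m) A} {W : Matrix (Fin m) Unit A} (h : Alt (Y + W * Wᵀ)) :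
    IsOrtho (Um Y W) := by
  rw [Um, isOrtho_mk3]
  refine ⟨by simpa using h, by simp,
    by simp, by simp, ?_, by simp⟩
  simp only [Matrix.transpose_one, Matrix.one_mul, Matrix.mul_zero, add_zero, Matrix.transpose_transpose, Matrix.mul_one]
  rw [← add_smul, neg_add_cancel, zero_smul]

lemma isOrtho_Up {Z : Matrix (Fin m) (Fin m) A} {V : Matrix (Fin m) Unit A} (h : Alt (Z + V * Vᵀ)) :
    IsOrtho (Up Z V) := by
  rw [Up, isOrtho_mk3]
  refine ⟨by simp, ?_, by simp, by simp,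
    by simp, ?_⟩
  · have h2 := alt_transpose h
    simpa [Matrix.transpose_add, Matrix.transpose_mul] using h2
  · simp only [Matrix.mul_zero, zero_add, Matrix.transpose_one, Matrix.one_mul, Matrix.transpose_transpose, Matrix.mul_one]
    rw [← add_smul, neg_add_cancel, zero_smul]

lemma isOrtho_Lv {P Pi : Matrix (Fin m) (Fin m) A} (h : P * Pi = 1) : IsOrtho (Lv P Pi) := by
  rw [Lv, isOrtho_mk3]
  refine ⟨by simp, by simp, by simp, ?_, by simp, by simp⟩
  rw [← Matrix.transpose_mul, show Pi * P = 1 from mul_eq_one_comm.mp h]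
  simp

/-- the big cell -/
def buildO (P Pi Y0 : Matrix (Fin m) (Fin m) A) (W : Matrix (Fin m) Unit A) (Z0 : Matrix (Fin m) (Fin m) A)
    (V : Matrix (Fin m) Unit A) : Matrix (NO m) (NO m) A :=
  Um (Y0 - W * Wᵀ) W * Lv P Pi * Up (Z0 - V * Vᵀ) V

lemma isOrtho_buildO {P Pi Y0 Z0 : Matrix (Fin m) (Fin m) A} {W V : Matrix (Fin m) Unit A} (h : P * Pi = 1)
    (hY : Alt Y0) (hZ : Alt Z0) : IsOrtho (buildO P Pi Y0 W Z0 V) :=
  ((isOrtho_Um (by rwa [sub_add_cancel])).mul (isOrtho_Lv h)).mul (isOrtho_Up (by rwa [sub_add_cancel]))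

lemma det_mk3_triangle (P Q : Matrix (Fin m) (Fin m) A) (p : Matrix (Fin m) Unit A) (S T : Matrix (Fin m) (Fin m) A)
    (s : Matrix (Fin m) Unit A) (a c : Matrix Unit (Fin m) A) (e e' : Matrix Unit Unit A) (he : e' * e = 1) :
    (mk3 P Q p S T s a c e).det =
      e.det * (Matrix.fromBlocks (P - p * e' * a) (Q - p * e' * c) (S - s * e' * a) (T - s * e' * c)).det := by
  letI : Invertible e := ⟨e', he, mul_eq_one_comm.mp he⟩
  rw [mk3, Matrix.det_fromBlocks₂₂]
  congr 2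
  rw [show ⅟e = e' from rfl, Matrix.fromRows_mul, Matrix.fromRows_mul_fromCols]
  ext x y
  rcases x with i | i <;> rcases y with j | j <;> simp

lemma det_Um (Y : Matrix (Fin m) (Fin m) A) (W : Matrix (Fin m) Unit A) : (Um Y W).det = 1 := by
  rw [Um, det_mk3_triangle _ _ _ _ _ _ _ _ _ 1 (Matrix.one_mul 1)]
  simp

lemma det_Up (Z : Matrix (Fin m) (Fin m) A) (V : Matrix (Fin m) Unit A) : (Up Z V).det = 1 := by
  rw [Up, det_mk3_triangle _ _ _ _ _ _ _ _ _ 1 (Matrix.one_mul 1)]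
  simp

lemma det_Lv {P Pi : Matrix (Fin m) (Fin m) A} (h : P * Pi = 1) : (Lv P Pi).det = 1 := by
  rw [Lv, det_mk3_triangle _ _ _ _ _ _ _ _ _ 1 (Matrix.one_mul 1)]
  simp only [Matrix.det_one, one_mul, Matrix.zero_mul, Matrix.mul_zero, sub_zero]
  rw [Matrix.det_fromBlocks_zero₂₁, Matrix.det_transpose, ← Matrix.det_mul, h, Matrix.det_one]

lemma det_buildO {P Pi : Matrix (Fin m) (Fin m) A} (h : P * Pi = 1) (Y0 Z0 : Matrix (Fin m) (Fin m) A)
    (W V : Matrix (Fin m) Unit A) : (buildO P Pi Y0 W Z0 V).det = 1 := by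
  rw [buildO, Matrix.det_mul, Matrix.det_mul, det_Um, det_Lv h, det_Up, one_mul, one_mul]

/-- the corner of a matrix -/
def cor (M : Matrix (NO m) (NO m) A) : Matrix (Fin m) (Fin m) A :=
  Matrix.of fun i j => M (Sum.inl (Sum.inl i)) (Sum.inl (Sum.inl j))

lemma cor_mk3 (P Q : Matrix (Fin m) (Fin m) A) (p : Matrix (Fin m) Unit A) (S T : Matrix (Fin m) (Fin m) A)
    (s : Matrix (Fin m) Unit A) (a c : Matrix Unit (Fin m) A) (e : Matrix Unit Unit A) :
    cor (mk3 P Q p S T s a c e) = P := by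
  ext i j; simp [cor, mk3]

lemma cor_buildO (P Pi Y0 Z0 : Matrix (Fin m) (Fin m) A) (W V : Matrix (Fin m) Unit A) :
    cor (buildO P Pi Y0 W Z0 V) = P := by
  simp [buildO, Um, Lv, Up, mk3_mul, cor_mk3]

theorem exists_buildO_eq {M : Matrix (NO m) (NO m) A} (hM : IsOrtho M) (hdet : M.det = 1)
    {Pi : Matrix (Fin m) (Fin m) A} (hPi : cor M * Pi = 1) :
    ∃ Y0 W Z0 V, Alt Y0 ∧ Alt Z0 ∧ M = buildO (cor M) Pi Y0 W Z0 V := by
  obtain ⟨P, Q, p, S, T, s, a, c, e, rfl⟩ := exists_mk3 M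
  rw [cor_mk3] at hPi ⊢
  have hPi' : Pi * P = 1 := mul_eq_one_comm.mp hPi
  have hPP : Piᵀ * Pᵀ = 1 := by rw [← Matrix.transpose_mul, hPi, Matrix.transpose_one]
  obtain ⟨h1, -, -, -, -, -⟩ := isOrtho_mk3.mp hM
  let W : Matrix (Fin m) Unit A := (a * Pi)ᵀ
  let Y := S * Pi
  have hY0 : Alt (Y + W * Wᵀ) := by
    have := h1.conj Pi
    rwa [Matrix.mul_add, Matrix.add_mul, ← Matrix.mul_assoc Piᵀ Pᵀ, hPP, Matrix.one_mul,
      show Piᵀ * (aᵀ * a) * Pi = W * Wᵀ by
        simp only [W, Matrix.transpose_mul, Matrix.transpose_transpose, Matrix.mul_assoc]] at this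
  let Yi := -(Y + W * Wᵀ) - (-W) * (-W)ᵀ
  have hYi : IsOrtho (Um Yi (-W)) := isOrtho_Um (by rw [sub_add_cancel]; exact hY0.neg)
  have hinv : Um Y W * Um Yi (-W) = 1 := by
    rw [Um, Um, mk3_mul]
    have : mk3 (1 : Matrix (Fin m) (Fin m) A) 0 0 0 1 0 0 0 1 = 1 := by
      ext x y
      rcases x with (i | i) | u <;> rcases y with (j | j) | v <;> simp [mk3, Matrix.one_apply]
    rw [← this, mk3_inj]
    simp only [Matrix.mul_one, Matrix.one_mul, Matrix.mul_zero, Matrix.zero_mul, add_zero, zero_add, Yi,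
      Matrix.transpose_neg, Matrix.smul_mul, Matrix.mul_neg, Matrix.neg_mul, neg_neg, smul_neg, true_and, and_true]
    refine ⟨by simp, by simp, ?_, ?_, ?_, by simp⟩
    · simp only [neg_smul, two_smul, neg_neg]; abel
    · simp only [neg_smul, two_smul, neg_neg]; abel
    · exact add_neg_cancel _
  have hM1 := hYi.mul hM
  have hdet1 : (Um Yi (-W) * mk3 P Q p S T s a c e).det = 1 := by rw [Matrix.det_mul, det_Um, hdet, one_mul]
  have hS1 : Yi * P + S + (-2 : A) • (-W * a) = 0 := by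
    have e1 : Y * P = S := by rw [Matrix.mul_assoc, hPi', Matrix.mul_one]
    have e2 : W * Wᵀ * P = W * a := by
      simp only [W, Matrix.transpose_transpose, Matrix.mul_assoc, hPi', Matrix.mul_one]
    simp only [Yi, Matrix.transpose_neg, Matrix.neg_mul, Matrix.mul_neg, neg_neg, Matrix.sub_mul, Matrix.add_mul,
      smul_neg, neg_smul, two_smul]
    rw [e1, e2]
    abel
  have ha1 : (-W)ᵀ * P + a = 0 := by
    simp only [W, Matrix.transpose_neg, Matrix.transpose_transpose, Matrix.neg_mul, Matrix.mul_assoc, hPi',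
      Matrix.mul_one, neg_add_cancel]
  rw [Um, mk3_mul] at hM1 hdet1
  simp only [Matrix.one_mul, Matrix.zero_mul, add_zero, zero_add, Matrix.smul_mul, hS1, ha1] at hM1 hdet1
  set T1 := Yi * Q + T + (-2 : A) • (-W * c) with hT1
  set s1 := Yi * p + s + (-2 : A) • (-W * e) with hs1
  set c1 := (-W)ᵀ * Q + c with hc1
  set e1 := (-W)ᵀ * p + e with he1
  obtain ⟨-, k2, k3, k4, k5, k6⟩ := isOrtho_mk3.mp hM1
  simp only [Matrix.mul_zero, Matrix.zero_mul, add_zero, zero_add, Matrix.transpose_zero, smul_zero] at k2 k3 k4 k5 k6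
  have hT : T1 = Piᵀ := by rw [← Matrix.one_mul T1, ← hPP, Matrix.mul_assoc, k4, Matrix.mul_one]
  have hs : s1 = 0 := by rw [← Matrix.one_mul s1, ← hPP, Matrix.mul_assoc, k5, Matrix.mul_zero]
  rw [hs, Matrix.mul_zero, zero_add] at k3 k6
  have hee : e1 * e1 = 1 := by
    have : e1ᵀ = e1 := by ext u v; rfl
    rwa [this] at k3
  rw [det_mk3_triangle _ _ _ _ _ _ _ _ _ _ hee] at hdet1
  simp only [hs, hT, Matrix.mul_zero, Matrix.zero_mul, sub_zero, Matrix.det_fromBlocks_zero₂₁, Matrix.det_transpose,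
    ← Matrix.det_mul, hPi, Matrix.det_one, mul_one] at hdet1
  have he : e1 = 1 := by
    ext u v
    rw [Matrix.det_unique] at hdet1
    simpa using hdet1
  rw [he, Matrix.mul_one] at k6
  have hp : Pi * p = (-2 : A) • c1ᵀ := by
    rw [hT, Matrix.transpose_transpose] at k6
    rw [neg_smul, ← add_eq_zero_iff_eq_neg]
    exact k6
  have hZ0 : Alt (Pi * Q + c1ᵀ * c1ᵀᵀ) := by
    rw [hT] at k2
    have := alt_transpose k2
    rwa [Matrix.transpose_add, Matrix.transpose_mul, Matrix.transpose_transpose, Matrix.transpose_transpose,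
      Matrix.transpose_mul] at this
  refine ⟨Y + W * Wᵀ, W, Pi * Q + c1ᵀ * c1ᵀᵀ, c1ᵀ, hY0, hZ0, ?_⟩
  rw [buildO, add_sub_cancel_right, add_sub_cancel_right]
  have hM1eq : Um Yi (-W) * mk3 P Q p S T s a c e = Lv P Pi * Up (Pi * Q) c1ᵀ := by
    rw [Um, mk3_mul, Lv, Up, mk3_mul, mk3_inj]
    simp only [Matrix.one_mul, Matrix.zero_mul, Matrix.mul_zero, Matrix.mul_one, add_zero, zero_add, Matrix.smul_mul,
      Matrix.transpose_transpose]
    refine ⟨trivial, by rw [← Matrix.mul_assoc, hPi, Matrix.one_mul], ?_, hS1, by rw [← hT1, hT],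
      by rw [← hs1, hs], ha1, rfl, by rw [← he1, he]⟩
    rw [← hp, ← Matrix.mul_assoc, hPi, Matrix.one_mul]
  rw [Matrix.mul_assoc, ← hM1eq, ← Matrix.mul_assoc, hinv, Matrix.one_mul]

/-- determinant-one flips -/
def flipO (I : Finset (Fin m)) (A : Type*) [CommRing A] : Matrix (NO m) (NO m) A :=
  Matrix.fromBlocks ((1 : Matrix (N m) (N m) A).submatrix (SplitEven.flip I) id) 0 0 (sgn I A • 1)

lemma sgn_mul_self (I : Finset (Fin m)) : sgn I A * sgn I A = 1 := by
  rcases Int.units_eq_one_or (Equiv.Perm.sign (SplitEven.flip I)) with h | h <;> simp [sgn, h]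

lemma one_sub_mul (f : N m → N m) (X : Matrix (N m) (N m) A) :
    (1 : Matrix (N m) (N m) A).submatrix f id * X = X.submatrix f id := by
  ext x y
  simp [Matrix.mul_apply, Matrix.one_apply]

lemma flipO_mul_self (I : Finset (Fin m)) : flipO I A * flipO I A = 1 := by
  rw [flipO, Matrix.fromBlocks_multiply]
  simp only [Matrix.mul_zero, Matrix.zero_mul, add_zero, zero_add, Matrix.smul_mul, Matrix.mul_smul, Matrix.one_mul,
    smul_smul, sgn_mul_self, one_smul]
  simp only [smul_zero]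
  rw [one_sub_mul, flip_flip_submatrix, Matrix.fromBlocks_one]

lemma det_flipO (I : Finset (Fin m)) : (flipO I A).det = 1 := by
  rw [flipO, Matrix.det_fromBlocks_zero₂₁, det_flip, Matrix.det_one, mul_one, Matrix.det_smul,
    Fintype.card_unit, pow_one, Matrix.det_one, mul_one, sgn_mul_self]

lemma isOrtho_flipO (I : Finset (Fin m)) : IsOrtho (flipO I A) := by
  have h1 : IsOrth (1 : Matrix (N m) (N m) A) := by
    rw [IsOrth, Matrix.transpose_one, Matrix.one_mul, Matrix.mul_one, sub_self]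
    exact ⟨fun _ => rfl, by simp⟩
  have hJ : JO m A = Matrix.fromBlocks (J m A) 0 0 1 := by
    ext x y
    rcases x with (i | i) | u <;> rcases y with (j | j) | v <;> simp [JO, mk3, J]
  have e : (flipO I A)ᵀ * JO m A * flipO I A - JO m A = Matrix.fromBlocks
      (((1 : Matrix (N m) (N m) A).submatrix (SplitEven.flip I) id)ᵀ * J m A *
        (1 : Matrix (N m) (N m) A).submatrix (SplitEven.flip I) id - J m A) 0 0 0 := by
    rw [hJ, flipO, Matrix.fromBlocks_transpose, Matrix.fromBlocks_multiply, Matrix.fromBlocks_multiply,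
      sub_eq_add_neg, Matrix.fromBlocks_neg, Matrix.fromBlocks_add]
    simp only [Matrix.transpose_zero, Matrix.zero_mul, Matrix.mul_zero, add_zero, zero_add, neg_zero,
      Matrix.transpose_smul, Matrix.transpose_one, Matrix.smul_mul, Matrix.mul_smul, Matrix.one_mul, smul_smul,
      sgn_mul_self, one_smul, smul_zero, add_neg_cancel, ← sub_eq_add_neg]
  rw [IsOrtho, e]
  obtain ⟨a1, a2⟩ := h1.flip I
  refine ⟨?_, ?_⟩
  · rintro (x | u)
    · rw [Matrix.fromBlocks_apply₁₁]; exact a1 x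
    · rfl
  · rw [Matrix.fromBlocks_transpose, a2, Matrix.fromBlocks_neg]; simp

lemma flipO_mul_apply (I : Finset (Fin m)) (M : Matrix (NO m) (NO m) A) (x : N m) (y : NO m) :
    (flipO I A * M) (Sum.inl x) y = M (Sum.inl (SplitEven.flip I x)) y := by
  rw [flipO, Matrix.mul_apply, Fintype.sum_sum_type]
  simp [Matrix.one_apply]

lemma IsOrtho.isUnit_det_cases {M : Matrix (NO m) (NO m) A} (hM : IsOrtho M) {x : Fin m → A} :
    let v : NO m → A := Sum.elim (Sum.elim x 0) 0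
    ∀ P Q p S T s a c e, M = mk3 P Q p S T s a c e →
      (P *ᵥ x) ⬝ᵥ (S *ᵥ x) + (a *ᵥ x) () * (a *ᵥ x) () = 0 ∧
      ∀ y, (P *ᵥ y) ⬝ᵥ (S *ᵥ x) + (S *ᵥ y) ⬝ᵥ (P *ᵥ x) + 2 * ((a *ᵥ y) () * (a *ᵥ x) ()) = 0 ∧
        M *ᵥ v = Sum.elim (Sum.elim (P *ᵥ x) (S *ᵥ x)) (a *ᵥ x) := by
  intro v P Q p S T s a c e he
  subst he
  obtain ⟨h1, -, -, -, -, -⟩ := isOrtho_mk3.mp hM
  have key : ∀ y z, y ⬝ᵥ (Pᵀ * S + aᵀ * a) *ᵥ z = (P *ᵥ y) ⬝ᵥ (S *ᵥ z) + (a *ᵥ y) () * (a *ᵥ z) () := fun y z => by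
    rw [Matrix.add_mulVec, dotProduct_add, ← Matrix.mulVec_mulVec, ← Matrix.mulVec_mulVec,
      Matrix.dotProduct_mulVec, Matrix.vecMul_transpose, Matrix.dotProduct_mulVec y aᵀ, Matrix.vecMul_transpose]
    simp [dotProduct]
  obtain ⟨U, hU⟩ := h1.exists_sub
  have hU' : ∀ y z, z ⬝ᵥ Uᵀ *ᵥ y = y ⬝ᵥ U *ᵥ z := fun y z => by
    rw [Matrix.dotProduct_mulVec z Uᵀ, Matrix.vecMul_transpose, dotProduct_comm]
  have h0 : x ⬝ᵥ (Pᵀ * S + aᵀ * a) *ᵥ x = 0 := by
    rw [hU, Matrix.sub_mulVec, dotProduct_sub, hU', sub_self]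
  refine ⟨by rw [← key]; exact h0, fun y => ⟨?_, ?_⟩⟩
  · have h2 : y ⬝ᵥ (Pᵀ * S + aᵀ * a) *ᵥ x + x ⬝ᵥ (Pᵀ * S + aᵀ * a) *ᵥ y = 0 := by
      rw [hU, Matrix.sub_mulVec, Matrix.sub_mulVec, dotProduct_sub, dotProduct_sub, hU', hU']
      ring
    rw [key, key, dotProduct_comm (P *ᵥ x)] at h2
    linear_combination h2
  · funext z
    rcases z with (i | i) | u <;>
      simp [v, mk3, Matrix.mulVec, dotProduct, Fintype.sum_sum_type]

/-- over a field some flip makes the corner invertible -/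
theorem exists_flipO_isUnit {K : Type*} [Field K] {M : Matrix (NO m) (NO m) K} (hM : IsOrtho M)
    (hdet : M.det = 1) : ∃ I : Finset (Fin m), IsUnit (cor (flipO I K * M)).det := by
  classical
  obtain ⟨P, Q, p, S, T, s, a, c, e, he⟩ := exists_mk3 M
  obtain ⟨κ, b, hb, hsp, hli⟩ := exists_linearIndependent' K (fun i : Fin m => P i)
  haveI : Fintype κ := Fintype.ofInjective b hb
  let J₀ : Finset (Fin m) := Finset.univ.image b
  refine ⟨J₀ᶜ, ?_⟩
  rw [← Matrix.isUnit_iff_isUnit_det, ← Matrix.mulVec_injective_iff_isUnit]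
  refine (injective_iff_map_eq_zero ((cor (flipO J₀ᶜ K * M)).mulVecLin)).mpr fun x hx => ?_
  rw [Matrix.mulVecLin_apply] at hx
  have hrow : ∀ i, (if i ∈ J₀ then (P *ᵥ x) i else (S *ᵥ x) i) = 0 := fun i => by
    have := congrFun hx i
    rw [Pi.zero_apply] at this
    rw [← this]
    simp only [Matrix.mulVec, dotProduct, cor, Matrix.of_apply, flipO_mul_apply]
    subst he
    by_cases hi : i ∈ J₀ <;> simp [mk3, hi]
  have hP : P *ᵥ x = 0 := by
    funext i
    have hle : Submodule.span K (Set.range fun i : Fin m => P i) ≤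
        LinearMap.ker ((dotProductBilin K K).flip x) := by
      rw [← hsp, Submodule.span_le]
      rintro _ ⟨k, rfl⟩
      have := hrow (b k)
      rw [if_pos (Finset.mem_image_of_mem b (Finset.mem_univ k))] at this
      exact this
    exact hle (Submodule.subset_span ⟨i, rfl⟩)
  obtain ⟨h0, h1⟩ := hM.isUnit_det_cases (x := x) P Q p S T s a c e he
  rw [hP, zero_dotProduct, zero_add] at h0
  have ha : a *ᵥ x = 0 := by
    funext u
    exact mul_self_eq_zero.mp h0
  have hS : S *ᵥ x = 0 := by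
    funext i
    by_cases hi : i ∈ J₀
    · obtain ⟨k, -, rfl⟩ := Finset.mem_image.mp hi
      refine Fintype.linearIndependent_iff.mp hli (fun k => (S *ᵥ x) (b k)) ?_ k
      funext j
      have h5 := (h1 (Pi.single j 1)).1
      rw [hP, ha, dotProduct_zero, Pi.zero_apply, mul_zero, mul_zero, add_zero, add_zero, Matrix.mulVec_single_one,
        dotProduct] at h5
      rw [← Finset.sum_subset (Finset.subset_univ J₀) (fun i _ hi => by
        have := hrow i
        rw [if_neg hi] at this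
        rw [this, mul_zero]), Finset.sum_image hb.injOn] at h5
      simpa [Finset.sum_apply, mul_comm] using h5
    · have := hrow i
      rwa [if_neg hi] at this
  have hv := (h1 0).2
  rw [hP, hS, ha] at hv
  have hz : (Sum.elim (Sum.elim x 0) 0 : NO m → K) = 0 := by
    refine Matrix.eq_zero_of_mulVec_eq_zero (M := M) (by rw [hdet]; exact one_ne_zero) ?_
    rw [hv]
    funext z; rcases z with (i | i) | u <;> rfl
  funext i
  exact congrFun hz (Sum.inl (Sum.inl i))

lemma mk3_map {B : Type*} [CommRing B] (f : A →+* B) (P Q : Matrix (Fin m) (Fin m) A) (p : Matrix (Fin m) Unit A)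
    (S T : Matrix (Fin m) (Fin m) A) (s : Matrix (Fin m) Unit A) (a c : Matrix Unit (Fin m) A)
    (e : Matrix Unit Unit A) :
    (mk3 P Q p S T s a c e).map f =
      mk3 (P.map f) (Q.map f) (p.map f) (S.map f) (T.map f) (s.map f) (a.map f) (c.map f) (e.map f) := by
  ext x y
  rcases x with (i | i) | u <;> rcases y with (j | j) | v <;> simp [mk3]

lemma buildO_map {B : Type*} [CommRing B] (f : A →+* B) (P Pi Y0 Z0 : Matrix (Fin m) (Fin m) A)
    (W V : Matrix (Fin m) Unit A) :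
    (buildO P Pi Y0 W Z0 V).map f =
      buildO (P.map f) (Pi.map f) (Y0.map f) (W.map f) (Z0.map f) (V.map f) := by
  have h2 : ∀ X : Matrix (Fin m) Unit A, ((-2 : A) • X).map f = (-2 : B) • X.map f := fun X => by
    ext i j; simp [map_ofNat]
  simp only [buildO, Um, Lv, Up, Matrix.map_mul, mk3_map, h2, Matrix.map_sub _ (map_sub f), Matrix.transpose_map,
    Matrix.map_zero _ (map_zero f), Matrix.map_one _ (map_zero f) (map_one f)]

lemma flipO_map {B : Type*} [CommRing B] (f : A →+* B) (I : Finset (Fin m)) : (flipO I A).map f = flipO I B := by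
  ext x y
  rcases x with x | u <;> rcases y with y | v <;> simp [flipO, sgn, Matrix.one_apply, apply_ite f]

end Groth.Agent.H21Clif.SplitOdd
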