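import Groth.Agent.H21Clif.OddSO
import Groth.Agent.H21Clif.SplitOdd
import Groth.Agent.H21Clif.EvenConnected

/-!
# Connectedness of the geometric fibres of `SO(q)` in odd rank
-/

universe u

namespace Groth.Agent.H21Clif.OddConn

open TensorProduct Matrix SplitEven SplitOdd

set_option linter.style.haveILetI false
set_option linter.unusedSectionVars false
set_option synthInstance.maxHeartbeats 100000
set_option maxHeartbeats 1000000

variable {m : ℕ}

/-- the index identification -/
noncomputable def eO (m : ℕ) : NO m ≃ Fin (2 * m + 1) :=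
  Equiv.ofBijective (Sum.elim (Sum.elim iE iF) fun _ => 0) ((Fintype.bijective_iff_injective_and_card _).mpr
    ⟨by
      rintro ((i | i) | u) ((j | j) | v) h <;> simp [iE, iF, Fin.ext_iff] at h ⊢ <;> omega,
    by simp; omega⟩)

/-- block matrix of a point -/
noncomputable def mt {A : Type*} (x : Fin (2 * m + 1) × Fin (2 * m + 1) → A) : Matrix (NO m) (NO m) A :=
  Matrix.of fun a b => x (eO m a, eO m b)

/-- point of a block matrix -/
noncomputable def umt {A : Type*} (M : Matrix (NO m) (NO m) A) : Fin (2 * m + 1) × Fin (2 * m + 1) → A :=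
  fun p => M ((eO m).symm p.1) ((eO m).symm p.2)

lemma mt_umt {A : Type*} (M : Matrix (NO m) (NO m) A) : mt (umt M) = M := by
  ext a b; simp [mt, umt]

lemma umt_mt {A : Type*} (x : Fin (2 * m + 1) × Fin (2 * m + 1) → A) : umt (mt x) = x := by
  funext p; simp [mt, umt]

lemma comp_umt {A B : Type*} (f : A → B) (M : Matrix (NO m) (NO m) A) : f ∘ umt M = umt (M.map f) := rfl

section Conj

variable {A : Type*} [CommRing A]

/-- orthogonality for a Gram matrix -/
def OrthOfO (C' : Matrix (NO m) (NO m) A) (g : Matrix (NO m) (NO m) A) : Prop :=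
  Alt (gᵀ * C' * g - C') ∧ g.det = 1

lemma orthOfO_conj {C' G Gi M : Matrix (NO m) (NO m) A} (hD : Alt (Gᵀ * C' * G - JO m A)) (h : G * Gi = 1)
    (hM : IsOrtho M) (hMd : M.det = 1) : OrthOfO C' (G * M * Gi) := by
  refine ⟨?_, ?_⟩
  · have h2 : C' = Giᵀ * (Gᵀ * C' * G) * Gi := by
      rw [← Matrix.mul_assoc, ← Matrix.mul_assoc, ← Matrix.transpose_mul, h, Matrix.transpose_one, Matrix.one_mul,
        Matrix.mul_assoc, h, Matrix.mul_one]
    have e : (G * M * Gi)ᵀ * C' * (G * M * Gi) - C' =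
        Giᵀ * (Mᵀ * (Gᵀ * C' * G - JO m A) * M - (Gᵀ * C' * G - JO m A) + (Mᵀ * JO m A * M - JO m A)) * Gi := by
      conv_lhs => rw [show C' = Giᵀ * (Gᵀ * C' * G) * Gi from h2]
      rw [show (G * M * Gi)ᵀ * (Giᵀ * (Gᵀ * C' * G) * Gi) * (G * M * Gi) =
        Giᵀ * (Mᵀ * (Gᵀ * C' * G) * M) * Gi by
          rw [← h2]; simp only [Matrix.transpose_mul, Matrix.mul_assoc]]
      simp only [Matrix.mul_sub, Matrix.sub_mul, Matrix.mul_add, Matrix.add_mul]
      abel
    rw [e]
    exact ((hD.conj M).sub hD |>.add hM).conj Gi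
  · rw [Matrix.det_mul, Matrix.det_mul, hMd, mul_one, ← Matrix.det_mul, h, Matrix.det_one]

lemma isOrtho_conj {C' G g Gi : Matrix (NO m) (NO m) A} (hD : Alt (Gᵀ * C' * G - JO m A)) (h : G * Gi = 1)
    (hg : OrthOfO C' g) : IsOrtho (Gi * g * G) ∧ (Gi * g * G).det = 1 := by
  refine ⟨?_, ?_⟩
  · have hGM : G * (Gi * g * G) = g * G := by rw [← Matrix.mul_assoc, ← Matrix.mul_assoc, h, Matrix.one_mul]
    have h1 : (Gi * g * G)ᵀ * (Gᵀ * C' * G) * (Gi * g * G) = Gᵀ * (gᵀ * C' * g) * G := by
      rw [show (Gi * g * G)ᵀ * (Gᵀ * C' * G) * (Gi * g * G) = (G * (Gi * g * G))ᵀ * C' * (G * (Gi * g * G)) by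
        simp only [Matrix.transpose_mul, Matrix.mul_assoc], hGM]
      simp only [Matrix.transpose_mul, Matrix.mul_assoc]
    have e : (Gi * g * G)ᵀ * JO m A * (Gi * g * G) - JO m A = Gᵀ * (gᵀ * C' * g - C') * G -
        ((Gi * g * G)ᵀ * (Gᵀ * C' * G - JO m A) * (Gi * g * G) - (Gᵀ * C' * G - JO m A)) := by
      simp only [Matrix.mul_sub, Matrix.sub_mul, h1]
      abel
    rw [IsOrtho, e]
    exact (Alt.conj hg.1 G).sub ((hD.conj _).sub hD)
  · rw [Matrix.det_mul, Matrix.det_mul, hg.2, mul_one, ← Matrix.det_mul, mul_eq_one_comm.mp h, Matrix.det_one]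

end Conj

lemma sorth_sol_iff {R : Type u} [CommRing R] (C : Matrix (Fin (2 * m + 1)) (Fin (2 * m + 1)) R)
    (A : Type u) [CommRing A] [Algebra R A] (x : Fin (2 * m + 1) × Fin (2 * m + 1) → A) :
    (∀ k, (sorthEqs C).F A x k = 0) ↔ OrthOfO ((C.map (algebraMap R A)).submatrix (eO m) (eO m)) (mt x) := by
  rw [Sum.forall]
  refine and_congr ?_ ?_
  · simp only [sorthEqs_inl]
    rw [orthEqs_eq_zero_iff, ofMat_eq_iff, ← alt_submatrix_iff (eO m)]
    refine iff_of_eq (congrArg Alt ?_)
    ext a b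
    simp only [Matrix.submatrix_apply, Matrix.sub_apply, Matrix.mul_apply, Matrix.transpose_apply, Matrix.of_apply, mt]
    rw [← (eO m).sum_comp]
    refine congrArg (· - _) (Finset.sum_congr rfl fun c _ => ?_)
    rw [← (eO m).sum_comp]
  · simp only [sorthEqs_inr, sub_eq_zero, forall_const]
    rw [show (Matrix.of fun i j => x (i, j)).det = ((Matrix.of fun i j => x (i, j)).submatrix (eO m) (eO m)).det
      from (Matrix.det_submatrix_equiv_self _ _).symm]
    rfl

lemma exists_split_gram {K : Type u} [Field K] [IsAlgClosed K] {R : Type u} [CommRing R] [Algebra R K]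
    (Q : QuadraticForm R (Fin (2 * m + 1) → R))
    (hQ : QuadGrp.IsSemiregular (Pi.basisFun R (Fin (2 * m + 1))) (LinearEquiv.refl R R) Q) :
    ∃ G0 : Matrix (NO m) (NO m) K, IsUnit G0.det ∧
      Alt (G0ᵀ * ((OddSO.gramO Q).map (algebraMap R K)).submatrix (eO m) (eO m) * G0 - JO m K) := by
  classical
  let bR := Pi.basisFun R (Fin (2 * m + 1))
  let bA := Algebra.TensorProduct.basis K bR
  let CK := (OddSO.gramO Q).map (algebraMap R K)
  have hβ : (Matrix.toBilin bA CK).toQuadraticMap = QuadGrp.baseChangeForm K Q := by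
    refine ext_coeffs bA ?_
    rw [coeffs_baseChange, coeffs_eq_ofMat bA (Matrix.toBilin bA CK).toQuadraticMap rfl,
      LinearMap.BilinForm.toMatrix_toBilin]
    rfl
  have hQK : QuadGrp.IsSemiregular bA (LinearEquiv.refl K K) (QuadGrp.baseChangeForm K Q) := by
    rw [QuadGrp.IsSemiregular, halfDisc_eq_hd, coeffs_baseChange, ← ofMat_map, ← map_hd]
    exact (OddSO.isUnit_hd_gramO Q hQ).map _
  obtain ⟨x, hx⟩ := exists_block bA hQK
  obtain ⟨r, hr⟩ := IsAlgClosed.exists_eq_mul_self (QuadGrp.baseChangeForm K Q (x 0))⁻¹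
  have ht : ∀ i, ∃ t : K, QuadGrp.baseChangeForm K Q (x (iE i)) * (t * t) +
      QuadraticMap.polar (QuadGrp.baseChangeForm K Q) (x (iE i)) (x (iF i)) * t +
      QuadGrp.baseChangeForm K Q (x (iF i)) = 0 := fun i => by
    obtain ⟨t, ht⟩ := IsAlgClosed.exists_root
      (Polynomial.C (QuadGrp.baseChangeForm K Q (x (iE i))) * Polynomial.X ^ 2 +
        Polynomial.C (QuadraticMap.polar (QuadGrp.baseChangeForm K Q) (x (iE i)) (x (iF i))) * Polynomial.X +
        Polynomial.C (QuadGrp.baseChangeForm K Q (x (iF i))))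
      (by rw [Polynomial.degree_quadratic (hx.a i).ne_zero]; exact two_ne_zero)
    exact ⟨t, by simpa [sq] using ht⟩
  choose t ht using ht
  obtain ⟨d, hd⟩ := exists_isSplit_of_roots bA hx r (by rw [← hr]; exact inv_mul_cancel₀ hx.v.ne_zero) t ht
  let v : NO m → K ⊗[R] (Fin (2 * m + 1) → R) := fun a => d (eO m a)
  let G0 : Matrix (NO m) (NO m) K := (bA.toMatrix d).submatrix (eO m) (eO m)
  have hent : ∀ a c, (G0ᵀ * ((OddSO.gramO Q).map (algebraMap R K)).submatrix (eO m) (eO m) * G0) a c =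
      Matrix.toBilin bA CK (v a) (v c) := fun a c => by
    rw [Matrix.toBilin_apply, ← (eO m).sum_comp]
    simp only [Matrix.mul_apply, Matrix.transpose_apply, Matrix.submatrix_apply, Finset.sum_mul, G0,
      Module.Basis.toMatrix_apply]
    rw [Finset.sum_comm]
    refine Finset.sum_congr rfl fun r _ => ?_
    rw [← (eO m).sum_comp]
  have hQv : ∀ a, QuadGrp.baseChangeForm K Q (v a) = JO m K a a := by
    rintro ((i | i) | u)
    · exact (hd.e i).trans (by simp [JO, mk3])
    · exact (hd.f i).trans (by simp [JO, mk3])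
    · exact hd.v.trans (by simp [JO, mk3])
  have hpolv : ∀ a c, a ≠ c →
      QuadraticMap.polar (QuadGrp.baseChangeForm K Q) (v a) (v c) = (JO m K + (JO m K)ᵀ) a c := by
    have hne : ∀ a c : NO m, a ≠ c → eO m a ≠ eO m c := fun a c h h' => h ((eO m).injective h')
    have hpair : ∀ a c : NO m, Pair (eO m a) (eO m c) →
        ∃ i, (a = Sum.inl (Sum.inl i) ∧ c = Sum.inl (Sum.inr i)) ∨ (a = Sum.inl (Sum.inr i) ∧ c = Sum.inl (Sum.inl i)) := by
      rintro a c ⟨i, ⟨h1, h2⟩ | ⟨h1, h2⟩⟩
      · exact ⟨i, Or.inl ⟨(eO m).injective h1, (eO m).injective h2⟩⟩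
      · exact ⟨i, Or.inr ⟨(eO m).injective h1, (eO m).injective h2⟩⟩
    intro a c hac
    by_cases hp : Pair (eO m a) (eO m c)
    · obtain ⟨i, ⟨rfl, rfl⟩ | ⟨rfl, rfl⟩⟩ := hpair a c hp
      · exact (hd.p i).trans (by simp [JO, mk3])
      · exact ((QuadraticMap.polar_comm _ _ _).trans (hd.p i)).trans (by simp [JO, mk3])
    · rw [hd.zero _ _ (hne a c hac) hp]
      rcases a with (i | i) | u <;> rcases c with (j | j) | w
      all_goals
        first
          | (exfalso; exact hac (congrArg Sum.inr (Subsingleton.elim _ _)))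
          | (simp [JO, mk3, Matrix.one_apply]; done)
          | (have hij : i ≠ j := fun h => hp (h ▸ ⟨i, Or.inl ⟨rfl, rfl⟩⟩)
             simp [JO, mk3, Matrix.one_apply, hij, hij.symm])
          | (have hij : i ≠ j := fun h => hp (h ▸ ⟨i, Or.inr ⟨rfl, rfl⟩⟩)
             simp [JO, mk3, Matrix.one_apply, hij, hij.symm])
  refine ⟨G0, ?_, fun a => ?_, ?_⟩
  · haveI := bA.invertibleToMatrix d
    rw [Matrix.det_submatrix_equiv_self]
    exact Matrix.isUnit_det_of_invertible _
  · rw [Matrix.sub_apply, hent,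
      show Matrix.toBilin bA CK (v a) (v a) = (Matrix.toBilin bA CK).toQuadraticMap (v a) from rfl, hβ, hQv, sub_self]
  · ext a c
    simp only [Matrix.transpose_apply, Matrix.sub_apply, Matrix.neg_apply, hent]
    rcases eq_or_ne a c with rfl | hne
    · rw [show Matrix.toBilin bA CK (v a) (v a) = (Matrix.toBilin bA CK).toQuadraticMap (v a) from rfl, hβ, hQv]
      simp
    · have h := hpolv a c hne
      rw [← hβ, LinearMap.BilinMap.polar_toQuadraticMap, Matrix.add_apply, Matrix.transpose_apply] at h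
      linear_combination h

section Charts

variable (K : Type u) [Field K]

/-- parameters of a chart -/
abbrev Param (m : ℕ) := (Fin m × Fin m) ⊕ UT m ⊕ UT m ⊕ Fin m ⊕ Fin m

/-- denominator of a chart -/
noncomputable def den (m : ℕ) : MvPolynomial (Param m) K :=
  (Matrix.of fun i j => MvPolynomial.X (Sum.inl (i, j)) :
    Matrix (Fin m) (Fin m) (MvPolynomial (Param m) K)).det

/-- chart ring -/
abbrev W (m : ℕ) := Localization.Away (den K m)

/-- the parameter functions -/
noncomputable def par' (p : Param m) : W K m := algebraMap (MvPolynomial (Param m) K) _ (MvPolynomial.X p)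

/-- the universal corner -/
noncomputable def PW (m : ℕ) : Matrix (Fin m) (Fin m) (W K m) := Matrix.of fun i j => par' K (Sum.inl (i, j))

lemma isUnit_det_PW (m : ℕ) : IsUnit (PW K m).det := by
  have : (PW K m).det = algebraMap _ (W K m) (den K m) :=
    (RingHom.map_det (algebraMap _ (W K m)) _).symm
  rw [this]
  exact IsLocalization.Away.algebraMap_isUnit _

lemma den_ne_zero (m : ℕ) : den K m ≠ 0 := fun h => by
  have h2 := congrArg (MvPolynomial.aeval (R := K)
    (Sum.elim (fun p : Fin m × Fin m => if p.1 = p.2 then (1 : K) else 0) 0)) h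
  rw [den, AlgHom.map_det, map_zero] at h2
  rw [show AlgHom.mapMatrix _ (Matrix.of fun i j => MvPolynomial.X (Sum.inl (i, j))) =
    (1 : Matrix (Fin m) (Fin m) K) by ext i j; simp [Matrix.one_apply], Matrix.det_one] at h2
  exact one_ne_zero h2

instance isDomain_W (m : ℕ) : IsDomain (W K m) :=
  IsLocalization.isDomain_localization (powers_le_nonZeroDivisors_of_noZeroDivisors (den_ne_zero K m))

/-- universal point of a chart -/
noncomputable def MW (I : Finset (Fin m)) : Matrix (NO m) (NO m) (W K m) :=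
  flipO I _ * buildO (PW K m) (PW K m)⁻¹ (altOf fun p => par' K (Sum.inr (Sum.inl p)))
    (Matrix.of fun i _ => par' K (Sum.inr (Sum.inr (Sum.inr (Sum.inl i)))))
    (altOf fun p => par' K (Sum.inr (Sum.inr (Sum.inl p))))
    (Matrix.of fun i _ => par' K (Sum.inr (Sum.inr (Sum.inr (Sum.inr i)))))

lemma isOrtho_MW (I : Finset (Fin m)) : IsOrtho (MW K I) ∧ (MW K I).det = 1 :=
  ⟨(isOrtho_flipO I).mul (isOrtho_buildO (Matrix.mul_nonsing_inv _ (isUnit_det_PW K m)) (alt_altOf _) (alt_altOf _)),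
    by rw [MW, Matrix.det_mul, det_flipO, det_buildO (Matrix.mul_nonsing_inv _ (isUnit_det_PW K m)), one_mul]⟩

/-- every point with invertible corner comes from the chart -/
lemma exists_chart_point (I : Finset (Fin m)) {M : Matrix (NO m) (NO m) K} (hM : IsOrtho M) (hMd : M.det = 1)
    (hu : IsUnit (cor (flipO I K * M)).det) :
    ∃ χ : W K m →ₐ[K] K, (MW K I).map χ = M := by
  obtain ⟨Y, Wc, Z, V, hY, hZ, hb⟩ := exists_buildO_eq ((isOrtho_flipO I).mul hM)
    (by rw [Matrix.det_mul, det_flipO, hMd, one_mul]) (Matrix.mul_nonsing_inv _ hu)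
  set P := cor (flipO I K * M)
  let val : Param m → K := Sum.elim (fun p => P p.1 p.2) (Sum.elim (fun p => Y p.1.1 p.1.2)
    (Sum.elim (fun p => Z p.1.1 p.1.2) (Sum.elim (fun i => Wc i ()) fun i => V i ())))
  let χ₀ : MvPolynomial (Param m) K →ₐ[K] K := MvPolynomial.aeval val
  have h0 : IsUnit (χ₀ (den K m)) := by
    rw [den, AlgHom.map_det, show χ₀.mapMatrix (Matrix.of fun i j => MvPolynomial.X (Sum.inl (i, j))) = P by
      ext i j; simp [χ₀, val]]
    exact hu
  let χ : W K m →ₐ[K] K :=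
    IsLocalization.liftAlgHom (M := Submonoid.powers (den K m)) (S := W K m) (f := χ₀) (by
      rintro ⟨_, k, rfl⟩
      exact (map_pow χ₀ _ k) ▸ h0.pow k)
  have hχ : ∀ p, χ.toRingHom (par' K p) = val p := fun p =>
    (IsLocalization.lift_eq _ _).trans (MvPolynomial.aeval_X _ p)
  refine ⟨χ, ?_⟩
  have hP : (PW K m).map χ.toRingHom = P := by
    ext i j
    exact (hχ _).trans rfl
  have hPi : ((PW K m)⁻¹).map χ.toRingHom = P⁻¹ := by
    refine (Matrix.inv_eq_right_inv ?_).symm
    rw [← hP, ← Matrix.map_mul, Matrix.mul_nonsing_inv _ (isUnit_det_PW K m),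
      Matrix.map_one _ (map_zero χ.toRingHom) (map_one χ.toRingHom)]
  rw [show (MW K I).map χ = (MW K I).map χ.toRingHom from rfl]
  unfold MW
  rw [Matrix.map_mul, flipO_map, buildO_map, hP, hPi, altOf_map, altOf_map,
    show (χ.toRingHom ∘ fun p => par' K (Sum.inr (Sum.inl p))) = fun p : UT m => Y p.1.1 p.1.2 from
      funext fun p => (hχ _).trans rfl,
    show (χ.toRingHom ∘ fun p => par' K (Sum.inr (Sum.inr (Sum.inl p)))) = fun p : UT m => Z p.1.1 p.1.2 from
      funext fun p => (hχ _).trans rfl,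
    show (Matrix.of fun i (_ : Unit) => par' K (Sum.inr (Sum.inr (Sum.inr (Sum.inl i))))).map χ.toRingHom = Wc from
      Matrix.ext fun i u => (hχ _).trans rfl,
    show (Matrix.of fun i (_ : Unit) => par' K (Sum.inr (Sum.inr (Sum.inr (Sum.inr i))))).map χ.toRingHom = V from
      Matrix.ext fun i u => (hχ _).trans rfl,
    altOf_eq hY, altOf_eq hZ, ← hb, ← Matrix.mul_assoc, flipO_mul_self, Matrix.one_mul]

/-- neighbouring charts meet -/
lemma exists_common_point (I : Finset (Fin m)) (i : Fin m) :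
    ∃ M : Matrix (NO m) (NO m) K, IsOrtho M ∧ M.det = 1 ∧ IsUnit (cor (flipO I K * M)).det ∧
      IsUnit (cor (flipO (symmDiff I {i}) K * M)).det := by
  let w : Matrix (Fin m) Unit K := Matrix.of fun k _ => if k = i then 1 else 0
  let B := Um (-(w * wᵀ)) w
  have hB : IsOrtho B := isOrtho_Um (by rw [neg_add_cancel]; exact alt_zero)
  refine ⟨flipO I K * B, (isOrtho_flipO I).mul hB, by rw [Matrix.det_mul, det_flipO, det_Um, one_mul], ?_, ?_⟩
  · rw [← Matrix.mul_assoc, flipO_mul_self, Matrix.one_mul]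
    simp [B, Um, cor_mk3]
  · have hflip : ∀ a, SplitEven.flip I (SplitEven.flip (symmDiff I {i}) a) = SplitEven.flip {i} a := by
      rintro (k | k) <;> by_cases h1 : k ∈ I <;> by_cases h2 : k ∈ ({i} : Finset (Fin m)) <;>
        simp [Finset.mem_symmDiff, h1, h2]
    have e : cor (flipO (symmDiff I {i}) K * (flipO I K * B)) = Matrix.diagonal (fun k => if k = i then -1 else 1) := by
      ext k l
      simp only [cor, Matrix.of_apply, flipO_mul_apply, hflip]
      by_cases hk : k = i
      · subst hk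
        by_cases hl : l = k
        · subst hl; simp [B, Um, mk3, w, Matrix.mul_apply, Matrix.diagonal_apply]
        · simp [B, Um, mk3, w, Matrix.mul_apply, Matrix.diagonal_apply, hl, Ne.symm hl]
      · simp [B, Um, mk3, hk, Matrix.one_apply, Matrix.diagonal_apply]
    rw [e, Matrix.det_diagonal]
    refine isUnit_iff_ne_zero.mpr (Finset.prod_ne_zero_iff.mpr fun k _ => ?_)
    split_ifs <;> simp

end Charts

/-- functions invariant under changing one element are constant -/
lemma const_of_step {β : Type*} (v : Finset (Fin m) → β) (hstep : ∀ I, ∀ i : Fin m, v (symmDiff I {i}) = v I)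
    (I : Finset (Fin m)) : v I = v ∅ := by
  induction I using Finset.induction with
  | empty => rfl
  | insert a I ha ih =>
    rw [← ih, ← hstep I a]
    congr 1
    ext b
    simp only [Finset.mem_symmDiff, Finset.mem_insert, Finset.mem_singleton]
    rcases eq_or_ne b a with rfl | hb <;> simp [*]

set_option backward.isDefEq.respectTransparency false in
theorem connectedSpace_geomFibre {R : Type u} [CommRing R] (Q : QuadraticForm R (Fin (2 * m + 1) → R))
    (hQ : QuadGrp.IsSemiregular (Pi.basisFun R (Fin (2 * m + 1))) (LinearEquiv.refl R R) Q)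
    (K : Type u) [Field K] [IsAlgClosed K] [Algebra R K] :
    ConnectedSpace (PrimeSpectrum (K ⊗[R] (sorthEqs (OddSO.gramO Q)).H)) := by
  classical
  let C := OddSO.gramO Q
  let CK := (C.map (algebraMap R K)).submatrix (eO m) (eO m)
  obtain ⟨G0, hG0, hD⟩ := exists_split_gram (K := K) Q hQ
  have hGi := Matrix.mul_nonsing_inv G0 hG0
  let pt : Matrix (NO m) (NO m) K → Fin (2 * m + 1) × Fin (2 * m + 1) → K := fun M => umt (G0 * M * G0⁻¹)
  have hback : ∀ x, (∀ k, (sorthEqs C).F K x k = 0) → ∃ M, IsOrtho M ∧ M.det = 1 ∧ pt M = x := fun x hx => by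
    obtain ⟨h1, h2⟩ := isOrtho_conj hD hGi ((sorth_sol_iff C K x).mp hx)
    refine ⟨G0⁻¹ * mt x * G0, h1, h2, ?_⟩
    simp only [pt]
    rw [← Matrix.mul_assoc, ← Matrix.mul_assoc, hGi, Matrix.one_mul, Matrix.mul_assoc, hGi, Matrix.mul_one, umt_mt]
  let cK : K →+* W K m := algebraMap K (W K m)
  let xW : Finset (Fin m) → Fin (2 * m + 1) × Fin (2 * m + 1) → W K m := fun I =>
    umt (G0.map cK * MW K I * G0⁻¹.map cK)
  have hxW : ∀ I, ∀ k, (sorthEqs C).F (W K m) (xW I) k = 0 := fun I => by
    rw [sorth_sol_iff, mt_umt]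
    have hC : (C.map (algebraMap R (W K m))).submatrix (eO m) (eO m) = CK.map cK := by
      ext a c
      simp [CK, cK, ← IsScalarTower.algebraMap_apply]
    have hJ : JO m (W K m) = (JO m K).map cK := by
      simp [JO, mk3_map, Matrix.map_zero _ (map_zero cK), Matrix.map_one _ (map_zero cK) (map_one cK)]
    rw [hC]
    refine orthOfO_conj ?_ ?_ (isOrtho_MW K I).1 (isOrtho_MW K I).2
    · rw [hJ, ← Matrix.transpose_map, ← Matrix.map_mul, ← Matrix.map_mul, ← Matrix.map_sub _ (map_sub cK)]
      exact ⟨fun a => by rw [Matrix.map_apply, hD.1 a, map_zero],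
        by rw [← Matrix.transpose_map, hD.2]; ext a c; simp [CK, C]⟩
    · rw [← Matrix.map_mul, hGi, Matrix.map_one _ (map_zero cK) (map_one cK)]
  have hχ : ∀ I M, IsOrtho M → M.det = 1 → IsUnit (cor (flipO I K * M)).det →
      ∃ χ : W K m →ₐ[K] K, χ ∘ xW I = pt M := fun I M hM hMd hu => by
    obtain ⟨χ, hc⟩ := exists_chart_point K I hM hMd hu
    refine ⟨χ, ?_⟩
    rw [comp_umt]
    change umt ((G0.map cK * MW K I * G0⁻¹.map cK).map χ.toRingHom) = umt (G0 * M * G0⁻¹)
    rw [Matrix.map_mul, Matrix.map_mul, Matrix.map_map, Matrix.map_map,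
      show (MW K I).map χ.toRingHom = M from hc]
    congr 2
    · congr 1; ext a c; simp [cK]
    · ext a c; simp [cK]
  let E := sorthEqs C
  have hext : ∀ (A : Type u) [CommRing A] [Algebra K A] [Algebra R A] [IsScalarTower R K A]
      (f f' : (K ⊗[R] E.H) →ₐ[K] A), (∀ p, f (1 ⊗ₜ E.univ p) = f' (1 ⊗ₜ E.univ p)) → f = f' :=
    fun A _ _ _ _ f f' h => by
      refine Algebra.TensorProduct.ext (Subsingleton.elim _ _) ?_
      exact E.hom_ext (funext fun p => h p)
  have hhom : ∀ (A : Type u) [CommRing A] [Algebra K A] [Algebra R A] [IsScalarTower R K A]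
      (x : Fin (2 * m + 1) × Fin (2 * m + 1) → A), (∀ k, E.F A x k = 0) →
      ∃ f : (K ⊗[R] E.H) →ₐ[K] A, ∀ p, f (1 ⊗ₜ E.univ p) = x p := fun A _ _ _ _ x hx => by
    obtain ⟨φ, hφ⟩ := E.exists_hom x hx
    exact ⟨Algebra.TensorProduct.lift (Algebra.ofId K A) φ fun _ _ => Commute.all _ _, fun p => by
      rw [Algebra.TensorProduct.lift_tmul, map_one, _root_.one_mul]
      exact congrFun hφ p⟩
  choose Φ hΦ using fun I : Finset (Fin m) => hhom (W K m) (xW I) (hxW I)
  have hpoint : ∀ y : (K ⊗[R] E.H) →ₐ[K] K, ∃ (I : Finset (Fin m)) (χ : W K m →ₐ[K] K), y = χ.comp (Φ I) :=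
    fun y => by
      let x : Fin (2 * m + 1) × Fin (2 * m + 1) → K := fun p => y (1 ⊗ₜ E.univ p)
      have hx : ∀ k, E.F K x k = 0 :=
        E.sol_map ((y.restrictScalars R).comp Algebra.TensorProduct.includeRight) E.univ_spec
      obtain ⟨M, hM, hMd, hMx⟩ := hback x hx
      obtain ⟨I, hI⟩ := exists_flipO_isUnit hM hMd
      obtain ⟨χ, hc⟩ := hχ I M hM hMd hI
      refine ⟨I, χ, hext K _ _ fun p => ?_⟩
      rw [AlgHom.comp_apply, hΦ, show χ (xW I p) = pt M p from congrFun hc p, hMx]
  haveI : Algebra.FinitePresentation R E.H := E.finitePresentation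
  haveI : Algebra.FiniteType K (K ⊗[R] E.H) := inferInstance
  have htriv : ∀ a : K ⊗[R] E.H, IsIdempotentElem a → a = 0 ∨ a = 1 := fun a ha => by
    let va : Finset (Fin m) → W K m := fun I => Φ I a
    have hva : ∀ I, va I = 0 ∨ va I = 1 := fun I => IsIdempotentElem.iff_eq_zero_or_one.mp (ha.map (Φ I))
    have hpar := const_of_step va fun I i => by
      obtain ⟨M, hM, hMd, a1, a2⟩ := exists_common_point K I i
      obtain ⟨χ, hc⟩ := hχ _ M hM hMd a1
      obtain ⟨χ', hc'⟩ := hχ _ M hM hMd a2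
      have heq : χ.comp (Φ I) = χ'.comp (Φ (symmDiff I {i})) := hext K _ _ fun p => by
        rw [AlgHom.comp_apply, AlgHom.comp_apply, hΦ, hΦ, show χ (xW I p) = _ from congrFun hc p,
          show χ' (xW (symmDiff I {i}) p) = _ from congrFun hc' p]
      have hval : χ (va I) = χ' (va (symmDiff I {i})) := AlgHom.congr_fun heq a
      rcases hva I with h | h <;> rcases hva (symmDiff I {i}) with h' | h' <;> simp [h, h'] at hval ⊢
    obtain ⟨c, hc01, hc⟩ : ∃ c : K, (c = 0 ∨ c = 1) ∧ ∀ y : (K ⊗[R] E.H) →ₐ[K] K, y a = c := by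
      rcases hva ∅ with h | h
      · exact ⟨0, Or.inl rfl, fun y => by
          obtain ⟨I, χ, rfl⟩ := hpoint y
          change χ (va I) = 0
          rw [hpar I, h, map_zero]⟩
      · exact ⟨1, Or.inr rfl, fun y => by
          obtain ⟨I, χ, rfl⟩ := hpoint y
          change χ (va I) = 1
          rw [hpar I, h, map_one]⟩
    exact EvenConn.eq_zero_or_one_of_points K (S := K ⊗[R] E.H) ha c hc01 hc
  refine @ConnectedSpace.mk _ _ (preconnectedSpace_iff_clopen.mpr fun s hs => ?_) ?_
  · obtain ⟨e, he, rfl⟩ := PrimeSpectrum.exists_idempotent_basicOpen_eq_of_isClopen hs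
    rcases htriv e he with rfl | rfl <;> simp
  · have h1 : IsOrtho (1 : Matrix (NO m) (NO m) K) := by
      rw [IsOrtho, Matrix.transpose_one, Matrix.one_mul, Matrix.mul_one, sub_self]; exact alt_zero
    obtain ⟨f, -⟩ := hhom K (pt 1) (by
      rw [sorth_sol_iff, mt_umt]; exact orthOfO_conj hD hGi h1 Matrix.det_one)
    exact ⟨⟨RingHom.ker f.toRingHom, RingHom.ker_isPrime _⟩⟩

end Groth.Agent.H21Clif.OddConn

namespace Groth.Agent.H21Clif.OddConn

open CategoryTheory CategoryTheory.Limits AlgebraicGeometry TensorProduct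

set_option synthInstance.maxHeartbeats 100000
set_option maxHeartbeats 1000000
set_option linter.style.haveILetI false

set_option backward.isDefEq.respectTransparency false in
theorem connectedSpace_fiber {R : Type u} [CommRing R] {m : ℕ}
    (Q : QuadraticForm R (Fin (2 * m + 1) → R))
    (hQ : QuadGrp.IsSemiregular (Pi.basisFun R (Fin (2 * m + 1))) (LinearEquiv.refl R R) Q)
    (G : Over (Spec (CommRingCat.of R))) [GrpObj G] (D : QuadGrp.SOrthRep Q G) (s : ↥(Spec (CommRingCat.of R))) :
    ConnectedSpace ↥(G.hom.fiber s) := by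
  obtain ⟨ξ, hξ⟩ := OddSO.exists_model Q hQ G D
  haveI : IsIso ξ.left := inferInstanceAs (IsIso ((Over.forget _).map ξ))
  let p : Ideal R := (show PrimeSpectrum R from s).asIdeal
  let K := AlgebraicClosure p.ResidueField
  letI : Algebra R K := ((algebraMap p.ResidueField K).comp (algebraMap R p.ResidueField)).toAlgebra
  let H := (sorthEqs (OddSO.gramO Q)).H
  let a : Spec (CommRingCat.of K) ⟶ Spec (CommRingCat.of R) := Spec.map (CommRingCat.ofHom (algebraMap R K))
  let q : Spec (CommRingCat.of H) ⟶ Spec (CommRingCat.of R) := Spec.map (CommRingCat.ofHom (algebraMap R H))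
  haveI : ConnectedSpace ↥(Spec (CommRingCat.of (K ⊗[R] H))) := connectedSpace_geomFibre Q hQ K
  haveI : ConnectedSpace ↥(pullback a q) :=
    (pullbackSpecIso R K H).inv.surjective.connectedSpace (pullbackSpecIso R K H).inv.continuous
  have hrange : Set.range a.base = {s} := by
    haveI : Subsingleton ↥(Spec (CommRingCat.of K)) := inferInstanceAs (Subsingleton (PrimeSpectrum K))
    have h0 : ∀ x, a.base x = s := fun x => PrimeSpectrum.ext (by
      change Ideal.comap (algebraMap R K) (show PrimeSpectrum K from x).asIdeal = p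
      rw [(Ideal.eq_bot_or_top (show PrimeSpectrum K from x).asIdeal).resolve_right
        (show PrimeSpectrum K from x).isPrime.ne_top]
      ext r
      rw [Ideal.mem_comap, Ideal.mem_bot, RingHom.algebraMap_toAlgebra, RingHom.comp_apply, map_eq_zero,
        Ideal.algebraMap_residueField_eq_zero])
    ext y
    exact ⟨fun ⟨x, hx⟩ => hx.symm.trans (h0 x), fun hy => ⟨(⟨⊥, Ideal.isPrime_bot⟩ : PrimeSpectrum K),
      (h0 _).trans hy.symm⟩⟩
  have hw : ξ.left ≫ G.hom = q := Over.w ξ
  have hfib : G.hom.base ⁻¹' {s} = Set.range (pullback.snd a q ≫ ξ.left).base := by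
    rw [Scheme.Hom.comp_base, TopCat.coe_comp, Set.range_comp, Scheme.Pullback.range_snd, hrange]
    ext g
    constructor
    · intro hg
      refine ⟨(CategoryTheory.inv ξ.left).base g, ?_, ?_⟩
      · change q.base _ ∈ ({s} : Set _)
        have e : CategoryTheory.inv ξ.left ≫ q = G.hom := by rw [← hw, IsIso.inv_hom_id_assoc]
        exact (congrArg (fun f : G.left ⟶ _ => f.base g) e).trans hg
      · change ξ.left.base ((CategoryTheory.inv ξ.left).base g) = g
        exact congrArg (fun f : G.left ⟶ _ => f.base g) (IsIso.inv_hom_id ξ.left)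
    · rintro ⟨z, hz, rfl⟩
      exact (congrArg (fun f : Spec (CommRingCat.of H) ⟶ _ => f.base z) hw).trans hz
  have hc : _root_.IsConnected (G.hom.base ⁻¹' {s}) := by
    rw [hfib]
    exact isConnected_range (pullback.snd a q ≫ ξ.left).continuous
  haveI := isConnected_iff_connectedSpace.mp hc
  exact (G.hom.fiberHomeo s).symm.surjective.connectedSpace (G.hom.fiberHomeo s).symm.continuous

end Groth.Agent.H21Clif.OddConn
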