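import Groth.Agent.H21Clif.EvenSO
import Groth.Agent.H21Clif.SplitEven

/-!
# The special orthogonal group scheme of a semiregular form of odd rank: smoothness
-/

universe u

namespace Groth.Agent.H21Clif.OddSO

open CategoryTheory AlgebraicGeometry TensorProduct Matrix
open scoped MonObj

set_option linter.style.haveILetI false
set_option linter.unusedSectionVars false
set_option synthInstance.maxHeartbeats 100000
set_option maxHeartbeats 1000000

section Lin

variable {k : Type u} [CommRing k] {n : ℕ}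

lemma ofMat_eq_zero_iff (Y : Matrix (Fin n) (Fin n) k) : ofMat Y = 0 ↔ SplitEven.Alt Y := by
  have h0 : ofMat (0 : Matrix (Fin n) (Fin n) k) = 0 :=
    funext fun p => Sym2.ind (fun i j => by simp [ofMat_mk]) p
  rw [← h0, SplitEven.ofMat_eq_iff, sub_zero]

lemma alt_symm_iff (K X : Matrix (Fin n) (Fin n) k) :
    SplitEven.Alt (Xᵀ * K + K * X) ↔ SplitEven.Alt ((K + Kᵀ) * X) := by
  have h := SplitEven.alt_sub_transpose (Kᵀ * X)
  have e : (K + Kᵀ) * X = Xᵀ * K + K * X + (Kᵀ * X - (Kᵀ * X)ᵀ) := by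
    rw [Matrix.transpose_mul, Matrix.transpose_transpose, Matrix.add_mul]; abel
  constructor
  · intro hX; rw [e]; exact hX.add h
  · intro hX
    rw [show Xᵀ * K + K * X = (K + Kᵀ) * X - (Kᵀ * X - (Kᵀ * X)ᵀ) by rw [e, add_sub_cancel_right]]
    exact hX.sub h

lemma trace_symm_mul_alt {l : Type} [Fintype l] [DecidableEq l] (Z Y : Matrix l l k) (hY : SplitEven.Alt Y) :
    ((Z + Zᵀ) * Y).trace = 0 := by
  rw [Matrix.add_mul, Matrix.trace_add]
  have h : (Zᵀ * Y).trace = -(Z * Y).trace := by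
    rw [← Matrix.trace_transpose, Matrix.transpose_mul, Matrix.transpose_transpose, hY.2, Matrix.neg_mul,
      Matrix.trace_neg, Matrix.trace_mul_comm]
  rw [h, add_neg_cancel]

/-- tangent vectors in coordinates adapted to an orthogonal splitting -/
lemma exists_tangent_split {r : ℕ} (k : Type u) [Field k] (K : Matrix (Fin (r + 1)) (Fin (r + 1)) k)
    (horth : ∀ i : Fin r, K i.castSucc (Fin.last r) + K (Fin.last r) i.castSucc = 0)
    (hP : IsUnit ((K + Kᵀ).submatrix Fin.castSucc Fin.castSucc).det) :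
    ∃ Λ : (SplitEven.UT r → k) × (Fin r → k) →ₗ[k] Matrix (Fin (r + 1)) (Fin (r + 1)) k,
      Function.Injective Λ ∧
        ∀ X, (SplitEven.Alt ((K + Kᵀ) * X) ∧ X.trace = 0) ↔ X ∈ LinearMap.range Λ := by
  let e : Fin r ⊕ Fin 1 ≃ Fin (r + 1) := finSumFinEquiv
  have el : ∀ i, e (Sum.inl i) = i.castSucc := fun i => rfl
  have er : ∀ u, e (Sum.inr u) = Fin.last r := fun u => by
    rw [Subsingleton.elim u 0]; exact Fin.ext (by simp [e])
  let PW := (K + Kᵀ).submatrix Fin.castSucc Fin.castSucc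
  let q : k := (K + Kᵀ) (Fin.last r) (Fin.last r)
  have hblk : (K + Kᵀ).submatrix e e = Matrix.fromBlocks PW 0 0 (q • 1) := by
    ext (i | u) (j | v)
    · simp [el, PW]
    · simp [el, er, horth i]
    · have := horth j
      simp [el, er, add_comm] at this ⊢
      exact this
    · simp [er, q, Subsingleton.elim u v]
  have hsym : ∃ Z, PW⁻¹ = Z + Zᵀ := by
    refine ⟨(PW⁻¹)ᵀ * K.submatrix Fin.castSucc Fin.castSucc * PW⁻¹, ?_⟩
    have h1 : PW = K.submatrix Fin.castSucc Fin.castSucc + (K.submatrix Fin.castSucc Fin.castSucc)ᵀ := rfl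
    have hT : (PW⁻¹)ᵀ = PW⁻¹ := by
      rw [Matrix.transpose_nonsing_inv, show PWᵀ = PW by
        rw [h1, Matrix.transpose_add, Matrix.transpose_transpose, add_comm]]
    rw [Matrix.transpose_mul, Matrix.transpose_mul, Matrix.transpose_transpose, ← Matrix.mul_assoc PW⁻¹ᵀ,
      ← Matrix.add_mul, ← Matrix.mul_add, ← h1, hT, Matrix.nonsing_inv_mul _ hP, Matrix.one_mul]
  obtain ⟨Z, hZ⟩ := hsym
  let F : (SplitEven.UT r → k) × (Fin r → k) → Matrix (Fin r ⊕ Fin 1) (Fin r ⊕ Fin 1) k := fun v =>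
    Matrix.fromBlocks (PW⁻¹ * SplitEven.altOf v.1) (PW⁻¹ * (-q) • Matrix.of fun i _ => v.2 i)
      (Matrix.of fun _ j => v.2 j) 0
  let Λ : (SplitEven.UT r → k) × (Fin r → k) →ₗ[k] Matrix (Fin (r + 1)) (Fin (r + 1)) k :=
    { toFun := fun v => (F v).submatrix e.symm e.symm
      map_add' := fun v v' => by
        have h1 : SplitEven.altOf (v.1 + v'.1) = SplitEven.altOf v.1 + SplitEven.altOf v'.1 := by
          ext i j; simp only [SplitEven.altOf, Matrix.of_apply, Matrix.add_apply, Pi.add_apply]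
          split_ifs <;> simp [add_comm]
        have h2 : F (v + v') = F v + F v' := by
          simp only [F, Prod.fst_add, Prod.snd_add, h1]
          rw [Matrix.fromBlocks_add, ← Matrix.mul_add, ← Matrix.mul_add, ← smul_add, add_zero]
          rfl
        rw [h2]; rfl
      map_smul' := fun t v => by
        have h1 : SplitEven.altOf (t • v.1) = t • SplitEven.altOf v.1 := by
          ext i j; simp only [SplitEven.altOf, Matrix.of_apply, Matrix.smul_apply, Pi.smul_apply]
          split_ifs <;> simp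
        ext a c
        rcases h : e.symm a with i | i <;> rcases h' : e.symm c with j | j <;>
          simp [F, h, h', h1, Matrix.mul_apply, Finset.mul_sum, mul_left_comm] }
  have hΛ : ∀ v, (Λ v).submatrix e e = F v := fun v => by ext a c; simp [Λ]
  refine ⟨Λ, fun v v' h => ?_, fun X => ?_⟩
  · have h2 : F v = F v' := by rw [← hΛ, h, hΛ]
    obtain ⟨h3, -, h4, -⟩ := Matrix.fromBlocks_inj.mp h2
    refine Prod.ext (funext fun p => ?_) (funext fun i => congrFun (congrFun h4 0) i)
    have this : PW * (PW⁻¹ * SplitEven.altOf v.1) = PW * (PW⁻¹ * SplitEven.altOf v'.1) := congrArg (PW * ·) h3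
    rw [Matrix.mul_nonsing_inv_cancel_left _ _ hP, Matrix.mul_nonsing_inv_cancel_left _ _ hP] at this
    simpa [SplitEven.altOf, p.2] using congrFun (congrFun this p.1.1) p.1.2
  · obtain ⟨X1, x, y, t, hX⟩ : ∃ X1 x y t, X.submatrix e e = Matrix.fromBlocks X1 x y t :=
      ⟨_, _, _, _, (Matrix.fromBlocks_toBlocks _).symm⟩
    have hprod : ((K + Kᵀ) * X).submatrix e e =
        Matrix.fromBlocks (PW * X1) (PW * x) (q • y) (q • t) := by
      rw [← Matrix.submatrix_mul_equiv _ _ _ e, hblk, hX, Matrix.fromBlocks_multiply]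
      simp
    have htr : X.trace = X1.trace + t 0 0 := by
      have : X.trace = (X.submatrix e e).trace :=
        (Equiv.sum_comp e fun i => X i i).symm
      rw [this, hX, Matrix.trace, Fintype.sum_sum_type, Fin.sum_univ_one]
      rfl
    rw [← SplitEven.alt_submatrix_iff e, hprod, htr]
    constructor
    · rintro ⟨⟨hd, ht⟩, htr0⟩
      have hA : SplitEven.Alt (PW * X1) := by
        rw [Matrix.fromBlocks_transpose, Matrix.fromBlocks_neg, Matrix.fromBlocks_inj] at ht
        exact ⟨fun i => hd (Sum.inl i), ht.1⟩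
      rw [Matrix.fromBlocks_transpose, Matrix.fromBlocks_neg, Matrix.fromBlocks_inj] at ht
      have htr1 : X1.trace = 0 := by
        have : X1 = (Z + Zᵀ) * (PW * X1) := by
          rw [← hZ, ← Matrix.mul_assoc, Matrix.nonsing_inv_mul _ hP, Matrix.one_mul]
        rw [this]
        exact trace_symm_mul_alt Z _ hA
      rw [htr1, zero_add] at htr0
      refine ⟨(fun p => (PW * X1) p.1.1 p.1.2, fun j => y 0 j), ?_⟩
      have hF : F (fun p => (PW * X1) p.1.1 p.1.2, fun j => y 0 j) = X.submatrix e e := by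
        rw [hX]
        simp only [F]
        rw [Matrix.fromBlocks_inj]
        refine ⟨?_, ?_, ?_, ?_⟩
        · rw [SplitEven.altOf_eq hA, ← Matrix.mul_assoc, Matrix.nonsing_inv_mul _ hP, Matrix.one_mul]
        · have : PW * x = (-q) • Matrix.of fun i (_ : Fin 1) => y 0 i := by
            ext i u
            have := congrFun (congrFun ht.2.1 i) u
            rw [Subsingleton.elim u 0] at this ⊢
            simp at this ⊢
            linear_combination this
          rw [← this, ← Matrix.mul_assoc, Matrix.nonsing_inv_mul _ hP, Matrix.one_mul]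
        · ext u j
          rw [Subsingleton.elim u 0]; rfl
        · ext u v
          rw [Subsingleton.elim u 0, Subsingleton.elim v 0]
          exact htr0.symm
      change (F _).submatrix e.symm e.symm = X
      rw [hF]
      ext a c; simp
    · rintro ⟨v, rfl⟩
      rw [hΛ] at hX
      obtain ⟨rfl, rfl, rfl, rfl⟩ := Matrix.fromBlocks_inj.mp hX
      rw [← Matrix.mul_assoc, Matrix.mul_nonsing_inv _ hP, Matrix.one_mul, ← Matrix.mul_assoc,
        Matrix.mul_nonsing_inv _ hP, Matrix.one_mul, smul_zero]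
      refine ⟨⟨?_, ?_⟩, ?_⟩
      · rintro (i | u) <;> simp [(SplitEven.alt_altOf v.1).1]
      · rw [Matrix.fromBlocks_transpose, (SplitEven.alt_altOf v.1).2, Matrix.fromBlocks_neg, Matrix.fromBlocks_inj]
        refine ⟨rfl, ?_, ?_, by simp⟩
        · ext i u; simp
        · ext u i; simp
      · rw [hZ, trace_symm_mul_alt Z _ (SplitEven.alt_altOf v.1)]
        simp

end Lin

section Tangent

open TrivSqZeroExt

variable {R : Type u} [CommRing R] {n : ℕ} (C : Matrix (Fin n) (Fin n) R)

lemma isTangent_sorth_iff (k : Type u) [CommRing k] [Algebra R k] (x δ : Fin n × Fin n → k)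
    (hx : ∀ a, (sorthEqs C).F k x a = 0) :
    (sorthEqs C).IsTangent x δ ↔ (orthEqs C).IsTangent x δ ∧
      ((Matrix.of fun i j => x (i, j))⁻¹ * Matrix.of fun i j => δ (i, j)).trace = 0 := by
  let g : Matrix (Fin n) (Fin n) k := Matrix.of fun i j => x (i, j)
  let d : Matrix (Fin n) (Fin n) k := Matrix.of fun i j => δ (i, j)
  have hgd : g.det = 1 := sub_eq_zero.mp (hx (Sum.inr ()))
  let hι : k →+* TrivSqZeroExt k k := TrivSqZeroExt.inlHom k k
  let ε : TrivSqZeroExt k k := inr 1
  let J : Ideal (TrivSqZeroExt k k) := Ideal.span {ε}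
  have hJ : J * J = ⊥ := by
    rw [Ideal.span_singleton_mul_span_singleton, show ε * ε = 0 from inr_mul_inr k 1 1, Ideal.span_singleton_eq_bot]
  have hG : (Matrix.of fun i j => (inl (x (i, j)) + inr (δ (i, j)) : TrivSqZeroExt k k)) =
      g.map hι * (1 + ε • (g⁻¹ * d).map hι) := by
    rw [Matrix.mul_add, Matrix.mul_one, Matrix.mul_smul, ← Matrix.map_mul, ← Matrix.mul_assoc,
      Matrix.mul_nonsing_inv _ (by rw [hgd]; exact isUnit_one), Matrix.one_mul]
    ext i j <;> simp [g, d, hι, ε]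
  have hdet : (Matrix.of fun i j => (inl (x (i, j)) + inr (δ (i, j)) : TrivSqZeroExt k k)).det =
      1 + ε * hι (g⁻¹ * d).trace := by
    rw [hG, Matrix.det_mul, ← RingHom.mapMatrix_apply, ← RingHom.map_det, hgd, map_one, one_mul,
      det_one_add hJ (fun i j => by
        rw [Matrix.smul_apply, smul_eq_mul]; exact J.mul_mem_right _ (Ideal.subset_span rfl)),
      Matrix.trace_smul, smul_eq_mul,
      show ((g⁻¹ * d).map hι).trace = hι (g⁻¹ * d).trace from (AddMonoidHom.map_trace hι.toAddMonoidHom _).symm]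
  unfold H21Rep.Eqs.IsTangent
  rw [Sum.forall]
  refine and_congr Iff.rfl ?_
  simp only [sorthEqs_inr, hdet, add_sub_cancel_left, forall_const]
  constructor
  · intro h
    have := congrArg TrivSqZeroExt.snd h
    simpa [ε, hι] using this
  · intro h
    rw [h, map_zero, mul_zero]

theorem exists_tangent {m : ℕ} (C : Matrix (Fin (2 * m + 1)) (Fin (2 * m + 1)) R) (hC : IsUnit (hd (ofMat C)))
    (k : Type u) [Field k] [Algebra R k] (x : Fin (2 * m + 1) × Fin (2 * m + 1) → k)
    (hx : ∀ a, (sorthEqs C).F k x a = 0) :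
    ∃ T : Submodule k (Fin (2 * m + 1) × Fin (2 * m + 1) → k), Module.finrank k T = (2 * m + 1).choose 2 ∧
      ∀ δ, δ ∈ T ↔ (sorthEqs C).IsTangent x δ := by
  classical
  let g : Matrix (Fin (2 * m + 1)) (Fin (2 * m + 1)) k := Matrix.of fun i j => x (i, j)
  let K := C.map (algebraMap R k)
  have hgu : IsUnit g.det := by
    rw [show g.det = 1 from sub_eq_zero.mp (hx (Sum.inr ()))]; exact isUnit_one
  have hgx : ofMat (gᵀ * K * g) = ofMat K :=
    (orthEqs_eq_zero_iff C k x).mp fun a => hx (Sum.inl a)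
  have hK : IsUnit (hd (ofMat K)) := by
    rw [← ofMat_map, ← map_hd]; exact hC.map _
  -- an orthogonal splitting
  let β := Matrix.toBilin' K
  let bf := Pi.basisFun k (Fin (2 * m + 1))
  have hβ : LinearMap.BilinForm.toMatrix bf β = K := by
    rw [LinearMap.BilinForm.toMatrix_basisFun]; exact LinearMap.BilinForm.toMatrix'_toBilin' K
  obtain ⟨b', horth, -, hP⟩ := exists_orth_basis bf β.toQuadraticMap (even_two_mul m) (by
    rw [QuadGrp.IsSemiregular, halfDisc_eq_hd, coeffs_eq_ofMat bf _ rfl, hβ]; exact hK)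
  let U := bf.toMatrix b'
  haveI := bf.invertibleToMatrix b'
  have hU : IsUnit U.det := Matrix.isUnit_det_of_invertible (bf.toMatrix b')
  let K' := Uᵀ * K * U
  have hK' : K' = LinearMap.BilinForm.toMatrix b' β := by
    rw [← LinearMap.BilinForm.toMatrix_mul_basis_toMatrix bf b', hβ]
  have hpol : ∀ i j, K' i j + K' j i = QuadraticMap.polar β.toQuadraticMap (b' i) (b' j) := fun i j => by
    rw [hK', LinearMap.BilinForm.toMatrix_apply, LinearMap.BilinForm.toMatrix_apply,
      LinearMap.BilinMap.polar_toQuadraticMap]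
  obtain ⟨Λ, hΛi, hΛ⟩ := exists_tangent_split k K' (fun i => by rw [hpol]; exact horth i) (by
    convert hP using 2
    ext i j
    simp [polarMat, ← hpol])
  let M : (SplitEven.UT (2 * m) → k) × (Fin (2 * m) → k) →ₗ[k] (Fin (2 * m + 1) × Fin (2 * m + 1) → k) :=
    { toFun := fun v p => (g * (U * Λ v * U⁻¹)) p.1 p.2
      map_add' := fun v v' => by funext p; simp [Matrix.mul_add, Matrix.add_mul]
      map_smul' := fun t v => by funext p; simp [Matrix.mul_smul, Matrix.smul_mul] }
  have hM : ∀ v, (Matrix.of fun i j => M v (i, j)) = g * (U * Λ v * U⁻¹) := fun v => rfl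
  have hMi : Function.Injective M := fun v v' h => by
    have h2 : g * (U * Λ v * U⁻¹) = g * (U * Λ v' * U⁻¹) := by rw [← hM, h, hM]
    have h3 := congrArg (fun X => U⁻¹ * (g⁻¹ * X) * U) h2
    simp only [Matrix.nonsing_inv_mul_cancel_left _ _ hgu, ← Matrix.mul_assoc, Matrix.nonsing_inv_mul _ hU,
      Matrix.one_mul] at h3
    simp only [Matrix.mul_assoc, Matrix.nonsing_inv_mul _ hU, Matrix.mul_one] at h3
    exact hΛi h3
  refine ⟨LinearMap.range M, ?_, fun δ => ?_⟩
  · rw [LinearMap.finrank_range_of_inj hMi, Module.finrank_prod, Module.finrank_fintype_fun_eq_card,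
      Module.finrank_fintype_fun_eq_card, card_pairs, Fintype.card_fin, Nat.choose_succ_succ (2 * m) 1,
      Nat.choose_one_right, add_comm]
  · rw [isTangent_sorth_iff C k x δ hx, isTangent_orth_iff C k x δ fun a => hx (Sum.inl a)]
    let d : Matrix (Fin (2 * m + 1)) (Fin (2 * m + 1)) k := Matrix.of fun i j => δ (i, j)
    let X := g⁻¹ * d
    let X' := U⁻¹ * X * U
    have h1 : ofMat (dᵀ * K * g + gᵀ * K * d) = 0 ↔ SplitEven.Alt ((K + Kᵀ) * X) := by
      have e : dᵀ * K * g + gᵀ * K * d = Xᵀ * (gᵀ * K * g) + gᵀ * K * g * X := by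
        have e' : d = g * X := (Matrix.mul_nonsing_inv_cancel_left _ _ hgu).symm
        rw [e', Matrix.transpose_mul]
        simp only [Matrix.mul_assoc]
      rw [e, ofMat_eq_zero_iff, alt_symm_iff, polar_of_ofMat hgx]
    have h2 : SplitEven.Alt ((K + Kᵀ) * X) ↔ SplitEven.Alt ((K' + K'ᵀ) * X') := by
      have e : (K' + K'ᵀ) * X' = Uᵀ * ((K + Kᵀ) * X) * U := by
        simp only [K', X', Matrix.transpose_mul, Matrix.transpose_transpose, Matrix.add_mul, Matrix.mul_add,
          Matrix.mul_assoc, Matrix.mul_nonsing_inv_cancel_left _ _ hU]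
      rw [e]
      refine ⟨fun h => h.conj U, fun h => ?_⟩
      have := h.conj U⁻¹
      simpa only [Matrix.transpose_nonsing_inv, Matrix.mul_assoc,
        Matrix.nonsing_inv_mul_cancel_left Uᵀ _ (Matrix.isUnit_det_transpose U hU),
        Matrix.mul_nonsing_inv _ hU, Matrix.mul_one] using this
    have h3 : X'.trace = X.trace := by
      rw [Matrix.trace_mul_comm, ← Matrix.mul_assoc, Matrix.mul_nonsing_inv _ hU, Matrix.one_mul]
    change δ ∈ LinearMap.range M ↔ ofMat (dᵀ * K * g + gᵀ * K * d) = 0 ∧ X.trace = 0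
    rw [h1, h2, ← h3, hΛ]
    constructor
    · rintro ⟨v, rfl⟩
      refine ⟨v, ?_⟩
      simp only [X', X, d, hM, Matrix.nonsing_inv_mul_cancel_left _ _ hgu]
      simp only [Matrix.mul_assoc, Matrix.nonsing_inv_mul _ hU, Matrix.mul_one,
        Matrix.nonsing_inv_mul_cancel_left _ _ hU]
    · rintro ⟨v, hv⟩
      refine ⟨v, funext fun p => ?_⟩
      change (g * (U * Λ v * U⁻¹)) p.1 p.2 = δ p
      rw [hv]
      simp only [X', X, Matrix.mul_assoc, Matrix.mul_nonsing_inv _ hU, Matrix.mul_one,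
        Matrix.mul_nonsing_inv_cancel_left _ _ hU, Matrix.mul_nonsing_inv_cancel_left _ _ hgu]
      rfl

end Tangent

section Main

variable {R : Type u} [CommRing R] {m : ℕ} (Q : QuadraticForm R (Fin (2 * m + 1) → R))

/-- the Gram matrix -/
noncomputable def gramO : Matrix (Fin (2 * m + 1)) (Fin (2 * m + 1)) R :=
  LinearMap.BilinForm.toMatrix (Pi.basisFun R (Fin (2 * m + 1))) (Q.toBilin (Pi.basisFun R (Fin (2 * m + 1))))

lemma mem_sorth_iff (A : Type u) [CommRing A] [Algebra R A]
    (h : (A ⊗[R] (Fin (2 * m + 1) → R)) ≃ₗ[A] (A ⊗[R] (Fin (2 * m + 1) → R))) :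
    h ∈ QuadGrp.sorth Q A ↔ h ∈ QuadGrp.sorth' Q A := by
  rw [mem_sorth'_iff]
  unfold QuadGrp.sorth QuadGrp.SO
  rcases subsingleton_or_nontrivial A with hA | hA
  · haveI : Subsingleton (A ⊗[R] (Fin (2 * m + 1) → R)) := Module.subsingleton A _
    rw [Subsingleton.elim h 1]
    exact ⟨fun _ => Subgroup.one_mem _, fun _ => Subgroup.one_mem _⟩
  · rw [if_neg]
    rw [Module.finrank_eq_card_basis (Algebra.TensorProduct.basis A (Pi.basisFun R (Fin (2 * m + 1)))),
      Fintype.card_fin, Nat.not_even_iff_odd]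
    exact odd_two_mul_add_one m

lemma isUnit_hd_gramO (hQ : QuadGrp.IsSemiregular (Pi.basisFun R (Fin (2 * m + 1))) (LinearEquiv.refl R R) Q) :
    IsUnit (hd (ofMat (gramO Q))) :=
  (gram_nondeg Q ⟨fun h => absurd h (Nat.not_even_iff_odd.mpr (odd_two_mul_add_one m)), fun _ => hQ⟩).2
    (odd_two_mul_add_one m)

theorem exists_model (hQ : QuadGrp.IsSemiregular (Pi.basisFun R (Fin (2 * m + 1))) (LinearEquiv.refl R R) Q)
    (G : Over (Spec (CommRingCat.of R))) [GrpObj G] (D : QuadGrp.SOrthRep Q G) :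
    ∃ ξ : QuadGrp.specOver R (sorthEqs (gramO Q)).H ⟶ G, IsIso ξ :=
  H21Rep.exists_iso (sorthEqs (gramO Q)) G (fun A _ _ => (D.pts A).toEquiv.trans
    ((Equiv.subtypeEquivRight (mem_sorth_iff Q A)).trans
      (sorthEquiv (gramO Q) Q rfl A (Or.inr ⟨odd_two_mul_add_one m, isUnit_hd_gramO Q hQ⟩))))
    fun A B _ _ _ _ φ y => matCoord_natural φ _ _ (D.natural A B φ y)

theorem smoothOfRelativeDimension_sorth
    (hQ : QuadGrp.IsSemiregular (Pi.basisFun R (Fin (2 * m + 1))) (LinearEquiv.refl R R) Q)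
    (G : Over (Spec (CommRingCat.of R))) [GrpObj G] (D : QuadGrp.SOrthRep Q G) :
    SmoothOfRelativeDimension (m * (2 * m + 1)) G.hom := by
  obtain ⟨ξ, hξ⟩ := exists_model Q hQ G D
  haveI : IsIso ξ.left := inferInstanceAs (IsIso ((Over.forget _).map ξ))
  have hn : (2 * m + 1).choose 2 = m * (2 * m + 1) := by
    rw [Nat.choose_two_right, Nat.add_sub_cancel, show (2 * m + 1) * (2 * m) = 2 * (m * (2 * m + 1)) by ring,
      Nat.mul_div_cancel_left _ two_pos]
  have h1 : SmoothOfRelativeDimension (m * (2 * m + 1))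
      (Spec.map (CommRingCat.ofHom (algebraMap R (sorthEqs (gramO Q)).H))) := by
    rw [HasRingHomProperty.Spec_iff (P := @SmoothOfRelativeDimension (m * (2 * m + 1))), CommRingCat.hom_ofHom, ← hn]
    exact H21Rep.locally_standardSmooth _
      (sorth_lifts (gramO Q) (Or.inl ⟨odd_two_mul_add_one m, isUnit_hd_gramO Q hQ⟩)) _
      fun k _ _ x hx => exists_tangent (gramO Q) (isUnit_hd_gramO Q hQ) k x hx
  have e1 : ξ.left ≫ G.hom = Spec.map (CommRingCat.ofHom (algebraMap R (sorthEqs (gramO Q)).H)) := Over.w ξ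
  haveI := h1
  haveI : SmoothOfRelativeDimension 0 (CategoryTheory.inv ξ.left) := inferInstance
  rw [← IsIso.inv_hom_id_assoc ξ.left G.hom, e1, ← Nat.zero_add (m * (2 * m + 1))]
  exact smoothOfRelativeDimension_comp 0 (m * (2 * m + 1)) _ _ (hf := this) (hg := h1)

end Main

end Groth.Agent.H21Clif.OddSO
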