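import Groth.Agent.H21Clif.GPinLift

/-!
# Formal smoothness of the Pin group in odd rank at least three
-/

universe u

namespace Groth.Agent.H21Clif

open CliffordAlgebra TensorProduct

set_option linter.style.haveILetI false
set_option linter.unusedSectionVars false

variable {A : Type u} [CommRing A] {M : Type u} [AddCommGroup M] [Module A M] [Module.Free A M]
variable {Q : QuadraticForm A M} {I : Ideal A}

lemma star_mem_evenOdd {i : ZMod 2} {x : CliffordAlgebra Q} (hx : x ∈ evenOdd Q i) : star x ∈ evenOdd Q i := by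
  rw [star_def, reverse_mem_evenOdd_iff, involute_mem_evenOdd_iff]
  exact hx

lemma star_mul_self_even {u : CliffordAlgebra Q} (h : QuadGrp.IsLocHomog Q u) : star u * u ∈ evenOdd Q 0 := by
  obtain ⟨e, he, h0, h1⟩ := h
  have he1 : (1 - e) * (1 - e) = 1 - e := he.one_sub.eq
  have key : ∀ c : A, c * c = c → c • (star u * u) = star (c • u) * (c • u) := fun c hc => by
    rw [CliffordAlgebra.star_smul, smul_mul_smul_comm, hc]
  rw [show star u * u = e • (star u * u) + (1 - e) • (star u * u) by rw [← add_smul, add_sub_cancel, one_smul],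
    key e he.eq, key (1 - e) he1]
  refine add_mem ?_ ?_
  · simpa using SetLike.mul_mem_graded (star_mem_evenOdd h0) h0
  · simpa [show (1 : ZMod 2) + 1 = 0 from rfl] using SetLike.mul_mem_graded (star_mem_evenOdd h1) h1

variable {k : ℕ} (b : Module.Basis (Fin (2 * k + 1)) A M)

include b in
/-- the values of the polar form generate the unit ideal -/
lemma exists_polar_comb (hk : 1 ≤ k) (hQ : QuadGrp.IsSemiregular b (LinearEquiv.refl A A) Q) :
    ∃ r : Fin (2 * k + 1) × Fin (2 * k + 1) → A, ∑ ij, r ij * QuadraticMap.polar Q (b ij.1) (b ij.2) = 1 := by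
  suffices h : (1 : A) ∈ Submodule.span A
      (Set.range fun ij : Fin (2 * k + 1) × Fin (2 * k + 1) => QuadraticMap.polar Q (b ij.1) (b ij.2)) by
    obtain ⟨r, hr⟩ := (Submodule.mem_span_range_iff_exists_fun A).mp h
    exact ⟨r, by simpa only [smul_eq_mul] using hr⟩
  change (1 : A) ∈ Ideal.span _
  rw [← Ideal.eq_top_iff_one]
  by_contra hne
  obtain ⟨p, hp, hle⟩ := Ideal.exists_le_maximal _ hne
  let Ap := Localization.AtPrime p
  let bp := Algebra.TensorProduct.basis Ap b
  obtain ⟨d, -, -, hdet⟩ := exists_orth_basis bp (QuadGrp.baseChangeForm Ap Q) (even_two_mul k)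
    (isSemiregular_baseChange b hQ Ap)
  have hb : ∀ i j, QuadraticMap.polar (QuadGrp.baseChangeForm Ap Q) (bp i) (bp j) ∈ IsLocalRing.maximalIdeal Ap :=
    fun i j => by
    simp only [bp, Algebra.TensorProduct.basis_apply, polar_baseChangeForm_tmul, one_mul]
    rw [← Localization.AtPrime.map_eq_maximalIdeal]
    exact Ideal.mem_map_of_mem _ (hle (Ideal.subset_span ⟨(i, j), rfl⟩))
  have hall : ∀ x y, QuadraticMap.polar (QuadGrp.baseChangeForm Ap Q) x y ∈ IsLocalRing.maximalIdeal Ap := fun x y => by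
    rw [← QuadraticMap.polarBilin_apply_apply, ← bp.sum_repr x, ← bp.sum_repr y]
    simp only [map_sum, map_smul, LinearMap.sum_apply, LinearMap.smul_apply, smul_eq_mul,
      QuadraticMap.polarBilin_apply_apply]
    exact Submodule.sum_mem _ fun i _ => Ideal.mul_mem_left _ _
      (Submodule.sum_mem _ fun j _ => Ideal.mul_mem_left _ _ (hb _ _))
  haveI : Nonempty (Fin (2 * k)) := ⟨⟨0, by omega⟩⟩
  have h0 := hdet.map (IsLocalRing.residue Ap)
  rw [RingHom.map_det, RingHom.mapMatrix_apply,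
    show (polarMat (QuadGrp.baseChangeForm Ap Q) fun i : Fin (2 * k) => d i.castSucc).map (IsLocalRing.residue Ap) = 0 from
      Matrix.ext fun i j => (IsLocalRing.residue_eq_zero_iff _).mpr (hall _ _),
    Matrix.det_zero] at h0
  exact not_isUnit_zero h0

include b in
/-- the Pin group is formally smooth in odd rank at least three -/
theorem exists_pin_lift (hI : I * I = ⊥) (hk : 1 ≤ k) (hQ : QuadGrp.IsSemiregular b (LinearEquiv.refl A A) Q)
    {ū : (CliffordAlgebra (QuadGrp.baseChangeForm (A ⧸ I) Q))ˣ}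
    (hū : ū ∈ QuadGrp.Pin (QuadGrp.baseChangeForm (A ⧸ I) Q)) :
    ∃ u ∈ QuadGrp.Pin Q, Ψ (A ⧸ I) Q (u : CliffordAlgebra Q) = ū := by
  obtain ⟨hūG, hūN⟩ := hū
  obtain ⟨u, hu, hΨ⟩ := exists_gpin_lift b hI (Nat.succ_pos _) (Or.inr ⟨⟨k, rfl⟩, hQ⟩) hūG
  obtain ⟨g, hg, hconj⟩ := exists_isometry_of_mem_GPin' b hu.1
  have hint : ∀ v, ι Q (g v) * u = (u : CliffordAlgebra Q) * ι Q v := fun v => by
    rw [← hconj, mul_assoc, Units.inv_mul, mul_one]
  -- the norm is a scalar
  have hcent : ∀ v, (star (u : CliffordAlgebra Q) * u) * ι Q v = ι Q v * (star (u : CliffordAlgebra Q) * u) :=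
    fun v => by
    have hs := congrArg star (hint v)
    rw [star_mul, star_mul, star_ι, star_ι, mul_neg, neg_mul, neg_inj] at hs
    rw [mul_assoc, ← hint v, ← mul_assoc, hs, mul_assoc]
  obtain ⟨c, hc⟩ := even_central_scalar b hQ (star_mul_self_even hu.2) hcent
  have hc1 : c - 1 ∈ I := by
    refine Ideal.Quotient.eq_zero_iff_mem.mp (algebraMap_eq_zero_of_Ψ b (A ⧸ I) (Q := Q) ?_)
    rw [map_sub, map_one, ← hc, map_sub, map_mul, Ψ_star, hΨ, map_one, sub_eq_zero]
    exact hūN
  obtain ⟨r, hr⟩ := exists_polar_comb b hk hQ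
  let t : Fin (2 * k + 1) × Fin (2 * k + 1) → A := fun ij => (1 - c) * r ij
  have htI : ∀ ij, t ij ∈ I := fun ij => I.mul_mem_right _ (by rw [← neg_sub]; exact I.neg_mem hc1)
  let w : CliffordAlgebra Q := ∑ ij, t ij • (ι Q (b ij.1) * ι Q (b ij.2))
  let D : M →ₗ[A] M :=
    ∑ ij, t ij • ((QuadraticMap.polarBilin Q (b ij.2)).smulRight (b ij.1) -
      (QuadraticMap.polarBilin Q (b ij.1)).smulRight (b ij.2))
  have hker : ∀ (s : Fin (2 * k + 1) × Fin (2 * k + 1) → CliffordAlgebra Q),
      Ψ (A ⧸ I) Q (∑ ij, t ij • s ij) = 0 := fun s => by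
    rw [map_sum]
    refine Finset.sum_eq_zero fun ij _ => ?_
    rw [map_smul, ← algebraMap_smul (A ⧸ I) (t ij), Ideal.Quotient.algebraMap_eq,
      Ideal.Quotient.eq_zero_iff_mem.mpr (htI ij)]
    exact zero_smul (A ⧸ I) (Ψ (A ⧸ I) Q (s ij))
  have hwv : ∀ v, w * ι Q v = ι Q v * w + ι Q (D v) := fun v => by
    simp only [w, D, Finset.sum_mul, Finset.mul_sum, LinearMap.sum_apply, LinearMap.smul_apply,
      LinearMap.sub_apply, LinearMap.smulRight_apply, map_sum, map_smul, map_sub,
      QuadraticMap.polarBilin_apply_apply]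
    rw [← Finset.sum_add_distrib]
    refine Finset.sum_congr rfl fun ij _ => ?_
    rw [smul_mul_assoc, mul_smul_comm, ← smul_add]
    congr 1
    have h1 := ι_mul_ι_add_swap (Q := Q) (b ij.2) v
    have h2 := ι_mul_ι_add_swap (Q := Q) (b ij.1) v
    rw [Algebra.smul_def, Algebra.smul_def, Algebra.commutes (QuadraticMap.polar Q (b ij.2) v), ← h1, ← h2]
    noncomm_ring
  have hΨw : Ψ (A ⧸ I) Q w = 0 := hker _
  have hww : w * w = 0 := mul_eq_zero_of_Ψ hI b hΨw hΨw
  let sv : Fin (2 * k + 1) × Fin (2 * k + 1) → M → M := fun ij v =>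
    QuadraticMap.polar Q (b ij.2) v • b ij.1 - QuadraticMap.polar Q (b ij.1) v • b ij.2
  have hDv : ∀ v, D v = ∑ ij, t ij • sv ij v := fun v => by
    simp [D, sv, LinearMap.sum_apply]
  have hDw : ∀ v, ι Q (D v) * w = 0 := fun v => by
    refine mul_eq_zero_of_Ψ hI b ?_ hΨw
    rw [hDv, show ι Q (∑ ij, t ij • sv ij v) = ∑ ij, t ij • ι Q (sv ij v) by simp only [map_sum, map_smul]]
    exact hker _
  have hDD : ∀ v, D (D v) = 0 := fun v => by
    rw [hDv v, map_sum]
    refine Finset.sum_eq_zero fun ij _ => ?_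
    rw [map_smul, hDv, Finset.smul_sum]
    refine Finset.sum_eq_zero fun kl _ => ?_
    rw [smul_smul, show t ij * t kl = 0 by rw [← Ideal.mem_bot, ← hI]; exact Ideal.mul_mem_mul (htI ij) (htI kl),
      zero_smul]
  let W : (CliffordAlgebra Q)ˣ := ⟨1 + w, 1 - w,
    by rw [mul_sub, mul_one, add_mul, one_mul, hww]; abel, by rw [mul_add, mul_one, sub_mul, one_mul, hww]; abel⟩
  let h : M ≃ₗ[A] M := LinearEquiv.ofLinearMap (LinearMap.id + D) (LinearMap.id - D)
    (LinearMap.ext fun v => by simp [hDD]) (LinearMap.ext fun v => by simp [hDD])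
  have hWconj : ∀ v, (W : CliffordAlgebra Q) * ι Q v * ↑W⁻¹ = ι Q (h v) := fun v => by
    change (1 + w) * ι Q v * (1 - w) = ι Q (v + D v)
    have h3 : ι Q v * w * w = 0 := by rw [mul_assoc, hww, mul_zero]
    rw [map_add, add_mul, one_mul, hwv, mul_sub, mul_one, add_mul, add_mul, h3, hDw]
    abel
  have hWG : W ∈ QuadGrp.GPin Q := by
    refine ⟨mem_GPin'_of_intertwines hWconj, 1, IsIdempotentElem.one, ?_, ?_⟩
    · rw [one_smul]
      exact add_mem (SetLike.one_mem_graded _) (Submodule.sum_mem _ fun ij _ =>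
        Submodule.smul_mem _ _ (ι_mul_ι_mem_evenOdd_zero Q _ _))
    · rw [sub_self, zero_smul]; exact Submodule.zero_mem _
  refine ⟨u * W, ⟨(QuadGrp.GPin Q).mul_mem hu hWG, ?_⟩, ?_⟩
  · change star ((u : CliffordAlgebra Q) * (1 + w)) * ((u : CliffordAlgebra Q) * (1 + w)) = 1
    have hsw : star w + w = algebraMap A _ (1 - c) := by
      rw [show (1 - c) = ∑ ij, t ij * QuadraticMap.polar Q (b ij.1) (b ij.2) by
        simp only [t, mul_assoc, ← Finset.mul_sum, hr, mul_one], map_sum, star_sum, ← Finset.sum_add_distrib]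
      refine Finset.sum_congr rfl fun ij _ => ?_
      rw [CliffordAlgebra.star_smul, star_mul, star_ι, star_ι, neg_mul_neg, ← smul_add, add_comm, ι_mul_ι_add_swap,
        Algebra.smul_def, ← map_mul]
    have hsq : (c - 1) * (c - 1) = 0 := by
      rw [← Ideal.mem_bot, ← hI]; exact Ideal.mul_mem_mul hc1 hc1
    have hsww : star w * w = 0 := mul_eq_zero_of_Ψ hI b (by rw [Ψ_star, hΨw, star_zero]) hΨw
    rw [star_mul, mul_assoc, ← mul_assoc (star (u : CliffordAlgebra Q)), hc, star_add, star_one,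
      ← mul_assoc, ← Algebra.commutes, mul_assoc,
      show (1 + star w) * (1 + w) = 1 + (star w + w) + star w * w by noncomm_ring, hsw, hsww, add_zero,
      ← map_one (algebraMap A (CliffordAlgebra Q)), ← map_add, ← map_mul]
    congr 1
    linear_combination -hsq
  · rw [Units.val_mul, map_mul, hΨ, show (W : CliffordAlgebra Q) = 1 + w from rfl, map_add, map_one, hΨw,
      add_zero, mul_one]

end Groth.Agent.H21Clif
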