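import Groth.Agent.H21Clif.Basic

/-!
# Regular forms: the element `z` generating the centre of the even part, the Dickson idempotent
-/

universe u v

namespace Groth.Agent.H21Clif

open CliffordAlgebra

variable {R : Type u} [CommRing R] {M : Type v} [AddCommGroup M] [Module R M]
variable {n : ℕ} (b : Module.Basis (Fin n) R M) {Q : QuadraticForm R M}

set_option linter.style.haveILetI false

lemma exists_polar_eq (hQ : QuadGrp.IsRegular Q) (d : Module.Dual R M) :
    ∃ v, QuadraticMap.polarBilin Q v = d := hQ.2 d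

include b in
lemma exists_scalar_of_supercomm (hQ : QuadGrp.IsRegular Q) (x : CliffordAlgebra Q)
    (h : ∀ v, ι Q v * x = involute x * ι Q v) : ∃ r : R, x = algebraMap R _ r := by
  refine eq_algebraMap_of_contract b Q x fun i => ?_
  obtain ⟨v, hv⟩ := exists_polar_eq hQ (b.coord i)
  rw [← hv, ← supercomm, h, sub_self]

include b in
lemma exists_scalar_of_comm (hQ : QuadGrp.IsRegular Q) (x : CliffordAlgebra Q)
    (hx : x ∈ evenOdd Q 0) (h : ∀ v, ι Q v * x = x * ι Q v) : ∃ r : R, x = algebraMap R _ r :=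
  exists_scalar_of_supercomm b hQ x fun v => by rw [involute_eq_of_mem_even hx]; exact h v

lemma even_mul {x y : CliffordAlgebra Q} (hx : x ∈ evenOdd Q 0) (hy : y ∈ evenOdd Q 0) :
    x * y ∈ evenOdd Q 0 := by
  simpa using SetLike.mul_mem_graded hx hy

lemma comm_even_of_anticomm {z : CliffordAlgebra Q}
    (h : ∀ v w, z * (ι Q v * ι Q w) = ι Q v * ι Q w * z) {x : CliffordAlgebra Q}
    (hx : x ∈ evenOdd Q 0) : z * x = x * z := by
  induction x, hx using CliffordAlgebra.even_induction with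
  | algebraMap r => exact (Algebra.commutes r z).symm
  | add x y _ _ hx hy => rw [mul_add, add_mul, hx, hy]
  | ι_mul_ι_mul m₁ m₂ x _ hx => rw [← mul_assoc, h, mul_assoc, hx, ← mul_assoc]

/-- `z` behaves like the generator of the centre of the even Clifford algebra -/
structure IsDick (Q : QuadraticForm R M) (z : CliffordAlgebra Q) (D : Rˣ) : Prop where
  mem : z ∈ evenOdd Q 0
  rel : ∀ v, z * ι Q v + ι Q v * z = ι Q v
  sq : (1 - 2 * z) * (1 - 2 * z) = algebraMap R _ (D : R)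

variable {z : CliffordAlgebra Q} {D : Rˣ}

lemma IsDick.one_sub_mem (hz : IsDick Q z D) : (1 - 2 * z) ∈ evenOdd Q 0 := by
  rw [two_mul]
  exact sub_mem (one_le_evenOdd_zero Q (Submodule.one_le.mp le_rfl)) (add_mem hz.mem hz.mem)

lemma IsDick.anticomm (hz : IsDick Q z D) (v : M) :
    (1 - 2 * z) * ι Q v = -(ι Q v * (1 - 2 * z)) := by
  have h := hz.rel v
  calc (1 - 2 * z) * ι Q v
      = -(ι Q v * (1 - 2 * z)) + (2 * ι Q v - 2 * (z * ι Q v + ι Q v * z)) := by noncomm_ring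
    _ = _ := by rw [h, sub_self, add_zero]

lemma IsDick.mul_ι (hz : IsDick Q z D) (v : M) : z * ι Q v = ι Q v * (1 - z) :=
  calc z * ι Q v = (z * ι Q v + ι Q v * z) - ι Q v * z := by abel
    _ = ι Q v - ι Q v * z := by rw [hz.rel v]
    _ = ι Q v * (1 - z) := by rw [mul_sub, mul_one]

lemma IsDick.comm_even (hz : IsDick Q z D) {x : CliffordAlgebra Q} (hx : x ∈ evenOdd Q 0) :
    z * x = x * z := by
  refine comm_even_of_anticomm (fun v w => ?_) hx
  rw [← mul_assoc, hz.mul_ι, mul_assoc, sub_mul, one_mul, hz.mul_ι]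
  noncomm_ring

lemma IsDick.odd_mul (hz : IsDick Q z D) {x : CliffordAlgebra Q} (hx : x ∈ evenOdd Q 1) :
    z * x = x * (1 - z) := by
  induction x, hx using CliffordAlgebra.odd_induction with
  | ι v => exact hz.mul_ι v
  | add x y _ _ hx hy => rw [mul_add, add_mul, hx, hy]
  | ι_mul_ι_mul m₁ m₂ x _ hx =>
    rw [← mul_assoc, hz.comm_even (ι_mul_ι_mem_evenOdd_zero Q m₁ m₂), mul_assoc, hx, ← mul_assoc]

include b in
lemma IsDick.exists_sq_sub (hQ : QuadGrp.IsRegular Q) (hz : IsDick Q z D) :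
    ∃ c : R, z * z - z = algebraMap R _ c := by
  refine exists_scalar_of_comm b hQ _ (sub_mem (even_mul hz.mem hz.mem) hz.mem) fun v => ?_
  rw [sub_mul, mul_assoc, hz.mul_ι, ← mul_assoc, hz.mul_ι]
  noncomm_ring

include b in
lemma IsDick.exists_smul_of_anticomm (hQ : QuadGrp.IsRegular Q) (hz : IsDick Q z D)
    {θ : CliffordAlgebra Q} (hθ : θ ∈ evenOdd Q 0) (h : ∀ v, θ * ι Q v = -(ι Q v * θ)) :
    ∃ r : R, θ = r • (1 - 2 * z) := by
  obtain ⟨r, hr⟩ := exists_scalar_of_comm b hQ (θ * (1 - 2 * z)) (even_mul hθ hz.one_sub_mem)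
    fun v => by rw [mul_assoc, hz.anticomm, mul_neg, ← mul_assoc θ, h, neg_mul, neg_neg, mul_assoc]
  refine ⟨r * (↑D⁻¹ : R), ?_⟩
  have h1 : θ * algebraMap R _ (D : R) = algebraMap R _ r * (1 - 2 * z) := by
    rw [← hz.sq, ← mul_assoc, hr]
  calc θ = θ * algebraMap R _ (D : R) * algebraMap R _ (↑D⁻¹ : R) := by
        rw [mul_assoc, ← map_mul, Units.mul_inv, map_one, mul_one]
    _ = _ := by
        rw [h1, mul_assoc, ← Algebra.commutes (↑D⁻¹ : R) (1 - 2 * z), ← mul_assoc, ← map_mul,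
          Algebra.smul_def]

include b in
/-- The centre of the even part is `R + R z`. -/
lemma IsDick.exists_eq_of_central (hQ : QuadGrp.IsRegular Q) (hz : IsDick Q z D) (hn : 0 < n)
    {x : CliffordAlgebra Q} (hx : x ∈ evenOdd Q 0)
    (hc : ∀ v w, x * (ι Q v * ι Q w) = ι Q v * ι Q w * x) :
    ∃ a c : R, x = algebraMap R _ a + c • z := by
  obtain ⟨f, hf⟩ := exists_polar_eq hQ (b.coord ⟨0, hn⟩)
  have hef : ι Q (b ⟨0, hn⟩) * ι Q f + ι Q f * ι Q (b ⟨0, hn⟩) = 1 := by
    rw [ι_mul_ι_add_swap, QuadraticMap.polar_comm,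
      ← QuadraticMap.polarBilin_apply_apply, hf, Module.Basis.coord_apply, Module.Basis.repr_self,
      Finsupp.single_eq_same, map_one]
  set e := b ⟨0, hn⟩
  -- `x v - v x = v θ`
  set θ := -((x * ι Q e - ι Q e * x) * ι Q f + (x * ι Q f - ι Q f * x) * ι Q e) with hθdef
  have hy : ∀ u v, (x * ι Q u - ι Q u * x) * ι Q v = -(ι Q u * (x * ι Q v - ι Q v * x)) := fun u v => by
    calc (x * ι Q u - ι Q u * x) * ι Q v
        = (x * (ι Q u * ι Q v) - ι Q u * ι Q v * x) - ι Q u * (x * ι Q v - ι Q v * x) := by noncomm_ring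
      _ = _ := by rw [hc, sub_self, zero_sub]
  have hxθ : ∀ v, x * ι Q v - ι Q v * x = ι Q v * θ := fun v => by
    calc x * ι Q v - ι Q v * x
        = (x * ι Q v - ι Q v * x) * (ι Q e * ι Q f + ι Q f * ι Q e) := by rw [hef, mul_one]
      _ = ((x * ι Q v - ι Q v * x) * ι Q e) * ι Q f + ((x * ι Q v - ι Q v * x) * ι Q f) * ι Q e := by
        rw [mul_add, mul_assoc, mul_assoc]
      _ = -(ι Q v * ((x * ι Q e - ι Q e * x) * ι Q f + (x * ι Q f - ι Q f * x) * ι Q e)) := by
        rw [hy, hy]; noncomm_ring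
      _ = _ := by rw [hθdef, mul_neg]
  have hodd : ∀ u, (x * ι Q u - ι Q u * x) ∈ evenOdd Q 1 := fun u => sub_mem
    (by simpa using SetLike.mul_mem_graded hx (ι_mem_evenOdd_one Q u))
    (by simpa using SetLike.mul_mem_graded (ι_mem_evenOdd_one Q u) hx)
  have hθ : θ ∈ evenOdd Q 0 := by
    rw [hθdef]
    refine neg_mem (add_mem ?_ ?_)
    · simpa [show (1 : ZMod 2) + 1 = 0 from rfl] using
        SetLike.mul_mem_graded (hodd e) (ι_mem_evenOdd_one Q f)
    · simpa [show (1 : ZMod 2) + 1 = 0 from rfl] using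
        SetLike.mul_mem_graded (hodd f) (ι_mem_evenOdd_one Q e)
  have hanti : ∀ v, θ * ι Q v = -(ι Q v * θ) := fun v => by
    have h0 : ∀ u, ι Q u * (θ * ι Q v + ι Q v * θ) = 0 := fun u => by
      calc ι Q u * (θ * ι Q v + ι Q v * θ)
          = (x * ι Q u - ι Q u * x) * ι Q v + ι Q u * (x * ι Q v - ι Q v * x) := by
            rw [hxθ u, hxθ v]; noncomm_ring
        _ = 0 := by rw [hy, neg_add_cancel]
    refine eq_neg_of_add_eq_zero_left ?_
    rw [← one_mul (θ * ι Q v + ι Q v * θ), ← hef, add_mul, mul_assoc, mul_assoc, h0 f, h0 e,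
      mul_zero, mul_zero, add_zero]
  obtain ⟨r, hr⟩ := hz.exists_smul_of_anticomm b hQ hθ hanti
  obtain ⟨a, ha⟩ := exists_scalar_of_comm b hQ (x - r • z) (sub_mem hx (Submodule.smul_mem _ _ hz.mem))
    fun v => by
      rw [mul_sub, sub_mul, mul_smul_comm, smul_mul_assoc, hz.mul_ι]
      have h1 := hxθ v
      rw [hr, mul_smul_comm, sub_eq_iff_eq_add] at h1
      rw [h1, mul_sub (ι Q v) 1 z, mul_sub (ι Q v) 1 (2 * z), mul_one, two_mul, mul_add, smul_sub,
        smul_sub, smul_add]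
      abel
  exact ⟨a, r, by rw [← ha, sub_add_cancel]⟩

/-- the isometry transforms `z` by an idempotent multiple of `1 - 2z` -/
lemma IsDick.exists_idem (hQ : QuadGrp.IsRegular Q) (hz : IsDick Q z D) 
    (σ : CliffordAlgebra Q →ₐ[R] CliffordAlgebra Q) (g : M ≃ₗ[R] M)
    (hσ : ∀ v, σ (ι Q v) = ι Q (g v)) (b' : Module.Basis (Fin n) R M) :
    ∃ ε : R, IsIdempotentElem ε ∧ σ z = z + ε • (1 - 2 * z) := by
  have hmem : σ z ∈ evenOdd Q 0 := by
    have : ∀ x ∈ evenOdd Q 0, σ x ∈ evenOdd Q 0 := fun x hx => by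
      induction x, hx using CliffordAlgebra.even_induction with
      | algebraMap r => rw [AlgHom.commutes]; exact SetLike.algebraMap_mem_graded _ _
      | add x y _ _ hx hy => rw [map_add]; exact add_mem hx hy
      | ι_mul_ι_mul m₁ m₂ x _ hx =>
        rw [map_mul, map_mul, hσ, hσ]
        exact even_mul (ι_mul_ι_mem_evenOdd_zero Q _ _) hx
    exact this _ hz.mem
  have hrel : ∀ v, σ z * ι Q v + ι Q v * σ z = ι Q v := fun v => by
    have h := congrArg σ (hz.rel (g.symm v))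
    rwa [map_add, map_mul, map_mul, hσ, g.apply_symm_apply] at h
  obtain ⟨r, hr⟩ := hz.exists_smul_of_anticomm b' hQ (θ := σ z - z) (sub_mem hmem hz.mem) fun v => by
    refine eq_neg_of_add_eq_zero_left ?_
    calc (σ z - z) * ι Q v + ι Q v * (σ z - z)
        = (σ z * ι Q v + ι Q v * σ z) - (z * ι Q v + ι Q v * z) := by noncomm_ring
      _ = 0 := by rw [hrel, hz.rel, sub_self]
  have hσz : σ z = z + r • (1 - 2 * z) := by rw [← hr]; abel
  refine ⟨r, ?_, hσz⟩
  obtain ⟨c, hc⟩ := hz.exists_sq_sub b' hQ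
  have h := congrArg σ hc
  rw [AlgHom.commutes, map_sub, map_mul, hσz, ← hc] at h
  have hw : (r * r - r) • ((1 - 2 * z) * (1 - 2 * z)) = 0 := by
    rw [← sub_eq_zero] at h
    refine Eq.trans ?_ h
    simp only [Algebra.smul_def, map_mul, map_sub]
    have hcz := Algebra.commutes r z
    noncomm_ring
    simp only [← mul_assoc, ← hcz]
    noncomm_ring
  rw [hz.sq, Algebra.smul_def, ← map_mul, ← map_zero (algebraMap R (CliffordAlgebra Q))] at hw
  have := algebraMap_injective b' Q hw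
  exact sub_eq_zero.mp (D.mul_left_eq_zero.mp this)

end Groth.Agent.H21Clif
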