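import Groth.Agent.H21Clif.SplitEven
import Mathlib.Algebra.Field.ZMod

/-!
# The naive special orthogonal group scheme of the even split form over the integers
-/

namespace Groth.Agent.H21Clif.SplitEven

open Matrix CategoryTheory AlgebraicGeometry TensorProduct
open scoped MonObj

set_option linter.style.haveILetI false
set_option linter.unusedSectionVars false
set_option maxHeartbeats 1000000
set_option synthInstance.maxHeartbeats 100000

variable {m : ℕ}

/-- the Gram matrix of the prelude's split form -/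
noncomputable def gram (m : ℕ) : Matrix (Fin (2 * m)) (Fin (2 * m)) ℤ :=
  LinearMap.BilinForm.toMatrix (Pi.basisFun ℤ (Fin (2 * m)))
    ((QuadGrp.splitForm ℤ (2 * m)).toBilin (Pi.basisFun ℤ (Fin (2 * m))))

lemma toQuadraticMap_J (m : ℕ) :
    (Matrix.toBilin' ((J m ℤ).submatrix (eN m).symm (eN m).symm)).toQuadraticMap =
      QuadGrp.splitForm ℤ (2 * m) := by
  refine QuadraticMap.ext fun x => ?_
  rw [LinearMap.BilinMap.toQuadraticMap_apply, Matrix.toBilin'_apply, ← (eN m).sum_comp]
  have h1 : ∀ a, ∑ l, x (eN m a) * (J m ℤ).submatrix (eN m).symm (eN m).symm (eN m a) l * x l =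
      ∑ b, x (eN m a) * J m ℤ a b * x (eN m b) := fun a => by
    rw [← (eN m).sum_comp]
    simp
  simp only [h1, Fintype.sum_sum_type]
  have hne : ¬ (2 * m) % 2 = 1 := by omega
  simp only [QuadGrp.splitForm, dif_neg hne, add_zero, QuadraticMap.sum_apply, QuadraticMap.linMulLin_apply,
    LinearMap.proj_apply]
  simp only [J, Matrix.fromBlocks_apply₁₁, Matrix.fromBlocks_apply₁₂, Matrix.fromBlocks_apply₂₁,
    Matrix.fromBlocks_apply₂₂, Matrix.zero_apply, Matrix.one_apply, mul_zero, zero_mul, Finset.sum_const_zero,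
    zero_add, add_zero, mul_ite, mul_one, ite_mul, Finset.sum_ite_eq, Finset.mem_univ, if_true]
  refine Fintype.sum_equiv (finCongr (by omega : m = 2 * m / 2)) _ _ fun i => ?_
  congr 1 <;> congr 1 <;> exact Fin.ext (by simp [eN])

lemma ofMat_gram (m : ℕ) : ofMat (gram m) = ofMat ((J m ℤ).submatrix (eN m).symm (eN m).symm) := by
  rw [gram, ← coeffs_gram, coeffs_eq_ofMat (Pi.basisFun ℤ (Fin (2 * m))) _ (toQuadraticMap_J m),
    LinearMap.BilinForm.toMatrix_basisFun, LinearMap.BilinForm.toMatrix'_toBilin']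

lemma isUnit_det_gram (m : ℕ) : IsUnit (gram m + (gram m)ᵀ).det := by
  rw [polar_of_ofMat (ofMat_gram m), show (J m ℤ).submatrix (eN m).symm (eN m).symm +
      ((J m ℤ).submatrix (eN m).symm (eN m).symm)ᵀ = (J m ℤ + (J m ℤ)ᵀ).submatrix (eN m).symm (eN m).symm from rfl,
    Matrix.det_submatrix_equiv_self]
  refine IsUnit.of_mul_eq_one (J m ℤ + (J m ℤ)ᵀ).det ?_
  rw [← Matrix.det_mul]
  simp [J, Matrix.fromBlocks_transpose, Matrix.fromBlocks_add, Matrix.fromBlocks_multiply, Matrix.fromBlocks_one]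

/-- block matrix of a point -/
def mat {A : Type} (x : Fin (2 * m) × Fin (2 * m) → A) : Matrix (N m) (N m) A :=
  Matrix.of fun a b => x (eN m a, eN m b)

/-- point of a block matrix -/
def unmat {A : Type} (M : Matrix (N m) (N m) A) : Fin (2 * m) × Fin (2 * m) → A :=
  fun p => M ((eN m).symm p.1) ((eN m).symm p.2)

lemma mat_unmat {A : Type} (M : Matrix (N m) (N m) A) : mat (unmat M) = M := by
  ext a b; simp [mat, unmat]

lemma unmat_mat {A : Type} (x : Fin (2 * m) × Fin (2 * m) → A) : unmat (mat x) = x := by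
  funext p; simp [mat, unmat]

lemma mat_comp {A B : Type} (f : A → B) (x : Fin (2 * m) × Fin (2 * m) → A) :
    mat (f ∘ x) = (mat x).map f := rfl

lemma sol_iff (A : Type) [CommRing A] [Algebra ℤ A] (x : Fin (2 * m) × Fin (2 * m) → A) :
    (∀ k, (sorthEqs (gram m)).F A x k = 0) ↔ IsOrth (mat x) ∧ (mat x).det = 1 := by
  rw [Sum.forall]
  refine and_congr ?_ ?_
  · simp only [sorthEqs_inl]
    rw [orthEqs_eq_zero_iff]
    have hC : ofMat ((gram m).map (algebraMap ℤ A)) = ofMat ((J m A).submatrix (eN m).symm (eN m).symm) := by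
      rw [← ofMat_map, ofMat_gram, ofMat_map, ← Matrix.submatrix_map]
      congr 2
      simp [J, Matrix.fromBlocks_map]
    rw [ofMat_congr hC, hC, ofMat_eq_iff]
    rw [← alt_submatrix_iff (eN m), IsOrth]
    refine iff_of_eq (congrArg Alt ?_)
    ext a b
    simp only [Matrix.submatrix_apply, Matrix.sub_apply, Matrix.mul_apply, Matrix.transpose_apply, Matrix.of_apply,
      Equiv.symm_apply_apply, mat]
    rw [← (eN m).sum_comp]
    refine congrArg (· - _) (Finset.sum_congr rfl fun c _ => ?_)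
    rw [← (eN m).sum_comp]
    simp
  · simp only [sorthEqs_inr, sub_eq_zero, forall_const]
    rw [show (Matrix.of fun i j => x (i, j)).det = ((Matrix.of fun i j => x (i, j)).submatrix (eN m) (eN m)).det
      from (Matrix.det_submatrix_equiv_self _ _).symm]
    rfl

/-- coordinate ring -/
abbrev H (m : ℕ) : Type := (sorthEqs (gram m)).H

/-- the universal block matrix -/
noncomputable def MU (m : ℕ) : Matrix (N m) (N m) (H m) := mat (sorthEqs (gram m)).univ

lemma isOrth_MU : IsOrth (MU m) ∧ (MU m).det = 1 := (sol_iff (H m) _).mp (sorthEqs (gram m)).univ_spec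

lemma IsOrth.map {A B : Type} [CommRing A] [CommRing B] (f : A →+* B) {M : Matrix (N m) (N m) A} (h : IsOrth M) :
    IsOrth (M.map f) := by
  have hJ : J m B = (J m A).map f := by simp [J, Matrix.fromBlocks_map]
  have e : (M.map f)ᵀ * (J m A).map f * M.map f - (J m A).map f = (Mᵀ * J m A * M - J m A).map f := by
    rw [Matrix.map_sub _ (map_sub f), Matrix.map_mul, Matrix.map_mul, Matrix.transpose_map]
  rw [IsOrth, hJ, e]
  exact ⟨fun i => by rw [Matrix.map_apply, h.1 i, map_zero],
    by rw [← Matrix.transpose_map, h.2]; ext i j; simp⟩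

/-- chart function -/
noncomputable def dI (I : Finset (Fin m)) : H m := ((MU m).submatrix (flip I) id).toBlocks₁₁.det

lemma map_dI {A : Type} [CommRing A] (f : H m →+* A) (I : Finset (Fin m)) :
    f (dI I) = (((MU m).map f).submatrix (flip I) id).toBlocks₁₁.det := by
  rw [dI, RingHom.map_det]
  rfl

lemma sgn_eq_one {A : Type} [CommRing A] (f : H m →+* A) (I : Finset (Fin m)) (hu : IsUnit (f (dI I))) :
    sgn I A = 1 := by
  have hM : IsOrth ((MU m).map f) := isOrth_MU.1.map f
  have hdet : ((MU m).map f).det = 1 := by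
    rw [← RingHom.mapMatrix_apply, ← RingHom.map_det, isOrth_MU.2, map_one]
  rw [map_dI] at hu
  have h1 := Matrix.mul_nonsing_inv _ hu
  obtain ⟨Y, Z, -, -, hb⟩ := exists_build_eq (hM.flip I) h1
  have h2 := congrArg Matrix.det hb
  rwa [det_flip, hdet, _root_.mul_one, det_build h1] at h2

/-- parameters of a chart -/
abbrev Param (m : ℕ) := (Fin m × Fin m) ⊕ UT m ⊕ UT m

/-- chart reducedness -/
theorem isReduced_away (I : Finset (Fin m)) (K : Type) [CommRing K] [IsDomain K]
    (hK : sgn I K = 1) (hf : ∀ (A : Type) [CommRing A], sgn I A = 1 → Nonempty (K →+* A)) :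
    IsReduced (Localization.Away (dI I)) := by
  classical
  let P₀ : Matrix (Fin m) (Fin m) (MvPolynomial (Param m) K) :=
    Matrix.of fun i j => MvPolynomial.X (Sum.inl (i, j))
  let W := Localization.Away P₀.det
  let ℓ : MvPolynomial (Param m) K →+* W := algebraMap _ _
  let P : Matrix (Fin m) (Fin m) W := P₀.map ℓ
  have hPu : IsUnit P.det := by
    rw [show P.det = ℓ P₀.det from (RingHom.map_det ℓ P₀).symm]
    exact IsLocalization.Away.algebraMap_isUnit P₀.det
  let y : UT m → W := fun p => ℓ (MvPolynomial.X (Sum.inr (Sum.inl p)))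
  let z : UT m → W := fun p => ℓ (MvPolynomial.X (Sum.inr (Sum.inr p)))
  let MW := (build P P⁻¹ (altOf y) (altOf z)).submatrix (flip I) id
  have hMW : IsOrth MW ∧ MW.det = 1 := by
    refine ⟨(isOrth_build (Matrix.mul_nonsing_inv _ hPu) (alt_altOf y) (alt_altOf z)).flip I, ?_⟩
    rw [det_flip, det_build (Matrix.mul_nonsing_inv _ hPu), _root_.mul_one]
    have := congrArg (ℓ.comp MvPolynomial.C) hK
    simpa [sgn] using this
  obtain ⟨φ, hφ⟩ := (sorthEqs (gram m)).exists_hom (A := W) (unmat MW)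
    ((sol_iff W (unmat MW)).mpr (by rwa [mat_unmat]))
  have hφM : (MU m).map φ.toRingHom = MW := by
    rw [MU, ← mat_comp]
    exact (congrArg mat hφ).trans (mat_unmat MW)
  have hφd : IsUnit (φ.toRingHom (dI I)) := by
    rw [map_dI, hφM, flip_flip_submatrix, build, Matrix.toBlocks_fromBlocks₁₁]
    exact hPu
  let L := Localization.Away (dI I)
  let q : H m →+* L := algebraMap _ _
  let φ' : L →+* W := IsLocalization.Away.lift (dI I) hφd
  have hqd : IsUnit (q (dI I)) := IsLocalization.Away.algebraMap_isUnit (dI I)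
  let M' := ((MU m).map q).submatrix (flip I) id
  have hP' : IsUnit M'.toBlocks₁₁.det := by rwa [← map_dI]
  obtain ⟨Y, Z, hY, hZ, hb⟩ := exists_build_eq ((isOrth_MU.1.map q).flip I) (Matrix.mul_nonsing_inv _ hP')
  obtain ⟨f⟩ := hf L (sgn_eq_one q I hqd)
  let v : Param m → L :=
    Sum.elim (fun p => M'.toBlocks₁₁ p.1 p.2) (Sum.elim (fun p => Y p.1.1 p.1.2) fun p => Z p.1.1 p.1.2)
  let ψ₀ : MvPolynomial (Param m) K →+* L := MvPolynomial.eval₂Hom f v
  have hψ₀ : ψ₀.mapMatrix P₀ = M'.toBlocks₁₁ := by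
    ext i j
    simp [P₀, ψ₀, v]
  have hψd : IsUnit (ψ₀ P₀.det) := by rwa [RingHom.map_det, hψ₀]
  let ψ : W →+* L := IsLocalization.Away.lift P₀.det hψd
  have hψℓ : ∀ a, ψ (ℓ a) = ψ₀ a := fun a => IsLocalization.Away.lift_eq _ hψd a
  have hψP : P.map ψ = M'.toBlocks₁₁ := by
    rw [← hψ₀]
    ext i j
    exact hψℓ _
  have hψPi : P⁻¹.map ψ = M'.toBlocks₁₁⁻¹ := by
    refine (Matrix.inv_eq_right_inv ?_).symm
    rw [← hψP, ← Matrix.map_mul, Matrix.mul_nonsing_inv _ hPu, Matrix.map_one _ (map_zero ψ) (map_one ψ)]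
  have hψy : (altOf y).map ψ = Y := by
    rw [altOf_map, ← altOf_eq hY]
    congr 1
    funext p
    simp [y, hψℓ, ψ₀, v]
  have hψz : (altOf z).map ψ = Z := by
    rw [altOf_map, ← altOf_eq hZ]
    congr 1
    funext p
    simp [z, hψℓ, ψ₀, v]
  have hψM : MW.map ψ = (MU m).map q := by
    rw [show MW.map ψ = ((build P P⁻¹ (altOf y) (altOf z)).map ψ).submatrix (flip I) id from rfl, build_map, hψP,
      hψPi, hψy, hψz, ← hb, flip_flip_submatrix]
  have hcomp : ψ.comp φ' = RingHom.id L := by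
    refine IsLocalization.ringHom_ext (Submonoid.powers (dI I)) ?_
    have h2 : ∀ p, ψ (φ ((sorthEqs (gram m)).univ p)) = q ((sorthEqs (gram m)).univ p) := fun p => by
      have h3 := congrFun (congrFun hψM ((eN m).symm p.1)) ((eN m).symm p.2)
      rw [← hφM] at h3
      simp only [MU, mat, Matrix.map_apply, Matrix.of_apply, Equiv.apply_symm_apply] at h3
      exact h3
    refine Ideal.Quotient.ringHom_ext (MvPolynomial.ringHom_ext (fun r => ?_) fun p => ?_)
    · simp
    · change ψ (φ' (q ((sorthEqs (gram m)).univ p))) = q ((sorthEqs (gram m)).univ p)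
      rw [show φ' (q ((sorthEqs (gram m)).univ p)) = φ ((sorthEqs (gram m)).univ p) from
        IsLocalization.Away.lift_eq _ hφd _]
      exact h2 p
  exact isReduced_of_injective φ' (Function.LeftInverse.injective (g := ψ) fun a => RingHom.congr_fun hcomp a)

lemma sgn_int_cases (I : Finset (Fin m)) :
    (∀ (A : Type) [CommRing A], sgn I A = 1) ∨ (∀ (A : Type) [CommRing A], sgn I A = -1) := by
  rcases Int.units_eq_one_or (Equiv.Perm.sign (flip I)) with h | h
  · exact Or.inl fun A _ => by simp [sgn, h]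
  · exact Or.inr fun A _ => by simp [sgn, h]

theorem isReduced_H : IsReduced (H m) := by
  haveI hloc : ∀ I : Finset (Fin m), IsReduced (Localization.Away (dI I)) := fun I => by
    rcases sgn_int_cases I with h | h
    · exact isReduced_away I ℤ (h ℤ) fun A _ _ => ⟨Int.castRingHom A⟩
    · haveI : Fact (Nat.Prime 2) := ⟨Nat.prime_two⟩
      refine isReduced_away I (ZMod 2) (by rw [h]; decide) fun A _ hA => ?_
      rw [h] at hA
      have h2 : ((2 : ℕ) : A) = 0 := by push_cast; linear_combination -hA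
      haveI := ringChar.charP A
      exact ⟨ZMod.castHom ((CharP.cast_eq_zero_iff A (ringChar A) 2).mp h2) A⟩
  refine ⟨fun x hx => ?_⟩
  by_contra hne
  let ann : Ideal (H m) := LinearMap.ker (LinearMap.toSpanSingleton (H m) (H m) x)
  obtain ⟨p, hp, hle⟩ := Ideal.exists_le_maximal ann fun ht => hne (by
    have h1 : (1 : H m) ∈ ann := ht ▸ Submodule.mem_top
    simpa [ann] using h1)
  letI := Ideal.Quotient.field p
  let π : H m →+* H m ⧸ p := Ideal.Quotient.mk p
  obtain ⟨I, hI⟩ := exists_flip_isUnit (isOrth_MU.1.map π)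
  rw [← map_dI] at hI
  have h0 : algebraMap (H m) (Localization.Away (dI I)) x = 0 := (hx.map _).eq_zero
  obtain ⟨⟨_, n, rfl⟩, hn⟩ := (IsLocalization.map_eq_zero_iff (Submonoid.powers (dI I)) _ x).mp h0
  have hmem : dI I ^ n ∈ p := hle (by simpa [ann] using hn)
  refine hI.ne_zero ?_
  exact Ideal.Quotient.eq_zero_iff_mem.mpr (hp.isPrime.mem_of_pow_mem n hmem)

theorem not_flat_H (hm : 1 ≤ m) : ¬ Module.Flat ℤ (H m) := by
  intro hfl
  let I : Finset (Fin m) := {⟨0, hm⟩}
  have hs : ∀ (A : Type) [CommRing A], sgn I A = -1 := fun A _ => by simp [sgn, I, flip_singleton]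
  let q : H m →+* Localization.Away (dI I) := algebraMap _ _
  have h2 : q 2 = 0 := by
    have h := sgn_eq_one q I (IsLocalization.Away.algebraMap_isUnit (dI I))
    rw [hs] at h
    rw [map_ofNat]
    linear_combination -h
  obtain ⟨⟨_, n, rfl⟩, hn⟩ := (IsLocalization.map_eq_zero_iff (Submonoid.powers (dI I)) _ (2 : H m)).mp h2
  have hreg : IsSMulRegular (H m) (2 : ℤ) :=
    Module.Flat.isSMulRegular_of_nonZeroDivisors (mem_nonZeroDivisors_of_ne_zero two_ne_zero)
  have hd : dI I ^ n = 0 := hreg (by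
    change (2 : ℤ) • dI I ^ n = (2 : ℤ) • (0 : H m)
    rw [smul_zero, zsmul_eq_mul, mul_comm]
    exact_mod_cast hn)
  let M₀ : Matrix (N m) (N m) (ZMod 2) := (1 : Matrix (N m) (N m) (ZMod 2)).submatrix (flip I) id
  have h1 : IsOrth (1 : Matrix (N m) (N m) (ZMod 2)) := by
    have : (1 : Matrix (N m) (N m) (ZMod 2))ᵀ * J m _ * 1 - J m _ = 0 := by simp
    rw [IsOrth, this]
    exact ⟨fun i => rfl, by simp⟩
  have hsol : IsOrth M₀ ∧ M₀.det = 1 := ⟨h1.flip I, by rw [det_flip, hs, Matrix.det_one]; decide⟩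
  obtain ⟨φ, hφ⟩ := (sorthEqs (gram m)).exists_hom (A := ZMod 2) (unmat M₀)
    ((sol_iff (ZMod 2) (unmat M₀)).mpr (by rwa [mat_unmat]))
  have hφM : (MU m).map φ.toRingHom = M₀ := by
    rw [MU, ← mat_comp]
    exact (congrArg mat hφ).trans (mat_unmat M₀)
  have h3 := congrArg φ.toRingHom hd
  have h4 : (1 : Matrix (N m) (N m) (ZMod 2)).toBlocks₁₁ = 1 := by
    ext i j; simp [Matrix.toBlocks₁₁, Matrix.one_apply]
  rw [map_pow, map_dI, hφM, flip_flip_submatrix, h4, Matrix.det_one, one_pow, map_zero] at h3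
  exact one_ne_zero h3

set_option backward.isDefEq.respectTransparency false in
theorem reduced_not_flat (hm : 1 ≤ m) (G : Over (Spec (CommRingCat.of ℤ))) [GrpObj G]
    (D : QuadGrp.SOrth'Rep (QuadGrp.splitForm ℤ (2 * m)) G) :
    AlgebraicGeometry.IsReduced G.left ∧ ¬ AlgebraicGeometry.Flat G.hom := by
  obtain ⟨ξ, hξ⟩ := H21Rep.exists_iso (sorthEqs (gram m)) G
    (fun A _ _ => (D.pts A).toEquiv.trans
      (sorthEquiv (gram m) (QuadGrp.splitForm ℤ (2 * m)) rfl A (Or.inl (isUnit_det_gram m))))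
    fun A B _ _ _ _ φ y => matCoord_natural φ _ _ (D.natural A B φ y)
  haveI : IsIso ξ.left := inferInstanceAs (IsIso ((Over.forget _).map ξ))
  haveI : IsReduced (CommRingCat.of (H m)) := isReduced_H (m := m)
  haveI : AlgebraicGeometry.IsReduced (QuadGrp.specOver ℤ (H m)).left :=
    inferInstanceAs (AlgebraicGeometry.IsReduced (Spec (CommRingCat.of (H m))))
  haveI : IsOpenImmersion (CategoryTheory.inv ξ.left) := inferInstance
  refine ⟨isReduced_of_isOpenImmersion (CategoryTheory.inv ξ.left), fun hfl => ?_⟩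
  have h : Flat (Spec.map (CommRingCat.ofHom (algebraMap ℤ (H m)))) := by
    have e : ξ.left ≫ G.hom = Spec.map (CommRingCat.ofHom (algebraMap ℤ (H m))) := Over.w ξ
    rw [← e]
    haveI : Flat ξ.left := inferInstance
    exact MorphismProperty.comp_mem _ _ _ this hfl
  rw [HasRingHomProperty.Spec_iff (P := @Flat), CommRingCat.hom_ofHom, RingHom.flat_algebraMap_iff] at h
  exact not_flat_H hm h

end Groth.Agent.H21Clif.SplitEven
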