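import Groth.Agent.H21Clif.Split
import Groth.Agent.H21Clif.OrthScheme

/-!
# The standard split form of odd rank
-/

universe u

namespace Groth.Agent.H21Clif

open TensorProduct

set_option linter.style.haveILetI false

variable {A : Type u} [CommRing A] {m : ℕ}

lemma splitForm_apply (x : Fin (2 * m + 1) → A) :
    QuadGrp.splitForm A (2 * m + 1) x = ∑ i : Fin m, x (iE i) * x (iF i) + x 0 * x 0 := by
  have h1 : (2 * m + 1) % 2 = 1 := by omega
  have h2 : (2 * m + 1) / 2 = m := by omega
  simp only [QuadGrp.splitForm, dif_pos h1, add_apply, QuadraticMap.sum_apply,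
    QuadraticMap.linMulLin_apply, LinearMap.proj_apply, QuadraticMap.comp_apply, QuadraticMap.sq_apply]
  congr 1
  refine Fintype.sum_equiv (finCongr h2) _ _ fun i => ?_
  congr 1 <;> congr 1 <;> exact Fin.ext (by simp [iE, iF, h1]; try omega)

lemma polar_splitForm (x y : Fin (2 * m + 1) → A) :
    QuadraticMap.polar (QuadGrp.splitForm A (2 * m + 1)) x y =
      ∑ i : Fin m, (x (iE i) * y (iF i) + y (iE i) * x (iF i)) + 2 * (x 0 * y 0) := by
  simp only [QuadraticMap.polar, splitForm_apply, Pi.add_apply]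
  have : ∀ i : Fin m, (x (iE i) + y (iE i)) * (x (iF i) + y (iF i)) =
      (x (iE i) * y (iF i) + y (iE i) * x (iF i)) + x (iE i) * x (iF i) + y (iE i) * y (iF i) := fun i => by ring
  simp only [this, Finset.sum_add_distrib]
  ring

lemma isSplit_splitForm : IsSplit (Pi.basisFun A (Fin (2 * m + 1))) (QuadGrp.splitForm A (2 * m + 1)) := by
  classical
  have hE0 : ∀ i : Fin m, iE i ≠ 0 := fun i h => by simp [iE, Fin.ext_iff] at h
  have hF0 : ∀ i : Fin m, iF i ≠ 0 := fun i h => by simp [iF, Fin.ext_iff] at h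
  have hEF : ∀ i j : Fin m, iE i ≠ iF j := fun i j h => by simp [iE, iF, Fin.ext_iff] at h; omega
  have hE : ∀ i j : Fin m, iE i = iE j ↔ i = j := fun i j => by simp [iE, Fin.ext_iff]
  have hF : ∀ i j : Fin m, iF i = iF j ↔ i = j := fun i j => by simp [iF, Fin.ext_iff]
  refine ⟨fun k l h1 h2 => ?_, ?_, fun i => ?_, fun i => ?_, fun i => ?_⟩ <;>
    simp only [Pi.basisFun_apply, splitForm_apply, polar_splitForm]
  · have h3 : ∀ i : Fin m, ¬ (k = iE i ∧ l = iF i) ∧ ¬ (k = iF i ∧ l = iE i) := fun i =>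
      ⟨fun h => h2 ⟨i, Or.inl h⟩, fun h => h2 ⟨i, Or.inr h⟩⟩
    rw [Finset.sum_eq_zero, zero_add]
    · by_cases hk : k = 0
      · subst hk; simp [Pi.single_eq_of_ne h1]
      · simp [Pi.single_eq_of_ne (Ne.symm hk)]
    · intro i _
      simp only [Pi.single_apply]
      rw [show (if iE i = k then (1 : A) else 0) * (if iF i = l then (1 : A) else 0) = 0 by
          split_ifs with a c <;> first | exact (False.elim ((h3 i).1 ⟨a.symm, c.symm⟩)) | simp,
        show (if iE i = l then (1 : A) else 0) * (if iF i = k then (1 : A) else 0) = 0 by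
          split_ifs with a c <;> first | exact (False.elim ((h3 i).2 ⟨c.symm, a.symm⟩)) | simp, add_zero]
  · simp [Pi.single_apply, hE0, hF0]
  · simp [Pi.single_apply, hE, (hEF _ _).symm, Ne.symm (hE0 i)]
  · simp [Pi.single_apply, hF, hEF, Ne.symm (hF0 i)]
  · simp [Pi.single_apply, hE, hF, hEF, (hEF _ _).symm, Ne.symm (hE0 i), Ne.symm (hF0 i)]

variable {M : Type u} [AddCommGroup M] [Module A M]

/-- split bases have equal coefficient tables -/
lemma IsSplit.coeffs_eq {d : Module.Basis (Fin (2 * m + 1)) A M} {Q : QuadraticForm A M} (h : IsSplit d Q)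
    {M' : Type u} [AddCommGroup M'] [Module A M'] {d' : Module.Basis (Fin (2 * m + 1)) A M'}
    {Q' : QuadraticForm A M'} (h' : IsSplit d' Q') :
    QuadGrp.coeffs d (LinearEquiv.refl A A) Q = QuadGrp.coeffs d' (LinearEquiv.refl A A) Q' := by
  refine funext fun p => Sym2.ind (fun k l => ?_) p
  rw [QuadGrp.coeffs_mk, QuadGrp.coeffs_mk]
  by_cases hkl : k = l
  · subst hkl
    simp only [if_true, LinearEquiv.refl_apply]
    rcases idx_cases k with rfl | ⟨i, rfl⟩ | ⟨i, rfl⟩
    · rw [h.v, h'.v]
    · rw [h.e, h'.e]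
    · rw [h.f, h'.f]
  · simp only [if_neg hkl, LinearEquiv.refl_apply]
    by_cases hp : Pair k l
    · obtain ⟨i, ⟨rfl, rfl⟩ | ⟨rfl, rfl⟩⟩ := hp
      · rw [h.p, h'.p]
      · rw [QuadraticMap.polar_comm, h.p, QuadraticMap.polar_comm, h'.p]
    · rw [h.zero k l hkl hp, h'.zero k l hkl hp]

/-- forms with split bases are isometric -/
lemma IsSplit.isometryEquiv {d : Module.Basis (Fin (2 * m + 1)) A M} {Q : QuadraticForm A M} (h : IsSplit d Q)
    {M' : Type u} [AddCommGroup M'] [Module A M'] {d' : Module.Basis (Fin (2 * m + 1)) A M'}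
    {Q' : QuadraticForm A M'} (h' : IsSplit d' Q') : Nonempty (Q.IsometryEquiv Q') := by
  let L := d.equiv d' (Equiv.refl _)
  have hL : ∀ k, L (d k) = d' k := fun k => by simp [L]
  have key : Q'.comp L.toLinearMap = Q := by
    refine ext_coeffs d (Eq.trans ?_ (h.coeffs_eq h').symm)
    refine funext fun p => Sym2.ind (fun k l => ?_) p
    simp [QuadGrp.coeffs_mk, QuadraticMap.polar, QuadraticMap.comp_apply, hL]
  exact ⟨⟨L, fun v => congrArg (fun q => q v) key⟩⟩

/-- split bases are stable under base change -/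
lemma IsSplit.baseChange {R : Type u} [CommRing R] {N : Type u} [AddCommGroup N] [Module R N] [Module.Free R N]
    {d : Module.Basis (Fin (2 * m + 1)) R N} {Q : QuadraticForm R N} (h : IsSplit d Q) (B : Type u) [CommRing B]
    [Algebra R B] : IsSplit (Algebra.TensorProduct.basis B d) (QuadGrp.baseChangeForm B Q) := by
  constructor
  · intro k l h1 h2
    simp [Algebra.TensorProduct.basis_apply, polar_baseChangeForm_tmul, h.zero k l h1 h2]
  · simp [Algebra.TensorProduct.basis_apply, baseChangeForm_tmul, h.v]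
  · intro i; simp [Algebra.TensorProduct.basis_apply, baseChangeForm_tmul, h.e]
  · intro i; simp [Algebra.TensorProduct.basis_apply, baseChangeForm_tmul, h.f]
  · intro i; simp [Algebra.TensorProduct.basis_apply, polar_baseChangeForm_tmul, h.p]

end Groth.Agent.H21Clif
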